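import Cfsg.Agent.Lib.BG.Hall
import Cfsg.Agent.Lib.Transfer.Criteria
import Cfsg.Agent.Lib.PLocal.Thompson
import Cfsg.Agent.S0117

/-! Deskins–Janko–Thompson: a nilpotent maximal subgroup with Sylow 2-subgroup of class at most 2. -/

set_option autoImplicit false

namespace Cfsg.Lib.FGS

open Subgroup Cfsg.Lib.BG Cfsg.Lib.Transfer

universe u

theorem isSolvable_of_max_nil_aux (n : ℕ) : ∀ (G : Type u) [Group G] [Finite G], Nat.card G = n → ∀ M S : Subgroup G,
    IsCoatom M → Group.IsNilpotent M → Syl 2 S M → ⁅⁅S, S⁆, S⁆ = ⊥ → Group.IsSolvable G := by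
  induction n using Nat.strong_induction_on with
  | _ n ih =>
  intro G _ _ hn M S hM hnil hS hc
  by_cases h : ∃ N : Subgroup G, N.Normal ∧ N ≠ ⊥ ∧ N ≤ M
  · obtain ⟨N, _, h1, h2⟩ := h
    haveI := nil_sol (nil_of_le hnil h2)
    haveI := ih _ (hn ▸ N.card_mul_index ▸ lt_mul_of_one_lt_left Nat.card_pos (one_lt_card_iff_ne_bot N |>.2 h1)) (G ⧸ N) rfl
      _ _ (Core.isCoatom_map_mk' h2 hM) (Core.isNilpotent_map _ hnil) (hS.map _)
      (by rw [← map_commutator, ← map_commutator, hc, Subgroup.map_bot])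
    exact Group.isSolvable_of_ker_le_range N.subtype (QuotientGroup.mk' N) (by simp)
  have key : ∀ N : Subgroup G, N ≠ ⊥ → N ≤ M → M ≤ 𝐍(N) → 𝐍(N) = M := fun N a b c =>
    ((hM.le_iff.1 c).resolve_left fun e => h ⟨N, normalizer_eq_top_iff.1 e, a, b⟩)
  have syl : ∀ p : ℕ, p.Prime → p ∣ Nat.card M → ∀ P, Syl p P M → Syl p P ⊤ := fun p hp hd P hP => by
    haveI := Fact.mk hp
    exact hP.of_norm_le le_top (inf_le_right.trans (key P (hP.ne_bot' hd) hP.le (hP.nml_of_nil hnil).norm).le)
  obtain ⟨K, _, hK⟩ := exists_normal_complement_of_forall_prime M (Nat.coprime_of_dvd fun p hp h1 h2 => by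
      haveI := Fact.mk hp
      obtain ⟨P, hP⟩ := Syl.exists (p := p) M
      exact (syl p hp h1 P hP).not_dvd' (h2.trans (by rw [relIndex_top_right]; exact index_dvd_of_le hP.le)))
    fun p hp h1 => by
      haveI := Fact.mk hp
      have hM' : HasNormalPComplement p M := hasNormalPComplement_of_isNilpotent
      by_cases h2 : p = 2
      · subst h2
        obtain ⟨P, rfl⟩ := Syl.top_iff_sylow.1 (syl 2 hp h1 S hS)
        have h3 := (hS.nml_of_nil hnil).norm
        have h4 := center_ne_bot_of_nil hS.nil (hS.ne_bot' h1)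
        have h5 := key _ h4 (inf_le_left.trans hS.le) (norm_center h3)
        have h6 : ⁅(P : Subgroup G), (P : Subgroup G)⁆ ≤ 𝐙((P : Subgroup G)) := le_inf (der_le _) (comm_eq_bot_iff.1 hc)
        refine hasNormalPComplement_of_controls_transfer P hS.le ((gruen_commutator_inf P inf_le_right
          ⟨inf_le_left, fun g hg => ?_⟩).le.trans (inf_le_left.trans (by rw [h5]))) hM'
        have h7 : 𝐙((P : Subgroup G)) ≤ g ⋆ (P : Subgroup G) := ((hS.conj g).ge_of_normal (by
          rw [← conj_normalizer]; exact conj_mono g h3) (by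
            rw [← h5, conj_normalizer]; exact norm_of_cent (cent_mono inf_le_right le_rfl hg))
          (PiGrp.p_iff.2 (pgroup_of_le hS.pgroup inf_le_left)))
        have h8 := key (𝐙((P : Subgroup G)) ⊔ g ⋆ 𝐙((P : Subgroup G))) (ne_bot_mono h4 le_sup_left)
          ((sup_le inf_le_left hg).trans hS.le) (by
            refine (nil_pcore_dprod hnil {2}).sup.ge.trans (sup_le ?_ (norm_of_cent ?_))
            · rw [← hS.eq_of_nil hnil]
              exact (Nml.of_der_le (h6.trans le_sup_left) (sup_le inf_le_left hg)).norm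
            · refine cent_mono (cent_symm (nil_pcore_dprod hnil {2}).cent) le_rfl ?_
              rw [← hS.eq_of_nil hnil]; exact sup_le inf_le_left hg)
        have h9 : g ⋆ (P : Subgroup G) ≤ M := h8 ▸ (Nml.of_der_le (by
          rw [← conj_commutator]; exact (conj_mono g h6).trans le_sup_right)
          (sup_le h7 (conj_mono g inf_le_left))).norm
        exact conj_eq_of_norm (norm_center le_rfl (norm_of_conj_eq (eq_of_le_of_card_le
          (hS.ge_of_normal h3 h9 (hS.pi.conj g)) (card_conj g _).ge)))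
      obtain ⟨P', hP⟩ := Syl.exists (p := p) M
      obtain ⟨P, rfl⟩ := Syl.top_iff_sylow.1 (syl p hp h1 _ hP)
      refine (Agent.S0117.result h2 P).2 ?_
      have := key _ (PLocal.centerThompsonOf_ne_bot (.inr rfl) hP.pgroup (hP.ne_bot' h1))
        ((PLocal.centerThompsonOf_le _).trans hP.le)
        ((hP.nml_of_nil hnil).norm.trans (PLocal.normalizer_le_normalizer_centerThompsonOf _))
      exact this ▸ hM'
  have hc : (Nat.card M).Coprime (Nat.card K) := Nat.coprime_of_dvd fun p hp h1 h2 => by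
    haveI := Fact.mk hp
    obtain ⟨P, hP⟩ := Syl.exists (p := p) M
    exact (syl p hp h1 P hP).not_dvd' (h2.trans (by
      rw [relIndex_top_right, ← hK.index_eq_card]; exact index_dvd_of_le hP.le))
  haveI := nil_sol hnil
  obtain ⟨q, hq, hd⟩ := Nat.exists_prime_and_dvd (n := Nat.card K) (card_ne_one fun e => hM.1 (by
    simpa [e] using hK.sup_eq_top))
  haveI := Fact.mk hq
  obtain ⟨Q, h1, h2⟩ := Syl.exists_inv (p := q) le_normalizer_of_normal hc (.inl inferInstance)
  have h3 : Q ⊔ M = ⊤ := Core.sup_eq_top_of_isCoatom hM fun e =>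
    h1.ne_bot' hd (eq_bot_iff.2 (hK.disjoint.eq_bot ▸ le_inf h1.le e))
  haveI : Q.Normal := normalizer_eq_top_iff.1 (top_le_iff.1 (h3 ▸ sup_le_norm_left h2))
  haveI := pgroup_sol h1.pgroup
  haveI : Group.IsSolvable (G ⧸ Q) := Group.isSolvable_of_surjective (f := (QuotientGroup.mk' Q).comp M.subtype) fun x => by
    obtain ⟨x, rfl⟩ := QuotientGroup.mk'_surjective Q x
    obtain ⟨a, ha, b, hb, rfl⟩ := (mem_sup_left_norm h2).1 (h3 ▸ mem_top x)
    exact ⟨⟨b, hb⟩, by simp [(QuotientGroup.eq_one_iff a).2 ha]⟩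
  exact Group.isSolvable_of_ker_le_range Q.subtype (QuotientGroup.mk' Q) (by simp)

theorem isSolvable_of_max_nil {G : Type*} [Group G] [Finite G] {M S : Subgroup G} (hM : IsCoatom M)
    (hn : Group.IsNilpotent M) (hS : Syl 2 S M) (hc : ⁅⁅S, S⁆, S⁆ = ⊥) : Group.IsSolvable G :=
  isSolvable_of_max_nil_aux _ G rfl M S hM hn hS hc

end Cfsg.Lib.FGS
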