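import Cfsg.Agent.Lib.GW.Cor
import Cfsg.Agent.Lib.ZStar.Main
import Cfsg.Agent.Lib.PGroup.Metacyclic
import Cfsg.Agent.S4211

/-!
# Groups in which all nontrivial subgroups of a cyclic subgroup of even order have the same normalizer
-/

set_option autoImplicit false

namespace Cfsg.Lib.FGS

open Subgroup Cfsg.Lib.BG Cfsg.Lib.Transfer Cfsg.Lib.GW Cfsg.Lib.Inv
open scoped commutatorElement

variable {G : Type*} [Group G] [Finite G] {a g k t u v w x y z : G} {S T : Subgroup G}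

theorem norm_zpowers_inv (ht : orderOf t = 2) : 𝐍(zpowers t) = 𝐂[t] := by
  refine le_antisymm (fun g hg => mem_cent1.2 ?_) fun _ hg =>
    cent_le_norm _ (cent_symm (zpowers_le.2 (le_cent1_iff.1 (zpowers_le.2 hg))) (mem_zpowers _))
  classical
  have h1 := conj_mem_of_norm hg (mem_zpowers t)
  rw [mem_zpowers_iff_mem_range_orderOf, ht] at h1
  obtain ⟨i, hi, e⟩ := Finset.mem_image.1 h1
  have hi := Finset.mem_range.1 hi
  interval_cases i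
  · rw [pow_zero, eq_comm, conj_eq_one_iff] at e; simp [e] at ht
  · rw [pow_one, eq_mul_inv_iff_mul_eq] at e; exact e.symm

omit [Finite G] in
theorem ordc {n : ℕ} (hx : orderOf x = n) (g : G) : orderOf (g * x * g⁻¹) = n :=
  (orderOf_injective (MulAut.conj g).toMonoidHom (MulAut.conj g).injective x).trans hx

omit [Finite G] in
theorem pow4 (hx : orderOf x = 4) : x ^ 2 * x ^ 2 = 1 := by
  rw [← pow_add]; exact orderOf_dvd_iff_pow_eq_one.1 hx.dvd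

omit [Finite G] in
theorem sq_ord4 (hx : orderOf x = 4) : orderOf (x ^ 2) = 2 := by rw [orderOf_pow_of_dvd two_ne_zero (by omega), hx]

omit [Finite G] in
theorem four_ne (hx : orderOf x = 4) : x⁻¹ ≠ x := fun e => by
  have : orderOf x ∣ 2 := orderOf_dvd_of_pow_eq_one (by rw [sq]; exact mul_eq_one_iff_inv_eq.2 e)
  rw [hx] at this
  omega

theorem pm4 (hx : orderOf x = 4) (ha : a ∈ 𝐍(zpowers x)) : a * x * a⁻¹ = x ∨ a * x * a⁻¹ = x⁻¹ := by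
  have h1 := conj_mem_of_norm ha (mem_zpowers x)
  have h2 := ordc hx a
  classical
  rw [mem_zpowers_iff_mem_range_orderOf, hx] at h1
  obtain ⟨i, hi, e⟩ := Finset.mem_image.1 h1
  have hi := Finset.mem_range.1 hi
  rw [← e] at h2 ⊢
  interval_cases i
  · simp at h2
  · simp
  · rw [sq_ord4 hx] at h2; omega
  · exact .inr (eq_inv_of_mul_eq_one_left (by rw [← pow_succ]; exact orderOf_dvd_iff_pow_eq_one.1 hx.dvd))

omit [Finite G] in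
theorem cent_of_conj (h : a * x * a⁻¹ = x) : a ∈ 𝐂[x] := mem_cent1.2 (mul_inv_eq_iff_eq_mul.1 h)

omit [Finite G] in
theorem conj_of_cent (h : a ∈ 𝐂[x]) : a * x * a⁻¹ = x := mul_inv_eq_iff_eq_mul.2 (mem_cent1.1 h)

omit [Finite G] in
theorem cent_of_inv_inv (h1 : a * x * a⁻¹ = x⁻¹) (h2 : g * x * g⁻¹ = x⁻¹) : a * g ∈ 𝐂[x] := cent_of_conj <| by
  rw [show a * g * x * (a * g)⁻¹ = a * (g * x * g⁻¹) * a⁻¹ by group, h2, ← conj_inv, h1, inv_inv]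

theorem ord4_of_sq (h : orderOf (x ^ 2) = 2) : orderOf x = 4 :=
  orderOf_eq_prime_pow (p := 2) (n := 1) (fun e => by simp [show x ^ 2 = 1 from e] at h)
    (by rw [show 2 ^ (1 + 1) = 2 * 2 from rfl, pow_mul]; exact orderOf_dvd_iff_pow_eq_one.1 h.dvd)

omit [Finite G] in
theorem ord_mul_inv (hu : orderOf u = 2) (hv : orderOf v = 2) (hc : u ∈ 𝐂[v]) (h : u ≠ v) : orderOf (u * v) = 2 :=
  four_mul_ord (fourGen_of hu hv h (mem_cent1.1 hc))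

theorem mem_of_odd_of_sq {K : Subgroup G} (ho : Odd (orderOf k)) (h : k ^ 2 ∈ K) : k ∈ K :=
  zpowers_le.2 h (mem_zpowers_pow_iff.2 (Nat.coprime_two_left.2 ho))

theorem odd_of_syl {q : ℕ} (hq : q.Prime) (h2 : q ≠ 2) {P M : Subgroup G} (hP : Syl q P M) (hk : k ∈ P) :
    Odd (orderOf k) :=
  haveI := Fact.mk hq
  (odd_pgroup h2 hP.pgroup).of_dvd_nat (orderOf_dvd_natCard P hk)

/-- A solvable radical free group has no isolated involution. -/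
theorem exists_conj_comm (hss : ∀ N : Subgroup G, N.Normal → Group.IsSolvable N → N = ⊥) (hu : orderOf u = 2) :
    ∃ g, g * u * g⁻¹ ∈ 𝐂[u] ∧ g * u * g⁻¹ ≠ u := by
  by_contra! h
  have h1 : oddCore G = ⊥ := Od_top_eq G ▸ hss _ (Nml.top_iff.1 (Od_nml ⊤)) (Od_sol ⊤)
  have h2 := fun g => h1.le (ZStar.zstar ⟨hu, fun g hg => h g (mem_cent1.2 hg.symm)⟩ g)
  have h3 := hss (zpowers u) (PGroup.normal_of_le_center (zpowers_le.2 (mem_center_iff.2 fun g =>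
    (commutatorElement_eq_one_iff_mul_comm.1 (h2 g)).symm))) (sol_zpowers u)
  simp [zpowers_eq_bot.1 h3] at hu

/-- The hypothesis on cyclic subgroups of even order. -/
def EC (G : Type*) [Group G] : Prop :=
  ∀ x y : G, Even (orderOf x) → y ∈ zpowers x → y ≠ 1 → 𝐍(zpowers x) = 𝐍(zpowers y)

namespace EC

variable (h : EC G)
include h

theorem f2 (ht : orderOf t = 2) (hx : t ∈ zpowers x) : 𝐍(zpowers x) = 𝐂[t] :=
  (h x t (even_iff_two_dvd.2 (ht ▸ orderOf_dvd_of_mem_zpowers hx)) hx fun e => by simp [e] at ht).trans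
    (norm_zpowers_inv ht)

theorem f4 (hx : orderOf x = 4) : 𝐍(zpowers x) = 𝐂[x ^ 2] := h.f2 (sq_ord4 hx) (npow_mem_zpowers x 2)

theorem f1 (ht : orderOf t = 2) (hk : k ∈ 𝐂[t]) (ho : Odd (orderOf k)) (h1 : k ≠ 1) : 𝐍(zpowers k) = 𝐂[t] := by
  have hc : Commute k t := mem_cent1.1 hk
  have h2 : t ∈ zpowers (k * t) := by
    obtain ⟨n, hn⟩ := ho
    refine ⟨(2 * n + 1 : ℕ), ?_⟩
    beta_reduce
    rw [zpow_natCast, hc.mul_pow, ← hn, pow_orderOf_eq_one, hn, pow_succ, pow_mul, ← ht, pow_orderOf_eq_one]; simp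
  refine (h _ k (even_iff_two_dvd.2 (ht ▸ orderOf_dvd_of_mem_zpowers h2)) ?_ h1).symm.trans (h.f2 ht h2)
  simpa using mul_mem (mem_zpowers (k * t)) (inv_mem h2)

theorem inv_or (hu : orderOf u = 2) (hk : k ∈ 𝐂[u]) (ho : Odd (orderOf k)) (ha : a * a = 1) (hau : a ∈ 𝐂[u]) :
    a ∈ 𝐂[k] ∨ a * k * a⁻¹ = k⁻¹ := by
  rcases eq_or_ne a 1 with rfl | h1
  · exact .inl (one_mem _)
  rcases eq_or_ne k 1 with rfl | h2
  · simp
  have ha2 : orderOf a = 2 := orderOf_eq_prime (by rwa [sq]) h1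
  by_cases h3 : zpowers k ⊓ 𝐂[a] = ⊥
  · exact .inr (inverts_of_cent_bot ha (h.f1 hu hk ho h2 ▸ hau) h3 k (mem_zpowers k))
  obtain ⟨j, ⟨h4, h5⟩, h6⟩ := (bot_or_exists_ne_one _).resolve_left h3
  have h7 := ho.of_dvd_nat (orderOf_dvd_of_mem_zpowers h4)
  exact .inl (mem_cent1_symm (h.f1 ha2 h5 h7 h6 ▸ (h.f1 hu (zpowers_le.2 hk h4) h7 h6).symm ▸ hk))

theorem comm4 (hx : orderOf x = 4) (hy : orderOf y = 4) (h1 : x ∈ 𝐂[y ^ 2]) (h2 : y ∈ 𝐂[x ^ 2]) (hne : x ^ 2 ≠ y ^ 2) :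
    Commute x y ∧ orderOf (x * y) = 4 := by
  have : Commute x y := by
    rcases pm4 hx (h.f4 hx ▸ h2) with e | e
    · exact (mem_cent1.1 (cent_of_conj e)).symm
    rcases pm4 hy (h.f4 hy ▸ h1) with e' | e'
    · exact mem_cent1.1 (cent_of_conj e')
    refine absurd ?_ hne
    rw [← inv_eq_of_mul_eq_one_left (pow4 hx), sq, mul_inv_rev]
    calc x⁻¹ * x⁻¹ = y * x * y⁻¹ * x⁻¹ := by rw [e]
      _ = y * (x * y * x⁻¹)⁻¹ := by group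
      _ = y ^ 2 := by rw [e', inv_inv, sq]
  exact ⟨this, ord4_of_sq (this.mul_pow 2 ▸ ord_mul_inv (sq_ord4 hx) (sq_ord4 hy) (pow_mem h1 2) hne)⟩

theorem le_cent_sq (hT : IsPGroup 2 T) (hxT : x ∈ T) (hx : orderOf x = 4) : T ≤ 𝐂[x ^ 2] := by
  by_contra h0
  have hx0 : x ∈ 𝐂[x ^ 2] := cent1_le_cent1_pow x 2 (self_mem_cent1 x)
  have key : ∀ g ∈ 𝐍(T ⊓ 𝐂[x ^ 2]), g ∉ 𝐂[x ^ 2] → Commute x (g * x * g⁻¹) ∧ orderOf (x * (g * x * g⁻¹)) = 4 ∧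
      orderOf (x⁻¹ * (g * x * g⁻¹)) = 4 := fun g h1 h2 => by
    have h3 : x ∈ 𝐂[(g * x * g⁻¹) ^ 2] := by
      rw [conj_pow, ← conj_cent1, mem_conj]; exact (conj_mem_of_norm' h1 ⟨hxT, hx0⟩).2
    have h4 := (conj_mem_of_norm h1 ⟨hxT, hx0⟩).2
    have h5 : x ^ 2 ≠ (g * x * g⁻¹) ^ 2 := fun e => h2 (cent_of_conj (by rw [← conj_pow, ← e]))
    have h6 : x⁻¹ ^ 2 = x ^ 2 := by rw [inv_pow, inv_eq_of_mul_eq_one_left (pow4 hx)]
    exact ⟨(h.comm4 hx (ordc hx g) h3 h4 h5).1, (h.comm4 hx (ordc hx g) h3 h4 h5).2,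
      (h.comm4 (by rwa [orderOf_inv]) (ordc hx g) (inv_mem h3) (h6 ▸ h4) (h6 ▸ h5)).2⟩
  have main : ∀ g ∈ T, g ∈ 𝐍(T ⊓ 𝐂[x ^ 2]) → g ∉ 𝐂[x ^ 2] → g ^ 2 ∈ 𝐂[x ^ 2] → g ^ 2 = 1 := fun g hg h1 h2 h3 => by
    obtain ⟨h4, h5, h6⟩ := key g h1 h2
    have h7 : g * (g * x * g⁻¹) * g⁻¹ = g ^ 2 * x * (g ^ 2)⁻¹ := by rw [sq]; group
    have h8 : g ^ 2 * x * (g ^ 2)⁻¹ = x := (pm4 hx (h.f4 hx ▸ h3)).resolve_right fun e => by
      have h9 : g ∈ 𝐂[(x * (g * x * g⁻¹)) ^ 2] := cent_of_conj (by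
        rw [h4.mul_pow, ← conj_mul, ← conj_pow, ← conj_pow (b := g * x * g⁻¹), h7, conj_pow (a := g ^ 2), conj_of_cent h3,
          (h4.pow_pow 2 2).eq])
      rcases pm4 h5 (h.f4 h5 ▸ h9) with e' | e' <;> rw [← conj_mul, h7, e] at e'
      · rw [h4.eq] at e'; exact four_ne hx (mul_left_cancel e')
      · rw [mul_inv_rev] at e'; exact four_ne (ordc hx g) (mul_right_cancel e').symm
    by_contra h9
    obtain ⟨v, hv, hv2⟩ := exists_involution_mem_of_isPGroup (pgroup_of_le hT (zpowers_le.2 (pow_mem hg 2)))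
      (by rwa [Ne, zpowers_eq_bot])
    have h10 : x ∈ 𝐍(zpowers g) := h.f2 hv2 (zpowers_le.2 (npow_mem_zpowers g 2) hv) ▸
      mem_cent1_symm (zpowers_le.2 (cent_of_conj h8) hv)
    have h11 : x⁻¹ * (g * x * g⁻¹) ∈ 𝐂[g] := zpowers_le.2 (self_mem_cent1 g) (by
      simpa [mul_assoc] using mul_mem (conj_mem_of_norm' h10 (mem_zpowers g)) (inv_mem (mem_zpowers g)))
    refine four_ne h6 (Eq.symm ?_)
    have h12 := conj_of_cent (mem_cent1_symm h11)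
    rw [← conj_mul, h7, h8] at h12
    exact h12.symm.trans (by group)
  obtain ⟨g, hg, h1, h2, h3⟩ := PGroup.exists_mem_normalizer_of_lt hT (inf_lt_left.2 h0)
  replace h1 : g ∉ 𝐂[x ^ 2] := fun e => h1 ⟨hg, e⟩
  have h4 := main g hg h3 h1 h2.2
  have h5 : (x * g) ^ 2 = x * (g * x * g⁻¹) := by
    rw [inv_eq_of_mul_eq_one_left (show g * g = 1 by rwa [← sq]), sq]; group
  have h6 := main (x * g) (mul_mem hxT hg) (mul_mem (le_norm _ ⟨hxT, hx0⟩) h3)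
    (fun e => h1 (by simpa using mul_mem (inv_mem hx0) e)) (h5 ▸ mul_mem hx0 (conj_mem_of_norm h3 ⟨hxT, hx0⟩).2)
  simpa [← h5, h6] using (key g h3 h1).2.1

theorem odd_cent4 (hx : orderOf x = 4) (hk : k ∈ 𝐂[x ^ 2]) (ho : Odd (orderOf k)) : k ∈ 𝐂[x] :=
  mem_of_odd_of_sq ho (by
    rcases pm4 hx (h.f4 hx ▸ hk) with e | e
    exacts [pow_mem (cent_of_conj e) 2, sq k ▸ cent_of_inv_inv e e])

theorem le4 (hx : orderOf x = 4) (hy : orderOf y = 4) (h1 : y ∈ 𝐂[x ^ 2]) : 𝐂[x ^ 2] ≤ 𝐂[y ^ 2] := by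
  have p4 : ∀ {x : G}, orderOf x = 4 → IsPGroup 2 (zpowers x) := fun hx =>
    IsPGroup.of_card (n := 2) ((Nat.card_zpowers _).trans hx)
  obtain ⟨S, hS, h2⟩ := Syl.exists_ge (p4 hy) (zpowers_le.2 h1)
  have h3 := h.le_cent_sq hS.pgroup (h2 (mem_zpowers y)) hy
  have h4 := h3 (hS.ge_of_norm_p (zpowers_le.2 (cent1_le_cent1_pow x 2 (self_mem_cent1 x))) (p4 hx)
    (h.f4 hx ▸ hS.le) (mem_zpowers x))
  refine Syl.le_of_forall fun q hq _ => ?_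
  rcases eq_or_ne q 2 with rfl | h5
  · exact ⟨S, hS, h3⟩
  haveI := Fact.mk hq
  obtain ⟨P, hP⟩ := Syl.exists (p := q) 𝐂[x ^ 2]
  refine ⟨P, hP, fun k hk => mem_cent1_symm ?_⟩
  have h6 : (x * y ^ 2) ^ 2 = x ^ 2 := by
    rw [Commute.mul_pow (mem_cent1.1 h4), sq (y ^ 2), pow4 hy, mul_one]
  exact (mul_mem_cancel_left (mem_cent1_symm (h.odd_cent4 hx (hP.le hk) (odd_of_syl hq h5 hP hk)))).1
    (mem_cent1_symm (h.odd_cent4 (ord4_of_sq (h6 ▸ sq_ord4 hx)) (h6 ▸ hP.le hk) (odd_of_syl hq h5 hP hk)))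

theorem eq4 (hx : orderOf x = 4) (hy : orderOf y = 4) (h1 : y ∈ 𝐂[x ^ 2]) : 𝐂[y ^ 2] = 𝐂[x ^ 2] :=
  le_antisymm (h.le4 hy hx (h.le4 hx hy h1 (cent1_le_cent1_pow x 2 (self_mem_cent1 x)))) (h.le4 hx hy h1)

theorem conj_eq (hz : orderOf z = 2) (hS : Syl 2 S 𝐂[z]) (hu : u ∈ S) (h1 : S ≤ 𝐂[u]) (hg : g ∈ 𝐂[z])
    (h2 : g * u * g⁻¹ ∈ S) : g * u * g⁻¹ = u := by
  have h3 : 𝐂[z] ≤ Od 𝐂[z] ⊔ S := Syl.le_of_forall fun q hq _ => by
    rcases eq_or_ne q 2 with rfl | h5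
    · exact ⟨S, hS, le_sup_right⟩
    haveI := Fact.mk hq
    obtain ⟨P, hP⟩ := Syl.exists (p := q) 𝐂[z]
    refine ⟨P, hP, fun k hk => mem_sup_left ?_⟩
    rcases eq_or_ne k 1 with rfl | h6
    · exact one_mem _
    exact le_Od ⟨zpowers_le.2 (hP.le hk), (h.f1 hz (hP.le hk) (odd_of_syl hq h5 hP hk) h6).ge⟩
      (odd_zpowers (odd_of_syl hq h5 hP hk)) (mem_zpowers k)
  obtain ⟨k, hk, s, hs, rfl⟩ := (mem_sup_left_norm (hS.le.trans (Od_nml _).norm)).1 (h3 hg)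
  have h4 : k * s * u * (k * s)⁻¹ = k * u * k⁻¹ := by
    rw [show k * s * u * (k * s)⁻¹ = k * (s * u * s⁻¹) * k⁻¹ by group, conj_of_cent (h1 hs)]
  rw [h4] at h2 ⊢
  exact mul_inv_eq_one.1 ((disjoint_of_coprime (cop_two hS.pgroup (odd_Od _))).le (mem_inf.2 ⟨mul_mem h2 (inv_mem hu), by
    simpa [mul_assoc] using mul_mem hk (conj_mem_of_norm ((Od_nml _).norm (hS.le hu)) (inv_mem hk))⟩))

theorem caseA (hss : ∀ N : Subgroup G, N.Normal → Group.IsSolvable N → N = ⊥) (hz : orderOf z = 2) (hS : Syl 2 S ⊤)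
    (hSz : S ≤ 𝐂[z]) (ha : ∀ g, g * z * g⁻¹ ∈ 𝐂[z] → 𝐂[g * z * g⁻¹] = 𝐂[z])
    (hp : ∀ g, g * z * g⁻¹ ∈ 𝐂[z] → g * z * g⁻¹ ≠ z → 𝐂[z * (g * z * g⁻¹)] = 𝐂[z]) (ht : orderOf t = 2) :
    IsMulCommutative 𝐂[t] := by
  obtain ⟨g, h1, h2⟩ := exists_conj_comm hss hz
  have p2 : ∀ {x : G}, orderOf x = 2 → IsPGroup 2 (zpowers x) := fun hx =>
    IsPGroup.of_card (n := 1) ((Nat.card_zpowers _).trans hx)
  have i2 : ∀ {x : G}, orderOf x = 2 → x * x = 1 := fun hx => by rw [← sq]; exact orderOf_dvd_iff_pow_eq_one.1 hx.dvd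
  have a1 : ∀ u ∈ 𝐂[z], orderOf u = 2 → 𝐂[u] ≤ 𝐂[z] := fun u hu hu2 => Syl.le_of_forall fun q hq _ => by
    rcases eq_or_ne q 2 with rfl | h5
    · obtain ⟨T, hT, h3⟩ := Syl.exists_ge (p2 hz) (zpowers_le.2 (mem_cent1_symm hu))
      obtain ⟨c, -, h4⟩ := hS.exists_le_conj hT.pgroup le_top
      replace h4 := h4.trans ((conj_mono c hSz).trans (conj_cent1 c z).le)
      exact ⟨T, hT, ha c (mem_cent1_symm (h4 (h3 (mem_zpowers z)))) ▸ h4⟩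
    haveI := Fact.mk hq
    obtain ⟨P, hP⟩ := Syl.exists (p := q) 𝐂[u]
    refine ⟨P, hP, fun k hk => ?_⟩
    rcases h.inv_or hu2 (hP.le hk) (odd_of_syl hq h5 hP hk) (i2 hz) (mem_cent1_symm hu) with e | e
    · exact mem_cent1_symm e
    rcases h.inv_or hu2 (hP.le hk) (odd_of_syl hq h5 hP hk) (i2 (ordc hz g)) (mem_cent1_symm (ha g h1 ▸ hu)) with e' | e'
    · exact ha g h1 ▸ mem_cent1_symm e'
    · exact hp g h1 h2 ▸ mem_cent1_symm (cent_of_inv_inv e e')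
  obtain ⟨c, hc⟩ : ∃ c, c * z * c⁻¹ ∉ 𝐂[z] := by
    by_contra! h3
    have h4 : Nml 𝐂[z] ⊤ := ⟨le_top, fun c _ => norm_of_conj_eq ((conj_cent1 c z).trans (ha c (h3 c)))⟩
    have h5 := hss _ (Nml.top_iff.1 h4.center) (nil_sol (Comp.isNilpotent_inf_centralizer _))
    exact absurd hz (by simp [mem_bot.1 (h5.le ⟨self_mem_cent1 z, le_cent1_iff.1 le_rfl⟩)])
  have a3 : ∀ u ∈ 𝐂[z], orderOf u = 2 → ∃ d, d * z * d⁻¹ = u := fun u hu hu2 => by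
    by_contra h3
    obtain ⟨v, -, hv, h4, h5⟩ := exists_commute_of_not_isConj (i2 hu2) (i2 (ordc hz c)) fun e => h3
      (isConj_iff.1 ((isConj_iff.2 ⟨c, rfl⟩).trans e.symm))
    exact hc (a1 v (a1 u hu hu2 (mem_cent1.2 h4)) hv (mem_cent1.2 h5.symm))
  have a4 : ∀ u ∈ 𝐂[z], orderOf u = 2 → 𝐂[u] = 𝐂[z] := fun u hu hu2 => by
    obtain ⟨d, rfl⟩ := a3 u hu hu2
    exact ha d hu
  obtain ⟨d, -, hd⟩ := hS.exists_conj_le (p2 ht) le_top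
  rw [← abelian_conj d, conj_cent1, a4 (d * t * d⁻¹) (hSz (hd (mem_map_of_mem _ (mem_zpowers t)))) (ordc ht d)]
  by_contra h3
  obtain ⟨⟨a, ha1⟩, -, ⟨b, hb1⟩, -, h4, h5, h6⟩ := Cfsg.Agent.S4211.key (G := 𝐂[z]) (fun K => ⟨fun x hx c => by
    refine zpowers_le.2 hx ((mem_map_iff_mem (subtype_injective _)).1 ?_)
    rw [MonoidHom.map_zpowers]
    rcases eq_or_ne (x : G) 1 with e | e
    · simp [e]
    refine conj_mem_of_norm (?_ : (c : G) ∈ 𝐍(zpowers (x : G))) (mem_zpowers (x : G))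
    rcases Nat.even_or_odd (orderOf (x : G)) with e' | e'
    · obtain ⟨v, hv, hv2⟩ := exists_involution_mem_of_even (H := zpowers (x : G)) (by rwa [Nat.card_zpowers])
      rw [h.f2 hv2 hv, a4 v (zpowers_le.2 x.2 hv) hv2]; exact c.2
    · rw [h.f1 hz x.2 e' e]; exact c.2⟩) ⊤ fun e => h3 (PGroup.isMulCommutative_top_iff.1 e)
  rw [orderOf_mk] at h4
  replace h5 : b ^ 2 = a ^ 2 := congrArg Subtype.val h5
  replace h6 : b * a * b⁻¹ = a⁻¹ := congrArg Subtype.val h6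
  have h7 := sq_ord4 h4
  have h8 := ord4_of_sq (h5 ▸ h7)
  have h9 := a4 _ (pow_mem ha1 2) h7
  obtain ⟨s, hs, hs2, hne⟩ : ∃ s ∈ 𝐂[z], orderOf s = 2 ∧ s ≠ a ^ 2 := by
    by_cases e : z = a ^ 2
    exacts [⟨_, h1, ordc hz g, e ▸ h2⟩, ⟨z, self_mem_cent1 z, hz, e⟩]
  obtain ⟨c, hc1⟩ := a3 s hs hs2
  obtain ⟨c', hc2⟩ := a3 _ (pow_mem ha1 2) h7
  have h10 : (c * c'⁻¹ * a * (c * c'⁻¹)⁻¹) ^ 2 = s := by rw [conj_pow, ← hc1, ← hc2]; group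
  have h11 := ordc h4 (c * c'⁻¹)
  generalize c * c'⁻¹ * a * (c * c'⁻¹)⁻¹ = a' at h10 h11
  subst h10
  have h12 := a4 _ hs hs2
  have h13 : a' ∈ 𝐂[z] := h12 ▸ cent1_le_cent1_pow a' 2 (self_mem_cent1 a')
  obtain ⟨h14, h15⟩ := h.comm4 h4 h11 (h12 ▸ ha1) (h9 ▸ h13) hne.symm
  have h16 := (h.comm4 h8 h11 (h12 ▸ hb1) (h5 ▸ h9 ▸ h13) (h5 ▸ hne.symm)).1
  have h17 := (h.comm4 h8 h15 (a4 _ (pow_mem (mul_mem ha1 h13) 2) (sq_ord4 h15) ▸ hb1) (h5 ▸ h9 ▸ mul_mem ha1 h13)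
    (by rw [h5, h14.mul_pow]; intro e; simp [left_eq_mul.1 e] at hs2)).1
  refine four_ne h4 (h6.symm.trans (conj_of_cent (mem_cent1.2 ?_)))
  simpa using (h17.mul_right h16.inv_right).eq

omit h in
theorem dc_of {A : Subgroup G} (hS : Syl 2 S ⊤) (hA : A ≤ S) (hw : w * w = 1) (h1 : w ∉ A)
    (h2 : ∀ a ∈ A, w * a * w⁻¹ = a⁻¹) (h3 : A ⊔ zpowers w = S) (h4 : IsCyclic A) (h5 : A ≠ ⊥) : DC G := by
  obtain ⟨S, rfl⟩ := Syl.top_iff_sylow.1 hS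
  obtain ⟨a, ha, rfl⟩ := cyclic_iff.1 h4
  obtain ⟨m, hm⟩ := (pgroup_of_le S.isPGroup' hA).exists_card_eq
  obtain ⟨m, rfl⟩ : ∃ k, m = k + 1 := Nat.exists_eq_succ_of_ne_zero fun e => h5 (card_eq_one.1 (by simp [hm, e]))
  exact DC.of_mc (a := a) (b := w) (m := m) ⟨Nat.card_zpowers a ▸ hm, h1, h3, by simpa using h2 a ha, by simpa, by simp⟩

theorem caseB2 (h4 : ∀ x : G, orderOf x ≠ 4) (hz : orderOf z = 2) (hy : y ∈ 𝐂[z]) (ho : Odd (orderOf y)) (h1 : y ≠ 1)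
    (hw : g * z * g⁻¹ ∈ 𝐂[z]) (hne : 𝐂[g * z * g⁻¹] ≠ 𝐂[z]) : DC G := by
  have hw2 := ordc hz g
  have hy' : g * y * g⁻¹ ∈ 𝐂[g * z * g⁻¹] := conj_cent1 g z ▸ mem_map_of_mem _ hy
  have ho' := ordc (rfl : orderOf y = _) g ▸ ho
  have h1' : g * y * g⁻¹ ≠ 1 := by simpa using h1
  generalize g * z * g⁻¹ = w at *
  generalize g * y * g⁻¹ = y' at *
  have hV := fourGen_of hw2 hz (fun e => hne (e ▸ rfl)) (mem_cent1.1 hw)
  obtain ⟨S, hS, h2⟩ := Syl.exists_ge (four_pgroup hV) le_top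
  have h3 : ∀ s ∈ S, s ^ 2 = 1 := fun s hs => by_contra fun e => by
    obtain ⟨v, ⟨i, rfl⟩, hv⟩ := exists_involution_mem_of_isPGroup (pgroup_of_le hS.pgroup (zpowers_le.2 (pow_mem hs 2)))
      (by rwa [Ne, zpowers_eq_bot])
    exact h4 (s ^ i) (ord4_of_sq (by rwa [← zpow_natCast, zpow_comm, zpow_natCast]))
  have h5 := abelian_cent (PGroup.elemAb_two_iff.2 h3).1
  have hz1 := h5.trans (cent_le_cent1 (h2 hV.right_mem))
  have hw1 := h5.trans (cent_le_cent1 (h2 hV.left_mem))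
  have h6 : ∀ s ∈ S, s ∈ 𝐂[y] → s ∈ 𝐂[y'] → s = 1 := fun s hs e e' => by_contra fun h7 => by
    have h8 := orderOf_eq_prime (h3 s hs) h7
    exact hne (by rw [← h.f1 hz hy ho h1, ← h.f1 hw2 hy' ho' h1', h.f1 h8 (mem_cent1_symm e) ho h1,
      h.f1 h8 (mem_cent1_symm e') ho' h1'])
  have h7 := fun s (hs : s ∈ S) => h.inv_or hz hy ho (sq s ▸ h3 s hs) (hz1 hs)
  have h8 := fun s (hs : s ∈ S) => h.inv_or hw2 hy' ho' (sq s ▸ h3 s hs) (hw1 hs)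
  have hz2 := (h8 z (h2 hV.right_mem)).resolve_left fun e => by
    simp [h6 z (h2 hV.right_mem) (mem_cent1_symm hy) e] at hz
  have hw3 := (h7 w (h2 hV.left_mem)).resolve_left fun e => by
    simp [h6 w (h2 hV.left_mem) e (mem_cent1_symm hy')] at hw2
  have h9 : ∀ s ∈ S, s ∈ 𝐂[y] → s ∈ zpowers z := fun s hs e => by
    rcases h8 s hs with e' | e'
    · exact h6 s hs e e' ▸ one_mem _
    · exact eq_inv_of_mul_eq_one_left (h6 _ (mul_mem hs (h2 hV.right_mem)) (mul_mem e (mem_cent1_symm hy))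
        (cent_of_inv_inv e' hz2)) ▸ inv_mem (mem_zpowers z)
  refine dc_of hS (zpowers_le.2 (h2 hV.right_mem)) (sq w ▸ h3 w (h2 hV.left_mem)) (fun e => ?_) (fun a ha => ?_)
    (le_antisymm (sup_le (zpowers_le.2 (h2 hV.right_mem)) (zpowers_le.2 (h2 hV.left_mem))) fun s hs => ?_) inferInstance
    (by rw [Ne, zpowers_eq_bot]; intro e; simp [e] at hz)
  · exact h1 (eq_one_of_inverts_of_cent ho hw3 (mem_cent1_symm (zpowers_le.2 (mem_cent1_symm hy) e)))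
  · have := zpowers_le.2 (h2 hV.right_mem) ha
    rw [conj_of_cent (mem_cent1_symm (hw1 this)), eq_inv_iff_mul_eq_one, ← sq, h3 a this]
  rcases h7 s hs with e | e
  · exact mem_sup_left (h9 s hs e)
  · simpa using mul_mem_sup (h9 _ (mul_mem hs (h2 hV.left_mem)) (cent_of_inv_inv e hw3)) (inv_mem (mem_zpowers w))

theorem caseB4 (hss : ∀ N : Subgroup G, N.Normal → Group.IsSolvable N → N = ⊥) (hx : orderOf x = 4)
    (hw : g * x ^ 2 * g⁻¹ ∈ 𝐂[x ^ 2]) (hne : 𝐂[g * x ^ 2 * g⁻¹] ≠ 𝐂[x ^ 2]) : DC G := by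
  have hz := sq_ord4 hx
  have hx0 : x ∈ 𝐂[x ^ 2] := cent1_le_cent1_pow x 2 (self_mem_cent1 x)
  have b2 : ∀ v, 𝐂[v] = 𝐂[g * x ^ 2 * g⁻¹] → ∀ y ∈ 𝐂[x ^ 2], orderOf y = 4 → v * y * v⁻¹ = y⁻¹ := fun v hv y hy hy4 =>
    (pm4 hy4 (by rw [h.f4 hy4, h.eq4 hx hy4 hy]; exact mem_cent1_symm (hv ▸ mem_cent1_symm hw))).resolve_left fun e => hne (by
      rw [← h.eq4 hx hy4 hy, ← conj_pow, h.eq4 (ordc hx g) hy4 (conj_pow (a := g) ▸ hv ▸ mem_cent1_symm (cent_of_conj e))])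
  have b3 : ∀ u, 𝐂[u] = 𝐂[x ^ 2] → 𝐂[x ^ 2 * u] ≠ 𝐂[x ^ 2] := fun u h1 h2 => four_ne hx (by
    have h3 := fun v (e : 𝐂[v] = 𝐂[x ^ 2]) => b2 (g * v * g⁻¹) (by rw [← conj_cent1, ← conj_cent1, e]) x hx0 hx
    rw [← h3 _ h2, ← conj_mul, conj_of_cent (cent_of_inv_inv (h3 _ rfl) (h3 _ h1))])
  have b4 : ∀ y ∈ 𝐂[x ^ 2], orderOf y = 4 → y ^ 2 = x ^ 2 := fun y hy hy4 => by_contra fun e => by
    have h1 := h.eq4 hx hy4 hy
    obtain ⟨h2, h3⟩ := h.comm4 hx hy4 (h1 ▸ hx0) hy (Ne.symm e)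
    exact b3 _ h1 (h2.mul_pow 2 ▸ h.eq4 hx h3 (mul_mem hx0 hy))
  have hw2 := ordc hz g
  have b5 := b2 _ rfl
  clear b2 hne
  generalize g * x ^ 2 * g⁻¹ = w at *
  have i2 : ∀ {x : G}, orderOf x = 2 → x * x = 1 := fun hx => by rw [← sq]; exact orderOf_dvd_iff_pow_eq_one.1 hx.dvd
  obtain ⟨S, hS, h1⟩ := Syl.exists_ge (PGroup.isPGroup_sup_of_le_normalizer (p := 2)
    (IsPGroup.of_card (n := 2) ((Nat.card_zpowers _).trans hx)) (IsPGroup.of_card (n := 1) ((Nat.card_zpowers _).trans hw2))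
    (zpowers_le.2 (h.f4 hx ▸ hw))) le_top
  have hxS : x ∈ S := h1 (mem_sup_left (mem_zpowers x))
  have hwS : w ∈ S := h1 (mem_sup_right (mem_zpowers w))
  have hSz := h.le_cent_sq hS.pgroup hxS hx
  have b6 : ∀ d ∈ S, d ^ 2 ≠ 1 → w * d * w⁻¹ * d ∈ zpowers (d ^ 4) := fun d hd e => by
    obtain ⟨v, ⟨i, rfl⟩, hv⟩ := exists_involution_mem_of_isPGroup (pgroup_of_le hS.pgroup (zpowers_le.2 (pow_mem hd 2)))
      (by rwa [Ne, zpowers_eq_bot])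
    have h2 : orderOf (d ^ i) = 4 := ord4_of_sq (by rwa [← zpow_natCast, zpow_comm, zpow_natCast])
    obtain ⟨r, hr⟩ := conj_mem_of_norm (g := w) (by
      rw [h d _ (even_iff_two_dvd.2 ((by norm_num : 2 ∣ 4).trans (h2 ▸ orderOf_dvd_of_mem_zpowers ⟨i, rfl⟩))) ⟨i, rfl⟩
        (fun e => by simp [e] at h2), h.f4 h2, b4 _ (hSz (zpow_mem hd i)) h2]; exact hw) (mem_zpowers d)
    have h3 := b5 _ (hSz (zpow_mem hd i)) h2
    rw [← conj_zpow, ← hr, zpow_comm, eq_inv_iff_mul_eq_one, ← zpow_add_one, ← orderOf_dvd_iff_zpow_eq_one, h2] at h3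
    obtain ⟨j, hj⟩ := h3
    exact ⟨j, by beta_reduce; rw [← hr, ← zpow_add_one, hj, zpow_mul, zpow_natCast]⟩
  have b7 : ∀ a ∈ S ⊓ 𝐂[x], w * a * w⁻¹ = a⁻¹ := fun a ha => by
    by_cases e : a ^ 2 = 1
    · have hc : Commute x a := (mem_cent1.1 ha.2).symm
      have h2 := b5 (x * a) (mul_mem hx0 (hSz ha.1)) (ord4_of_sq (by rw [hc.mul_pow, e, mul_one, hz]))
      rw [← conj_mul, b5 x hx0 hx, hc.eq, mul_inv_rev] at h2
      exact mul_left_cancel h2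
    by_contra e'
    have h2 : (w * a) ^ 2 = w * a * w⁻¹ * a := by rw [inv_eq_of_mul_eq_one_left (i2 hw2), sq]; group
    have h3 := b6 _ (mul_mem hwS ha.1) (by rwa [h2, Ne, mul_eq_one_iff_eq_inv])
    rw [show w * (w * a) * w⁻¹ * (w * a) = a ^ 2 by rw [← mul_assoc w w, i2 hw2, sq]; group,
      show (w * a) ^ 4 = ((w * a) ^ 2) ^ 2 by rw [← pow_mul]] at h3
    obtain ⟨j, hj⟩ := h2 ▸ b6 a ha.1 e
    have h4 : a ^ 2 ∈ zpowers ((a ^ 2) ^ 4) := zpowers_le.2 (mem_zpowers_iff.2 ⟨j, by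
      rw [← hj, ← zpow_natCast ((a ^ 4) ^ j), zpow_comm, zpow_natCast, ← pow_mul, ← pow_mul]⟩) h3
    obtain ⟨n, hn⟩ := IsPGroup.iff_orderOf.1 hS.pgroup ⟨_, pow_mem ha.1 2⟩
    rw [mem_zpowers_pow_iff, orderOf_mk] at *
    rcases n with - | n
    · exact e (orderOf_eq_one_iff.1 hn)
    · exact absurd (h4 ▸ Nat.dvd_gcd (by norm_num) (hn ▸ dvd_pow_self 2 n.succ_ne_zero) : 2 ∣ 1) (by norm_num)
  have hA := abelian_of_inverts b7
  have b8 : S ≤ (S ⊓ 𝐂[x]) ⊔ zpowers w := fun s hs => by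
    rcases pm4 hx (h.f4 hx ▸ hSz hs) with e | e
    · exact mem_sup_left ⟨hs, cent_of_conj e⟩
    · simpa using mul_mem_sup (S := S ⊓ 𝐂[x]) ⟨mul_mem hs hwS, cent_of_inv_inv e (b5 x hx0 hx)⟩ (inv_mem (mem_zpowers w))
  have b9 : ∀ v ∈ S ⊓ 𝐂[x], orderOf v = 2 → S ≤ 𝐂[v] ∧ (𝐂[v] ≠ 𝐂[x ^ 2] → 𝐂[v] ≤ S) := fun v hv hv2 => by
    have h2 : S ≤ 𝐂[v] := b8.trans (sup_le ((abelian_cent hA).trans (cent_le_cent1 hv))
      (zpowers_le.2 (cent_of_conj ((b7 v hv).trans (inv_eq_of_mul_eq_one_left (i2 hv2))))))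
    refine ⟨h2, fun e => Syl.le_of_forall fun q hq _ => ?_⟩
    rcases eq_or_ne q 2 with rfl | h5
    · exact ⟨S, hS.of_le h2 le_top, le_rfl⟩
    haveI := Fact.mk hq
    obtain ⟨P, hP⟩ := Syl.exists (p := q) 𝐂[v]
    refine ⟨P, hP, fun k hk => by_contra fun h6 => e ?_⟩
    have h7 : k ≠ 1 := fun e => h6 (e ▸ one_mem _)
    have h8 := h.f1 hv2 (hP.le hk) (odd_of_syl hq h5 hP hk) h7
    have h9 := PGroup.commutator_le_centralizer_of_isCyclic inferInstance (h8 ▸ h2) (h8 ▸ h2)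
      (commutator_mem_commutator hwS hxS)
    rw [commutatorElement_def, b5 x hx0 hx, ← mul_inv_rev, ← sq, inv_mem_iff] at h9
    rw [← h8, h.f1 hz (mem_cent1_symm (cent_le_cent1 (mem_zpowers k) h9)) (odd_of_syl hq h5 hP hk) h7]
  have hzA : x ^ 2 ∈ S ⊓ 𝐂[x] := pow_mem (mem_inf.2 ⟨hxS, self_mem_cent1 x⟩) 2
  refine dc_of hS inf_le_left (i2 hw2) (fun e => four_ne hx ((b5 x hx0 hx).symm.trans (conj_of_cent e.2))) b7
    (le_antisymm (sup_le inf_le_left (zpowers_le.2 hwS)) b8) (cyclic_of_uniq (pgroup_of_le hS.pgroup inf_le_left) hA hz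
      fun u hu hu2 => by_contra fun e => ?_) fun e => by simp [mem_bot.1 (e.le hzA)] at hz
  have hm : ∀ u ∈ S ⊓ 𝐂[x], orderOf u = 2 → u ≠ x ^ 2 → orderOf (x ^ 2 * u) = 2 := fun u hu hu2 e =>
    ord_mul_inv hz hu2 (mem_cent1_symm (hSz hu.1)) e.symm
  wlog h2 : 𝐂[u] ≠ 𝐂[x ^ 2] generalizing u
  · exact this _ (mul_mem hzA hu) (hm u hu hu2 e) (fun e => by simp [mul_eq_left.1 e] at hu2) (b3 u (not_not.1 h2))
  obtain ⟨h3, h4⟩ := b9 u hu hu2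
  obtain ⟨c, h5, h6⟩ := exists_conj_comm hss hu2
  have h7 : 𝐂[c * u * c⁻¹] ≤ 𝐍(zpowers (c * x * c⁻¹)) := by
    rw [h.f4 (ordc hx c), conj_pow, ← conj_cent1, ← conj_cent1]; exact conj_mono c ((h4 h2).trans hSz)
  have h8 : c * x * c⁻¹ ∈ 𝐂[x ^ 2] := by
    rcases pm4 (ordc hx c) (h7 (mem_cent1_symm (hSz (h4 h2 h5)))) with e1 | e1
    · exact mem_cent1_symm (cent_of_conj e1)
    rcases pm4 (ordc hx c) (h7 (mem_cent1_symm h5)) with e2 | e2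
    · exact hSz (h4 h2 (mem_cent1_symm (cent_of_conj e2)))
    have h9 := mem_cent1_symm (cent_of_inv_inv e1 e2)
    by_contra h10
    exact h10 (hSz ((b9 _ (mul_mem hzA hu) (hm u hu hu2 e)).2 (fun e => h10 (e ▸ h9)) h9))
  exact h6 (h.conj_eq hz (hS.of_le hSz le_top) hu.1 h3 (cent_of_conj (conj_pow (a := c) ▸ b4 _ h8 (ordc hx c))) (h4 h2 h5))

theorem dc_or (hss : ∀ N : Subgroup G, N.Normal → Group.IsSolvable N → N = ⊥) :
    DC G ∨ ∀ t : G, orderOf t = 2 → IsMulCommutative 𝐂[t] := by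
  refine or_iff_not_imp_left.2 fun hn t ht => ?_
  by_cases h4 : ∃ x : G, orderOf x = 4
  · obtain ⟨x, hx⟩ := h4
    obtain ⟨S, hS, h1⟩ := Syl.exists_ge (p := 2) (IsPGroup.of_card (n := 2) ((Nat.card_zpowers _).trans hx)) le_top
    have h2 := fun g hg => by_contra fun e => hn (h.caseB4 (g := g) hss hx hg e)
    refine h.caseA hss (sq_ord4 hx) hS (h.le_cent_sq hS.pgroup (h1 (mem_zpowers x)) hx) h2 (fun g h3 h5 => ?_) ht
    have hx0 : x ∈ 𝐂[x ^ 2] := cent1_le_cent1_pow x 2 (self_mem_cent1 x)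
    have h6 : g * x * g⁻¹ ∈ 𝐂[x ^ 2] := h2 g h3 ▸ conj_cent1 g _ ▸ mem_map_of_mem _ hx0
    obtain ⟨h7, h8⟩ := h.comm4 hx (ordc hx g) (by rw [conj_pow, h2 g h3]; exact hx0) h6 (by rw [conj_pow]; exact h5.symm)
    rw [← conj_pow, ← h7.mul_pow, h.eq4 hx h8 (mul_mem hx0 h6)]
  push Not at h4
  have h3 : ∀ S : Subgroup G, IsPGroup 2 S → IsMulCommutative S := fun S hS => (PGroup.elemAb_two_iff.2 fun s hs =>
    by_contra fun e => by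
      obtain ⟨v, ⟨i, rfl⟩, hv⟩ := exists_involution_mem_of_isPGroup (pgroup_of_le hS (zpowers_le.2 (pow_mem hs 2)))
        (by rwa [Ne, zpowers_eq_bot])
      exact h4 (s ^ i) (ord4_of_sq (by rwa [← zpow_natCast, zpow_comm, zpow_natCast]))).1
  by_cases h5 : IsPGroup 2 𝐂[t]
  · exact h3 _ h5
  obtain ⟨y, hy, ho, h1⟩ : ∃ y ∈ 𝐂[t], Odd (orderOf y) ∧ y ≠ 1 := by
    by_contra! h6
    refine h5 (PiGrp.pgroup fun q hq hd => by_contra fun e => ?_)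
    obtain ⟨y, hy, h7⟩ := Core.exists_mem_orderOf_eq_prime hq hd
    exact hq.ne_one (by rw [← h7, h6 y hy (h7 ▸ hq.odd_of_ne_two e), orderOf_one])
  obtain ⟨S, hS, h2⟩ := Syl.exists_ge (p := 2) (IsPGroup.of_card (n := 1) ((Nat.card_zpowers _).trans ht)) le_top
  have h6 := fun g hg => by_contra fun e => hn (h.caseB2 (g := g) h4 ht hy ho h1 hg e)
  refine h.caseA hss ht hS ((abelian_cent (h3 S hS.pgroup)).trans (cent_le_cent1 (h2 (mem_zpowers t)))) h6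
    (fun g h7 h8 => ?_) ht
  rw [← h.f1 ht hy ho h1, h.f1 (ord_mul_inv ht (ordc ht g) (mem_cent1_symm h7) h8.symm)
    (mem_cent1_symm (mul_mem (mem_cent1_symm hy) (mem_cent1_symm (h6 g h7 ▸ hy)))) ho h1]

end EC

end Cfsg.Lib.FGS
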