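import Mathlib
import Cfsg.Agent.Lib.BG.T03_1
import Cfsg.Agent.Lib.BG.T01_Cyclic
import Cfsg.Agent.Lib.Transfer.Criteria
import Cfsg.Agent.Lib.Hall.Solvable
import Cfsg.Agent.Lib.Small.Four

/-! Counting planes; no solvable `3'`-subgroup of `GL₄(3)` is transitive on the planes. -/

set_option autoImplicit false

namespace Cfsg.Lib.FGS

open Subgroup Cfsg.Lib.BG Cfsg.Lib.Transfer

variable {X : Type*} [Group X] [Finite X] {p : ℕ} [hp : Fact p.Prime] {V : Subgroup X}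

/-- Independent pairs in `W`. -/
def indPairs (W : Subgroup X) : Set (X × X) :=
  {z | z.1 ∈ W ∧ z.1 ≠ 1 ∧ z.2 ∈ W ∧ z.2 ∉ zpowers z.1}

theorem ncard_indPairs (hV : ∀ x ∈ V, x ^ p = 1) :
    (indPairs V).ncard = (Nat.card V - 1) * (Nat.card V - p) := by
  classical
  haveI := Fintype.ofFinite X
  rw [Set.ncard_eq_toFinset_card', Finset.card_eq_sum_card_fiberwise (f := Prod.fst)
    (t := ((V : Set X) \ {1}).toFinset) fun z hz => by
      have : z ∈ indPairs V := by simpa using hz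
      simpa using ⟨this.1, this.2.1⟩,
    Finset.sum_const_nat (m := Nat.card V - p), ← Set.ncard_eq_toFinset_card',
    Set.ncard_sdiff_singleton_of_mem V.one_mem, ← Nat.card_coe_set_eq]
  · rfl
  intro x hx
  have hx : x ∈ V ∧ x ≠ 1 := by simpa using hx
  have h1 : ((V : Set X) \ zpowers x).ncard = Nat.card V - p := by
    rw [Set.ncard_sdiff (zpowers_le.2 hx.1), ← Nat.card_coe_set_eq, ← Nat.card_coe_set_eq]
    exact congrArg _ ((Nat.card_zpowers x).trans (orderOf_eq_prime (hV x hx.1) hx.2))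
  rw [← h1, Set.ncard_eq_toFinset_card']
  refine Finset.card_nbij' Prod.snd (fun y => (x, y)) ?_ ?_ ?_ ?_
  · rintro ⟨a, b⟩ h
    obtain ⟨h', rfl⟩ := Finset.mem_filter.1 h
    simpa using (Set.mem_toFinset.1 h').2.2
  · intro y hy
    have hy : y ∈ V ∧ y ∉ zpowers x := by simpa using hy
    exact Finset.mem_filter.2 ⟨Set.mem_toFinset.2 ⟨hx.1, hx.2, hy⟩, rfl⟩
  · rintro ⟨a, b⟩ h
    obtain ⟨h, rfl⟩ := Finset.mem_filter.1 h
    rfl
  · exact fun _ _ => rfl

theorem card_sup_of_indPairs (hV : IsElementaryAbelian p V) {z : X × X} (hz : z ∈ indPairs V) :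
    Nat.card ↥(zpowers z.1 ⊔ zpowers z.2) = p ^ 2 := by
  obtain ⟨h1, h2, h3, h4⟩ := hz
  have c1 := (Nat.card_zpowers _).trans (orderOf_eq_prime (hV.2 _ h1) h2)
  have c2 := (Nat.card_zpowers _).trans (orderOf_eq_prime (hV.2 _ h3) fun e => h4 (e ▸ one_mem _))
  have := hV.1
  rw [sup_comm, Core.card_sup_of_disjoint, c1, c2, pow_two]
  · exact le_trans (zpowers_le.2 h3) (((le_centralizer V).trans
      (centralizer_le (zpowers_le.2 h1))).trans (centralizer_le_normalizer _))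
  · exact (eq_bot_or_eq_of_prime (c2 ▸ hp.out) inf_le_left).resolve_right fun e =>
      h4 (inf_eq_left.1 e (mem_zpowers _))

theorem ncard_planes (hV : IsElementaryAbelian p V) :
    {W | W ≤ V ∧ Nat.card W = p ^ 2}.ncard * ((p ^ 2 - 1) * (p ^ 2 - p)) =
      (Nat.card V - 1) * (Nat.card V - p) := by
  classical
  haveI := Fintype.ofFinite X
  haveI := Fintype.ofFinite (Subgroup X)
  rw [← ncard_indPairs hV.2, Set.ncard_eq_toFinset_card' (indPairs V),
    Finset.card_eq_sum_card_fiberwise (f := fun z => zpowers z.1 ⊔ zpowers z.2)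
    (t := {W | W ≤ V ∧ Nat.card W = p ^ 2}.toFinset) fun z hz => by
      have : z ∈ indPairs V := by simpa using hz
      simpa using ⟨⟨this.1, this.2.2.1⟩, by simpa using card_sup_of_indPairs hV this⟩,
    Finset.sum_const_nat (m := (p ^ 2 - 1) * (p ^ 2 - p)), ← Set.ncard_eq_toFinset_card']
  intro W hW
  have hW : W ≤ V ∧ Nat.card W = p ^ 2 := (Set.mem_toFinset (a := W)).1 hW
  rw [← hW.2, ← ncard_indPairs fun x hx => hV.2 x (hW.1 hx), Set.ncard_eq_toFinset_card']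
  congr 1
  ext z
  rw [Finset.mem_filter, Set.mem_toFinset, Set.mem_toFinset]
  refine ⟨fun ⟨h, e⟩ => ⟨e ▸ mem_sup_left (mem_zpowers _), h.2.1,
    e ▸ mem_sup_right (mem_zpowers _), h.2.2.2⟩, fun h => ?_⟩
  have h' : z ∈ indPairs V := ⟨hW.1 h.1, h.2.1, hW.1 h.2.2.1, h.2.2.2⟩
  exact ⟨h', eq_of_le_of_card_ge (sup_le (zpowers_le.2 h.1) (zpowers_le.2 h.2.2.1))
    (hW.2.trans (card_sup_of_indPairs hV h').symm).le⟩


omit hp in
theorem not_dvd_of_card_81 [V.Normal] (hs : Group.IsSolvable X) (hc : Nat.card V = 3 ^ 4)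
    (hC : 𝐂(V) = V) : ¬ 65 ∣ Nat.card X := fun h => by
  haveI : Fact (Nat.Prime 3) := ⟨by norm_num⟩
  haveI h5 : Fact (Nat.Prime 5) := ⟨by norm_num⟩
  haveI h13 : Fact (Nat.Prime 13) := ⟨by norm_num⟩
  have key : ∀ (r : ℕ) [Fact r.Prime] (R : Subgroup X), r ≠ 3 → IsPGroup r R → R ≠ ⊥ →
      ∃ j ≤ 3, Nat.card ↥(V ⊓ 𝐂(R)) = 3 ^ j ∧ 81 ≡ 3 ^ j [MOD r] := fun r _ R h3 hR h1 => by
    obtain ⟨j, hj, e⟩ := (Nat.dvd_prime_pow Nat.prime_three).1
      (hc ▸ card_dvd_of_le (inf_le_left : V ⊓ 𝐂(R) ≤ V))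
    have := card_modEq_card_inf_centralizer hR (T := V) le_normalizer_of_normal
    rw [hc, e] at this
    refine ⟨j, Nat.le_of_lt_succ (hj.lt_of_ne ?_), e, this⟩
    rintro rfl
    have h2 : R ≤ V := hC ▸ le_centralizer_iff.1 (inf_eq_left.1
      (eq_of_le_of_card_ge inf_le_left (hc.trans e.symm).le))
    exact h1 (le_bot_iff.1 ((le_inf le_rfl h2).trans
      (IsPGroup.disjoint_of_ne r 3 h3 _ _ hR (.of_card hc)).le_bot))
  have hA : ∀ y : X, IsPGroup 5 (zpowers y) → y ≠ 1 → V ⊓ 𝐂[y] = ⊥ := fun y hy y1 => by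
    obtain ⟨j, hj, e, m⟩ := key 5 _ (by norm_num) hy (zpowers_ne_bot.2 y1)
    rw [← cent_zpowers, ← card_eq_one, e]
    interval_cases j <;> simp_all [Nat.ModEq]
  have hB : ∀ (R : Subgroup X) (y : X), IsPGroup 13 R → R ≠ ⊥ → orderOf y = 5 → y ∉ 𝐍(R) :=
    fun R y hR h1 hy hn => by
      obtain ⟨j, hj, e, m⟩ := key 13 _ (by norm_num) hR h1
      obtain rfl : j = 1 := by interval_cases j <;> simp_all [Nat.ModEq]
      have h2 := index_cent_prime_dvd (A := zpowers y) e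
        (zpowers_le.2 (norm_inf le_normalizer_of_normal (norm_cent (zpowers_le.2 hn)) (mem_zpowers y)))
      have h3 := Subgroup.relIndex_dvd_card 𝐂(V ⊓ 𝐂(R)) (zpowers y)
      rw [Nat.card_zpowers, hy] at h3
      have h4 := relIndex_eq_one.1 (Nat.eq_one_of_dvd_coprimes (by norm_num) h2 h3) (mem_zpowers y)
      have h6 : V ⊓ 𝐂(R) ≤ V ⊓ 𝐂[y] := le_inf inf_le_left fun v hv =>
        mem_centralizer_singleton_iff.2 (h4 v hv)
      rw [hA y (.of_card (n := 1) (by simpa using hy)) (by rintro rfl; simp at hy), le_bot_iff] at h6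
      simp [h6] at e
  obtain ⟨L, hL⟩ := Hall.exists (π := {5, 13}) (M := (⊤ : Subgroup X)) inferInstance
  have d5 := hL.dvd_card h5.out (card_top (G := X) ▸ (Dvd.intro 13 rfl).trans h) (by simp)
  have d13 := hL.dvd_card h13.out (card_top (G := X) ▸ (Dvd.intro_left 5 rfl).trans h) (by simp)
  obtain ⟨r, R, hr, R1, RL, hR, -, hn, -⟩ := Hall.exists_invariant_abelian_pgroup (L := L) (T := ⊥)
    inferInstance (by rintro rfl; simp at d5) bot_le
  haveI := Fact.mk hr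
  obtain ⟨⟨x, hx⟩, ox⟩ := exists_prime_orderOf_dvd_card' 13 d13
  rcases hL.pi.mem hr ((pgroup_dvd_card hR R1).trans (card_dvd_of_le RL)) with rfl | rfl
  · obtain ⟨k, hk⟩ := hR.exists_card_eq
    have h1 := regular_norm_dvd_pred (K := V) (H := R) le_normalizer_of_normal fun y hy y1 =>
      hA y (hR.to_le (zpowers_le.2 hy)) y1
    have h2 : Nat.card R = 5 := by
      rw [hk] at h1 ⊢
      rw [hc] at h1
      have : k ≤ 1 := by
        by_contra e
        exact absurd ((pow_dvd_pow 5 (by omega : 2 ≤ k)).trans h1) (by norm_num)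
      interval_cases k
      · exact absurd (card_eq_one.1 hk) R1
      · rfl
    have h3 := index_cent_prime_dvd (A := zpowers x) h2 (zpowers_le.2 (hn hx))
    have h4 := Subgroup.relIndex_dvd_card 𝐂(R) (zpowers x)
    rw [← orderOf_coe] at ox
    rw [Nat.card_zpowers, ox] at h4
    have h6 := relIndex_eq_one.1 (Nat.eq_one_of_dvd_coprimes (by norm_num) h3 h4)
    obtain ⟨⟨y, hy⟩, oy⟩ := exists_prime_orderOf_dvd_card' 5 h2.symm.dvd
    exact hB (zpowers x) y (.of_card (n := 1) (by simpa using ox))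
      (zpowers_ne_bot.2 (by rintro rfl; simp at ox)) ((orderOf_coe _).trans oy)
      (centralizer_le_normalizer _ (le_centralizer_iff.1 h6 hy))
  · obtain ⟨⟨y, hy⟩, oy⟩ := exists_prime_orderOf_dvd_card' 5 d5
    exact hB R y hR R1 ((orderOf_coe _).trans oy) (hn hy)

omit hp in
theorem not_planeTr_81 [V.Normal] (hs : Group.IsSolvable X) (hV : IsElementaryAbelian 3 V)
    (hc : Nat.card V = 3 ^ 4) (hC : 𝐂(V) = V) (h : ∀ A ≤ V, ∀ B ≤ V, Nat.card A = 3 ^ 2 →
      Nat.card B = 3 ^ 2 → ∃ g, B = g ⋆ A) : False := by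
  haveI : Fact (Nat.Prime 3) := ⟨by norm_num⟩
  have h1 := ncard_planes hV
  rw [hc] at h1
  have h2 : {W | W ≤ V ∧ Nat.card W = 3 ^ 2}.ncard = 130 := by omega
  obtain ⟨A, hA⟩ := Set.nonempty_of_ncard_ne_zero (h2 ▸ (by norm_num : 130 ≠ 0))
  have : {W | W ≤ V ∧ Nat.card W = 3 ^ 2} = {K | ∃ g : X, K = g ⋆ A} := by
    refine Set.ext fun W => ⟨fun hW => h A hA.1 W hW.1 hA.2 hW.2, ?_⟩
    rintro ⟨g, rfl⟩
    exact ⟨(conj_mono g hA.1).trans (conj_eq_self_of_normal g V).le, (card_conj _ _).trans hA.2⟩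
  rw [this, Small.ncard_conj_subgroup] at h2
  exact not_dvd_of_card_81 hs hc hC ((show 65 ∣ 130 by norm_num).trans (h2 ▸ index_dvd_card _))

end Cfsg.Lib.FGS
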