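import Cfsg.Agent.Lib.FGS.Kegel
import Cfsg.Agent.Lib.PGroup.RankOne

/-!
# Camina pairs and equal order pairs
-/

set_option autoImplicit false

namespace Cfsg.Lib.FGS

open Subgroup Cfsg.Lib Cfsg.Lib.BG Cfsg.Lib.Transfer
open scoped commutatorElement

universe u

variable {G : Type u} [Group G] [Finite G] {p q r : ℕ} {N : Subgroup G}

section EqualOrder

variable (h : ∀ x ∉ N, ∀ n ∈ N, orderOf (x * n) = orderOf x)
include h

theorem not_dvd_orderOf_of_equalOrder (hq : q.Prime) (hr : r.Prime) (hrq : r ≠ q) {x : G} (hx : x ∉ N)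
    {a : ℕ} (hxq : x ^ q ^ a ∈ N) : ¬ r ∣ orderOf x := fun e => by
  have ha : a ≠ 0 := by
    rintro rfl
    exact hx (by simpa using hxq)
  obtain ⟨k, -, hk⟩ := Nat.exists_mul_mod_eq_one_of_coprime
    (((Nat.coprime_primes hr hq).2 hrq).pow_right a) (Nat.one_lt_pow ha hq.one_lt)
  have h1 := h x hx _ (pow_mem hxq (r * k / q ^ a))
  rw [← pow_mul, ← pow_succ', ← hk, Nat.div_add_mod, orderOf_pow, Nat.div_eq_self] at h1
  rcases h1 with h1 | h1
  · exact (orderOf_pos x).ne' h1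
  · exact hr.not_dvd_one (h1 ▸ Nat.dvd_gcd e (dvd_mul_right r k))

theorem eq_one_of_equalOrder (hq : q.Prime) (hr : r.Prime) (hrq : r ≠ q) {x v : G} (hx : x ∉ N)
    {a b : ℕ} (hxq : x ^ q ^ a ∈ N) (hv : v ∈ N) (hb : v ^ r ^ b = 1) (hc : v ∈ 𝐂[x]) : v = 1 := by
  have h1 := pow_orderOf_eq_one (x * v)
  rw [h x hx v hv, Commute.mul_pow (mem_centralizer_singleton_iff.1 hc).symm, pow_orderOf_eq_one,
    one_mul] at h1
  exact mem_bot.1 (Inv.mem_of_pow_mem_of_pow_mem (mem_bot.2 hb) (mem_bot.2 h1) (((Nat.Prime.coprime_iff_not_dvd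
    hr).2 (not_dvd_orderOf_of_equalOrder h hq hr hrq hx hxq)).pow_left b))

theorem pRankLE_of_equalOrder [N.Normal] [hq : Fact q.Prime] [hr : Fact r.Prime] (hrq : r ≠ q)
    (hd : r ∣ Nat.card N) (hN : HasNormalPComplement r N) : PRankLE q 1 (G ⧸ N) := fun A hA hA' => by
  obtain ⟨R, -, hRN, hR, hi⟩ := exists_sylowIn_ge (p := r) IsPGroup.of_bot (bot_le (a := N))
  have h1 : R ≠ ⊥ := by
    rintro rfl
    exact hi (by rwa [relIndex_bot_left])
  set H := A.comap (QuotientGroup.mk' N) ⊓ 𝐍(R)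
  have h2 : H.map (QuotientGroup.mk' N) = A := le_antisymm (map_le_iff_le_comap.2 inf_le_left) fun a ha => by
    obtain ⟨g, rfl⟩ := QuotientGroup.mk_surjective a
    obtain ⟨n, hn, h2⟩ := frattini_argument hRN hR hi le_normalizer_of_normal (mem_top g)
    have : QuotientGroup.mk' N (n * g) = g := by simp [(QuotientGroup.eq_one_iff n).2 hn]
    exact ⟨n * g, ⟨mem_comap.2 (this ▸ ha), h2⟩, this⟩
  have h3 : ∀ x ∈ H, x ^ q ∈ N := fun x hx => (QuotientGroup.eq_one_iff _).1 (hA' _ hx.1)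
  rcases relIndex_dvd_or_pow_mem (p := q) (A := 𝐙(R)) (H := H) (D := N ⊓ H) (Z := ⊥)
    (PGroup.isMulCommutative_iff.2 fun a ha b hb => hb.2 a ha.1) (norm_center inf_le_right)
    (fun d hd => by
      obtain ⟨t, ht, o, ho, rfl⟩ := exists_mul_pResidual hRN hi hd.1
      refine mul_mem (le_centralizer_iff.1 inf_le_right ht) (centralizer_le (SetLike.coe_subset_coe.2 inf_le_left)
        (mem_centralizer_of_hasNormalPComplement_subgroup hN hR hRN (map_subtype_le _ ho)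
          ((mul_mem_cancel_left (le_normalizer ht)).1 hd.2.2) ?_))
      obtain ⟨o, ho, rfl⟩ := ho
      simpa using (mem_pResidual_iff hN).1 ho)
    (fun x hx => ⟨h3 x hx, pow_mem hx q⟩)
    (fun x hx y hy => ⟨(QuotientGroup.eq_one_iff _).1 ((commutatorElement_eq_one_iff_mul_comm
      (G := G ⧸ N)).2 (PGroup.isMulCommutative_iff.1 hA _ hx.1 _ hy.1)),
      commutator_le_self H (commutator_mem_commutator hx hy)⟩)
    (fun x hx h4 v hv => by
      obtain ⟨b, hb⟩ := exists_pow_of_mem hR hv.1.1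
      exact eq_one_of_equalOrder h hq.out hr.out hrq (a := 1) (fun e => h4 ⟨e, hx⟩) (by simpa using h3 x hx)
        (hRN hv.1.1) hb hv.2) with h4 | h4
  · rw [inf_relIndex_right, ← QuotientGroup.ker_mk' N, relIndex_ker, h2] at h4
    simpa using Nat.le_of_dvd hq.out.pos h4
  · refine absurd (eq_bot_iff.2 fun v hv => ?_) (PGroup.inf_centralizer_ne_bot hR hR le_normalizer h1)
    obtain ⟨b, hb⟩ := exists_pow_of_mem hR hv.1
    exact Inv.mem_of_pow_mem_of_pow_mem (h4 v hv) (mem_bot.2 hb)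
      (((Nat.coprime_primes hq.out hr.out).2 hrq.symm).pow_right b)

end EqualOrder

section Camina

variable [N.Normal] (h : ∀ g ∉ N, ∀ n ∈ N, ∃ x : G, x * g * x⁻¹ = g * n)
include h

omit [Finite G] [N.Normal] in
theorem equalOrder_of_camina : ∀ x ∉ N, ∀ n ∈ N, orderOf (x * n) = orderOf x := fun x hx n hn => by
  obtain ⟨g, hg⟩ := h x hx n hn
  rw [← hg, ← MulAut.conj_apply, MulEquiv.orderOf_eq]

theorem exists_camina_sylow [hp : Fact p.Prime] (P : Sylow p G) (hd : p ∣ N.index) :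
    ∃ z ∈ (P : Subgroup G), z ∉ N ∧ z ^ p ∈ N ∧ (∀ s ∈ (P : Subgroup G), ⁅z, s⁆ ∈ N) ∧
      ∀ n ∈ (P : Subgroup G) ⊓ N, ∃ y ∈ (P : Subgroup G), n = ⁅z⁻¹, y⁆ := by
  obtain ⟨z, hz, h1, h2, h3⟩ := PGroup.exists_mem_not_mem_pow_mem P.2 (M := P ⊓ N) inf_le_left le_rfl
    le_normalizer fun e => not_dvd_index_of_sylow_le P (e.trans inf_le_right) hd
  have h4 : z ∉ N := fun e => h1 ⟨hz, e⟩
  refine ⟨z, hz, h4, h2.2, fun s hs => (h3 s hs).2, fun n hn => ?_⟩
  have key : ∀ g : G, (g : G ⧸ N) ∈ 𝐂[(z : G ⧸ N)] ↔ z⁻¹ * (g * z * g⁻¹) ∈ N := fun g => by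
    rw [← QuotientGroup.eq, mem_centralizer_singleton_iff, QuotientGroup.mk_mul, QuotientGroup.mk_mul,
      QuotientGroup.mk_inv, eq_mul_inv_iff_mul_eq, eq_comm]
  set D := (𝐂[(z : G ⧸ N)]).comap (QuotientGroup.mk' N)
  have hPD : ↑P ≤ D := fun s hs => mem_cent1_comm (mem_centralizer_singleton_iff.2
    (commutatorElement_eq_one_iff_mul_comm.1 ((QuotientGroup.eq_one_iff ⁅z, s⁆).2 (h3 s hs).2)))
  have h5 : hcl D z = (z * ·) '' N := by
    refine Set.Subset.antisymm ?_ ?_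
    · rintro _ ⟨g, hg, rfl⟩
      exact ⟨_, (key g).1 hg, by simp⟩
    · rintro _ ⟨m, hm, rfl⟩
      obtain ⟨g, hg⟩ := h z h4 m hm
      exact ⟨g, (key g).2 (by simpa [hg] using hm), hg⟩
  have h6 : Nat.card N ∣ (𝐂[z]).relIndex P * (P : Subgroup G).relIndex D := by
    have := relIndex_dvd_of_le_left D (inf_le_left : 𝐂[z] ⊓ (P : Subgroup G) ≤ _)
    rwa [← ncard_hcl, h5, Set.ncard_image_of_injective _ (mul_right_injective z),
      ← relIndex_inf_mul_relIndex, inf_eq_left.2 hPD] at this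
  have h7 : Nat.card ↥((P : Subgroup G) ⊓ N) ∣ (𝐂[z]).relIndex P := by
    obtain ⟨k, hk⟩ := (P.2.to_le (inf_le_left : (P : Subgroup G) ⊓ N ≤ _)).exists_card_eq
    refine Nat.Coprime.dvd_of_dvd_mul_right ?_ ((card_dvd_of_le inf_le_right).trans h6)
    rw [hk]
    exact ((Nat.Prime.coprime_iff_not_dvd hp.out).2 fun e =>
      P.not_dvd_index (e.trans (relIndex_dvd_index_of_le hPD))).pow_left k
  have h8 : hcl P z = (z * ·) '' ((P : Subgroup G) ⊓ N : Subgroup G) := by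
    refine Set.eq_of_subset_of_ncard_le ?_ ?_
    · rintro _ ⟨g, hg, rfl⟩
      exact ⟨_, mem_inf.2 ⟨mul_mem (inv_mem hz) (mul_mem (mul_mem hg hz) (inv_mem hg)), (key g).1 (hPD hg)⟩,
        by simp⟩
    · rw [ncard_hcl, Set.ncard_image_of_injective _ (mul_right_injective z)]
      exact Nat.le_of_dvd (Nat.pos_of_ne_zero index_ne_zero_of_finite) h7
  obtain ⟨y, hy, e⟩ := h8.ge ⟨n, hn, rfl⟩
  exact ⟨y, hy, by rw [commutatorElement_def, inv_inv, mul_assoc, mul_assoc, ← mul_assoc y, e]; simp⟩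

theorem hasNormalPComplement_of_camina [hp : Fact p.Prime] (hd : p ∣ N.index) :
    HasNormalPComplement p N := by
  obtain ⟨P⟩ : Nonempty (Sylow p G) := inferInstance
  obtain ⟨z, hz, -, -, -, h1⟩ := exists_camina_sylow h P hd
  refine hasNormalPComplement_of_le (K := N ⊔ P) le_sup_left
    (hasNormalPComplement_subgroup_of_inf_le_frattini le_sup_right P.2
      (fun e => P.not_dvd_index (e.trans (relIndex_dvd_index_of_le le_sup_right))) fun n hn => ?_)
  have h2 : n ∈ N := map_subtype_pResidual_le_iff.2 (fun g hg hc => by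
    obtain ⟨m, hm, t, ht, rfl⟩ := exists_mul_of_mem_sup le_normalizer_of_normal hg
    obtain ⟨k, hk⟩ := exists_pow_of_mem P.2 ht
    refine mem_of_pow_mem_of_coprime (n := p ^ k) ((QuotientGroup.eq_one_iff _).1 ?_) (hc.pow_right k)
    rw [QuotientGroup.mk_pow, QuotientGroup.mk_mul, (QuotientGroup.eq_one_iff m).2 hm, one_mul,
      ← QuotientGroup.mk_pow, hk, QuotientGroup.mk_one]) hn.1
  obtain ⟨y, hy, rfl⟩ := h1 n ⟨hn.2, h2⟩
  exact map_mono (PGroup.commutator_le_frattini P.2)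
    ((map_subtype_commutator _).ge (commutator_mem_commutator (inv_mem hz) hy))

theorem not_dvd_card_of_camina [hp : Fact p.Prime] (hd : p ∣ N.index) (hr : PRankLE p 1 (G ⧸ N)) :
    ¬ p ∣ Nat.card N := by
  obtain ⟨P⟩ : Nonempty (Sylow p G) := inferInstance
  obtain ⟨z, hz, h1, h2, h3, h4⟩ := exists_camina_sylow h P hd
  have h5 : (P : Subgroup G) ⊓ N = ⊥ := by
    by_contra e
    haveI := P.2.isNilpotent
    refine (PGroup.commutator_lt_of_nilpotent inf_le_left (norm_inf le_normalizer le_normalizer_of_normal)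
      e).not_ge fun n hn => ?_
    obtain ⟨y, hy, rfl⟩ := h4 n hn
    by_cases h5 : y ∈ N
    · exact commutator_comm_le _ _ (commutator_mem_commutator (inv_mem hz) ⟨hy, h5⟩)
    obtain ⟨k, h6, h7⟩ := PGroup.exists_pow_not_mem_pow_mem (exists_pow_of_mem P.2 hy) h5
    have h8 : ((y ^ p ^ k : G) : G ⧸ N) ^ p = 1 := (QuotientGroup.eq_one_iff _).2 h7
    have h9 := PGroup.elemAb_sup_zpowers (PGroup.elemAb_zpowers h8) (x := (z : G ⧸ N))
      (fun _ ⟨j, e⟩ => e ▸ (Commute.zpow_right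
        (commutatorElement_eq_one_iff_mul_comm.1 ((QuotientGroup.eq_one_iff ⁅z, y ^ p ^ k⁆).2
          (h3 _ (pow_mem hy _)))) j).symm) ((QuotientGroup.eq_one_iff _).2 h2)
    have h10 := eq_of_le_of_card_ge le_sup_left ((hr _ h9.1 h9.2).trans_eq (by
      rw [pow_one, Nat.card_zpowers, orderOf_eq_prime h8 fun e => h6 ((QuotientGroup.eq_one_iff _).1 e)]))
    obtain ⟨j, hj⟩ := h10.ge (mem_sup_right (mem_zpowers _))
    have h11 := QuotientGroup.eq.1 (show (((y ^ p ^ k) ^ j : G) : G ⧸ N) = z from hj)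
    have h12 : ⁅z⁻¹, y⁆ = ⁅(((y ^ p ^ k) ^ j)⁻¹ * z)⁻¹, y⁆ := by
      simp only [commutatorElement_def]; group
    rw [h12]
    exact commutator_mem_commutator (inv_mem (mem_inf.2 ⟨mul_mem (inv_mem (zpow_mem (pow_mem hy _) j)) hz, h11⟩)) hy
  intro e
  refine P.not_dvd_index (dvd_trans ?_ (relIndex_dvd_index_of_normal' _ N))
  rwa [← inf_relIndex_right, h5, relIndex_bot_left]

/-- Camina's theorem. -/
theorem camina (hN : N ≠ ⊥) (hN' : N ≠ ⊤) :
    (∀ x ∈ N, x ≠ 1 → 𝐂[x] ≤ N) ∨ IsPrimePow (Nat.card N) ∨ IsPrimePow N.index := by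
  by_contra! H
  obtain ⟨⟨x, hx, h1, h2⟩, h3, h4⟩ := H
  have he := equalOrder_of_camina h
  have key : ∀ {n p : ℕ}, n ≠ 1 → n ≠ 0 → ¬ IsPrimePow n → ∃ q, q.Prime ∧ q ∣ n ∧ q ≠ p := fun h1 h0 h2 => by
    by_contra! e
    obtain ⟨q, hq, hd⟩ := Nat.exists_prime_and_dvd h1
    exact h2 ((isPrimePow_iff_unique_prime_dvd).2 ⟨q, ⟨hq, hd⟩, fun r hr => (e r hr.1 hr.2).trans (e q hq hd).symm⟩)
  obtain ⟨g, hg, h5⟩ := SetLike.not_le_iff_exists.1 h2
  obtain ⟨p, hp, y, hy, h6, k, hk⟩ := exists_primePow_not_mem h5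
  obtain ⟨r, hr, v, hv, h7, l, hl⟩ := exists_primePow_not_mem (K := ⊥) h1
  have h8 : v ∈ N := zpowers_le.2 hx hv
  obtain rfl : r = p := by_contra fun e => h7 (eq_one_of_equalOrder he hp hr e h6 (hk.symm ▸ one_mem N) h8 hl
    (mem_cent1_comm (cent1_le_cent1_of_mem_zpowers hv (zpowers_le.2 hg hy))))
  haveI := Fact.mk hp
  have h9 : r ∣ Nat.card N := by
    simpa using dvd_relIndex_of_not_mem hp (K := ⊥) le_normalizer_of_normal h8 h7 (mem_bot.2 hl)
  have h10 : r ∣ N.index := by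
    simpa using dvd_relIndex_of_not_mem hp (N := ⊤) le_normalizer_of_normal (mem_top y) h6 (hk.symm ▸ one_mem N)
  obtain ⟨q, hq, h11, hqr⟩ := key (p := r) (fun e => hN' (index_eq_one.1 e)) index_ne_zero_of_finite h4
  haveI := Fact.mk hq
  have h12 := not_dvd_card_of_camina h h11
    (pRankLE_of_equalOrder he hqr.symm h9 (hasNormalPComplement_of_camina h h10))
  obtain ⟨Q⟩ : Nonempty (Sylow q G) := inferInstance
  obtain ⟨z, hz, h13, h14, -⟩ := exists_camina_sylow h Q h11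
  obtain ⟨m, hm⟩ := exists_pow_of_mem Q.2 (pow_mem hz q)
  have h15 : z ^ q = 1 := by_contra fun e => h12 (by
    simpa using dvd_relIndex_of_not_mem hq (K := ⊥) le_normalizer_of_normal h14 e (mem_bot.2 hm))
  haveI := kegel hq (K := N) (g := z) (le_normalizer_of_normal (mem_top _)) fun n hn => by
    have := he z h13 _ (Normal.conj_mem ‹_› n hn z⁻¹)
    rw [show z * (z⁻¹ * n * z⁻¹⁻¹) = n * z by group] at this
    exact orderOf_dvd_iff_pow_eq_one.1 (this ▸ orderOf_dvd_of_pow_eq_one h15)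
  obtain ⟨s, hs, h16, hsr⟩ := key (p := r) (fun e => hN (card_eq_one.1 e)) Nat.card_pos.ne' h3
  haveI := Fact.mk hs
  exact not_dvd_card_of_camina h h10
    (pRankLE_of_equalOrder he hsr h16 hasNormalPComplement_of_isNilpotent) h9

end Camina

end Cfsg.Lib.FGS
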