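import Cfsg.Agent.Lib.Frobenius.Compl
import Cfsg.Agent.Lib.Frobenius.Char
import Cfsg.Agent.Lib.Spec.GK
import Cfsg.Agent.Lib.PGroup.Metacyclic
import Cfsg.Agent.Lib.BG.T03_7

/-!
Frobenius and 2-Frobenius groups and the prime graph.
-/

set_option autoImplicit false

namespace Cfsg.Lib.FGS

open Subgroup Cfsg.Lib.BG Cfsg.Lib.Transfer Cfsg.Lib.Spec Cfsg.Lib.Frobenius

variable {G : Type*} [Group G] [Finite G]

theorem exists_frob_of_sp (N : Subgroup G) [N.Normal] (h0 : N ≠ ⊥) (h1 : N ≠ ⊤)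
    (h : ∀ r s : ℕ, r.Prime → s.Prime → r ∣ Nat.card N → s ∣ N.index → r ≠ s ∧ r * s ∉ sp G) :
    ∃ C : Subgroup G, IsFrobeniusComplement C ∧ frobeniusKernel C = N := by
  obtain ⟨C, hC⟩ := exists_right_complement'_of_coprime (N := N)
    (Nat.coprime_of_dvd fun r hr h1 h2 => (h r r hr hr h1 h2).1 rfl)
  have hf := fpf_of_not_mem_sp (V := N) (A := C) fun r s hr hs h1 h2 =>
    h r s hr hs h1 (hC.symm.index_eq_card ▸ h2)
  exact ⟨C, isFrobeniusComplement_of_fpf hC.sup_eq_top h0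
    (fun e => h1 (by simpa [e] using hC.sup_eq_top)) hf, frobeniusKernel_eq_of_fpf hC.sup_eq_top hf⟩

theorem frob_facts {N C : Subgroup G} [N.Normal] (hC : IsFrobeniusComplement C) (hk : frobeniusKernel C = N) :
    IsComplement' N C ∧ SemiReg N C ∧ N ≠ ⊥ ∧ (Nat.card N).Coprime N.index ∧ Group.IsNilpotent N ∧
      ∀ n ∈ N, n ≠ 1 → 𝐂[n] ≤ N := by
  have h1 := isComplement'_of_coe_eq_frobeniusKernel hC hk.symm
  have h2 : SemiReg N C := fpf_of_isFrobeniusComplement h1.disjoint.eq_bot hC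
  exact ⟨h1, h2, fun e => hC.2.1 (by simpa [e] using h1.sup_eq_top),
    h1.symm.index_eq_card ▸ (coprime_card_of_fpf le_normalizer_of_normal h2).symm,
    h2.nil le_normalizer_of_normal hC.1, centralizer_le_of_fpf N h1.sup_eq_top h2⟩

theorem fpf_map_of_frob {H K : Subgroup G} [H.Normal] {C : Subgroup K} (hC : IsFrobeniusComplement C)
    (hk : frobeniusKernel C = H.subgroupOf K) : Fpf (K.map (QuotientGroup.mk' H)) := by
  have h1 := (frob_facts hC hk).1
  refine fpf_of_fc hC (MulEquiv.ofBijective (((QuotientGroup.mk' H).subgroupMap K).comp C.subtype)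
    ⟨(injective_iff_map_eq_one _).2 fun c hc => ?_, ?_⟩).symm
  · exact Subtype.ext (disjoint_def.1 h1.disjoint
      ((QuotientGroup.eq_one_iff (N := H) ((c : K) : G)).1 (congrArg Subtype.val hc)) c.2)
  · rintro ⟨_, k, hk, rfl⟩
    obtain ⟨⟨h, c⟩, e⟩ := h1.2 ⟨k, hk⟩
    refine ⟨c, Subtype.ext ?_⟩
    have e' : ((h : K) : G) * ((c : K) : G) = k := congrArg Subtype.val e
    change (((c : K) : G) : G ⧸ H) = (k : G ⧸ H)
    rw [← e', QuotientGroup.mk_mul, (QuotientGroup.eq_one_iff (N := H) ((h : K) : G)).2 h.2, one_mul]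

theorem cyclic_of_fpf_of_semiReg {K R : Subgroup G} (hK : Fpf K) (hR : R ≤ 𝐍(K)) (h : SemiReg K R)
    (h1 : R ≠ ⊥) : IsCyclic K ∧ Odd (Nat.card K) := by
  have ho : Odd (Nat.card K) := by
    rw [← Nat.not_even_iff_odd, even_iff_two_dvd]
    intro h2
    obtain ⟨t, ht⟩ := exists_prime_orderOf_dvd_card' 2 h2
    obtain ⟨⟨r, hr⟩, hr1⟩ := ne_bot_iff_exists_ne_one.1 h1
    have e := hK.inv_unique (s := K.normalizerMonoidHom ⟨r, hR hr⟩ t) ((MulEquiv.orderOf_eq _ t).trans ht) ht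
    have : (t : G) ∈ K ⊓ 𝐂[r] :=
      ⟨t.2, mem_centralizer_singleton_iff.2 (mul_inv_eq_iff_eq_mul.1 (congrArg Subtype.val e)).symm⟩
    rw [h r hr (fun e => hr1 (Subtype.ext e)), mem_bot, OneMemClass.coe_eq_one] at this
    simp [this] at ht
  haveI := h.nil hR h1
  haveI := hK.isZGroup_of_odd (A := ⊤) (by rwa [card_top])
  haveI : IsZGroup K := IsZGroup.of_surjective (f := (⊤ : Subgroup K).subtype) fun x => ⟨⟨x, trivial⟩, rfl⟩
  exact ⟨inferInstance, ho⟩

omit [Finite G] in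
theorem card_map_mk' (H K : Subgroup G) [H.Normal] : Nat.card (K.map (QuotientGroup.mk' H)) = H.relIndex K := by
  rw [← relIndex_ker, QuotientGroup.ker_mk']

omit [Finite G] in
theorem index_map_mk' {H K : Subgroup G} [H.Normal] (h : H ≤ K) : (K.map (QuotientGroup.mk' H)).index = K.index :=
  index_map_eq _ (QuotientGroup.mk'_surjective H) (by rwa [QuotientGroup.ker_mk'])

theorem frob_or_twoFrob [Group.IsSolvable G] {π : Set ℕ} (h0 : piCore π G ≠ ⊥)
    (hb : ∃ b ∉ π, b.Prime ∧ b ∣ Nat.card G)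
    (h : ∀ a ∈ π, ∀ b ∉ π, a.Prime → b.Prime → a * b ∉ sp G) :
    (∃ C : Subgroup G, IsFrobeniusComplement C) ∨
    (∃ (H K : Subgroup G) (_ : H.Normal), K.Normal ∧ H < K ∧
      (∃ C : Subgroup K, IsFrobeniusComplement C ∧ frobeniusKernel C = (H.subgroupOf K : Set K)) ∧
      (∃ C : Subgroup (G ⧸ H), IsFrobeniusComplement C ∧
        frobeniusKernel C = (K.map (QuotientGroup.mk' H) : Set (G ⧸ H)))) := by
  have hH := Core.piCore_isPiSubgroup π G
  have hq := Core.piCore_quotient_piCore π G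
  set H := piCore π G
  have hH1 : H ≠ ⊤ := fun e => by
    obtain ⟨b, h1, h2, h3⟩ := hb
    exact h1 (hH b h2 (by rwa [e, card_top]))
  haveI : Nontrivial (G ⧸ H) := QuotientGroup.nontrivial_iff.2 hH1
  have hs : Core.IsPiSeparable π (G ⧸ H) := .of_isSolvable inferInstance
  have hL := Core.piCore_isPiSubgroup πᶜ (G ⧸ H)
  have hL0 := hs.ne_bot.resolve_left (not_not.2 hq)
  have hLC := hs.compl.centralizer_piCore_le (by rwa [compl_compl])
  have hq2 := Core.piCore_quotient_piCore πᶜ (G ⧸ H)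
  set L := piCore πᶜ (G ⧸ H)
  have hmap : (L.comap (QuotientGroup.mk' H)).map (QuotientGroup.mk' H) = L :=
    map_comap_eq_self_of_surjective (QuotientGroup.mk'_surjective H) L
  set K := L.comap (QuotientGroup.mk' H)
  have hHK : H ≤ K := fun x hx => by
    rw [mem_comap, QuotientGroup.mk'_apply, (QuotientGroup.eq_one_iff x).2 hx]; exact one_mem L
  have hi : H.relIndex K = Nat.card L := by rw [← card_map_mk', hmap]
  by_cases hL1 : L = ⊤
  · refine Or.inl ((exists_frob_of_sp H h0 hH1 fun r s hr hs h1 h2 => ?_).imp fun _ h => h.1)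
    have : s ∉ π := hL s hs (by rwa [hL1, card_top])
    exact ⟨fun e => this (e ▸ hH r hr h1), h r (hH r hr h1) s this hr hs⟩
  have hlt : H < K := lt_of_le_of_ne hHK fun e => hL0 (by
    rw [← card_eq_one, ← hi, ← e, relIndex_self])
  obtain ⟨C, hC, hk⟩ := exists_frob_of_sp (H.subgroupOf K)
    (fun e => h0 (by rwa [subgroupOf_eq_bot, disjoint_iff, inf_eq_left.2 hHK] at e))
    (mt subgroupOf_eq_top.1 hlt.not_ge) fun r s hr hs h1 h2 => by
      have h3 : s ∉ π := hL s hs (hi ▸ h2)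
      have h4 : r ∈ π := Core.isPiSubgroup_subgroupOf K hH r hr h1
      exact ⟨fun e => h3 (e ▸ h4), fun h5 => h r h4 s h3 hr hs (sp_subgroup K h5)⟩
  refine Or.inr ⟨H, K, inferInstance, inferInstance, hlt, ⟨C, hC, hk⟩, ?_⟩
  have hf := fpf_map_of_frob hC hk
  rw [hmap] at hf ⊢
  haveI : Nontrivial ((G ⧸ H) ⧸ L) := QuotientGroup.nontrivial_iff.2 hL1
  obtain ⟨p, hp, hd⟩ := Core.exists_prime_dvd_card
    ((hs.quotient L).ne_bot.resolve_right (not_not.2 hq2))
  have hpπ := Core.piCore_isPiSubgroup π _ p hp hd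
  haveI := Fact.mk hp
  obtain ⟨x, hx⟩ := exists_prime_orderOf_dvd_card' (G := G ⧸ H) p
    ((hd.trans (card_subgroup_dvd_card _)).trans L.index_dvd_card)
  have hcyc := (cyclic_of_fpf_of_semiReg (R := zpowers x) hf le_normalizer_of_normal
    (fpf_of_not_mem_sp fun r s hr hs h1 h2 => by
      rw [Nat.card_zpowers, hx, Nat.prime_dvd_prime_iff_eq hs hp] at h2
      subst h2
      exact ⟨fun e => hL r hr h1 (e ▸ hpπ), fun h5 => h s hpπ r (hL r hr h1) hs hr (mul_comm r s ▸ sp_quotient H h5)⟩)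
    (fun e => hp.one_lt.ne (by rw [← hx, zpowers_eq_bot.1 e, orderOf_one]))).1
  have hcomm : commutator (G ⧸ H) ≤ L := (PGroup.commutator_le_centralizer_of_isCyclic hcyc
    le_normalizer_of_normal le_normalizer_of_normal).trans hLC
  refine exists_frob_of_sp L hL0 hL1 fun r s hr hs h1 h2 => ?_
  have h3 : s ∈ π := by
    by_contra h3
    haveI := Fact.mk hs
    obtain ⟨y, hy⟩ := exists_prime_orderOf_dvd_card' (G := (G ⧸ H) ⧸ L) s h2
    haveI := Normal.quotient_commutative_iff_commutator_le.2 hcomm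
    have : zpowers y ≤ ⊥ := hq2 ▸ Core.le_piCore (normal_of_isMulCommutative _) fun t ht h4 => by
      rw [Nat.card_zpowers, hy, Nat.prime_dvd_prime_iff_eq ht hs] at h4
      exact h4 ▸ h3
    exact hs.one_lt.ne (by rw [← hy, zpowers_eq_bot.1 (le_bot_iff.1 this), orderOf_one])
  exact ⟨fun e => hL r hr h1 (e ▸ h3), fun h5 => h s h3 r (hL r hr h1) hs hr (mul_comm r s ▸ sp_quotient H h5)⟩

theorem twoFrob {H K : Subgroup G} [H.Normal] [K.Normal] (hlt : H ≤ K) {B : Subgroup K}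
    (hB : IsFrobeniusComplement B) (hBk : frobeniusKernel B = H.subgroupOf K) {C : Subgroup (G ⧸ H)}
    (hC : IsFrobeniusComplement C) (hCk : frobeniusKernel C = K.map (QuotientGroup.mk' H)) :
    Group.IsSolvable G ∧ Group.IsNilpotent H ∧ IsCyclic (K.map (QuotientGroup.mk' H)) ∧ Odd (H.relIndex K) ∧
      (H.relIndex K).Coprime (Nat.card H * K.index) ∧ IsCyclic (G ⧸ K) ∧
      ∀ p q : ℕ, p.Prime → q.Prime → p ≠ q → p ∣ Nat.card G → q ∣ Nat.card G →
        (p * q ∈ sp G ↔ (p ∣ H.relIndex K ↔ q ∣ H.relIndex K)) := by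
  obtain ⟨-, -, -, b4, b5, b6⟩ := frob_facts hB hBk
  obtain ⟨c1, c2, c3, c4, -, c6⟩ := frob_facts hC hCk
  obtain ⟨hcyc, hodd⟩ := cyclic_of_fpf_of_semiReg (fpf_map_of_frob hB hBk) le_normalizer_of_normal c2 hC.1
  rw [card_map_mk', index_map_mk' hlt] at c4
  rw [card_map_mk'] at hodd
  rw [Nat.card_congr (subgroupOfEquivOfLe hlt).toEquiv] at b4
  have hcop : (H.relIndex K).Coprime (Nat.card H * K.index) := b4.symm.mul_right c4
  have hnil : Group.IsNilpotent H := (Core.isNilpotent_subgroupOf_iff hlt).1 b5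
  have hCc : IsCyclic C := by
    obtain ⟨⟨k, hk⟩, hk1⟩ := ne_bot_iff_exists_ne_one.1 c3
    have h1 : ⁅C, C⁆ ≤ K.map (QuotientGroup.mk' H) := (PGroup.commutator_le_centralizer_of_isCyclic hcyc
      le_normalizer_of_normal le_normalizer_of_normal).trans
      ((centralizer_le (Set.singleton_subset_iff.2 hk)).trans (c6 k hk fun e => hk1 (Subtype.ext e)))
    have h2 : IsMulCommutative C := le_centralizer_iff_isMulCommutative.1 (commutator_eq_bot_iff_le_centralizer.1
      (le_bot_iff.1 (c1.disjoint.eq_bot ▸ le_inf h1 (commutator_le_self C))))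
    exact isCyclic_of_surjective (⊤ : Subgroup C).subtype
      (hH := (fpf_of_fc hC (MulEquiv.refl C)).isCyclic_of_comm (A := ⊤) inferInstance) fun x => ⟨⟨x, mem_top x⟩, rfl⟩
  have hGK : IsCyclic (G ⧸ K) := isCyclic_of_surjective _
    (c1.symm.QuotientMulEquiv.symm.trans (QuotientGroup.quotientQuotientEquivQuotient H K hlt)).surjective
  have hfwd : ∀ p q : ℕ, p.Prime → q.Prime → p ∣ H.relIndex K → ¬ q ∣ H.relIndex K → p * q ∉ sp G := by
    rintro p q hp hq h1 h2 ⟨g, hg⟩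
    have hx : orderOf (g ^ q) = p := by
      rw [orderOf_pow_of_dvd hq.ne_zero (hg ▸ dvd_mul_left q p), hg, Nat.mul_div_cancel _ hq.pos]
    have hy : orderOf (g ^ p) = q := by
      rw [orderOf_pow_of_dvd hp.ne_zero (hg ▸ dvd_mul_right p q), hg, Nat.mul_div_cancel_left _ hp.pos]
    have hp' := hcop.coprime_dvd_left h1
    have hxH : g ^ q ∉ H := fun e => hp.one_lt.ne' (hp'.coprime_mul_right_right.eq_one_of_dvd
      (hx ▸ H.orderOf_dvd_natCard e))
    have hxK : g ^ q ∈ K := mem_of_pow_mem_of_coprime (K.pow_index_mem _) (hx ▸ hp'.coprime_mul_left_right)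
    have hc : g ^ p * g ^ q = g ^ q * g ^ p := (Commute.pow_pow_self g p q).eq
    obtain ⟨y, hyK, e⟩ := c6 _ (mem_map_of_mem _ hxK) (mt (QuotientGroup.eq_one_iff _).1 hxH)
      (x := QuotientGroup.mk' H (g ^ p)) (mem_centralizer_singleton_iff.2 (by rw [← map_mul, hc, map_mul]))
    have hyK' : g ^ p ∈ K := by
      have := mul_mem hyK (hlt (QuotientGroup.eq.1 e))
      simpa using this
    have hyH : g ^ p ∈ H := mem_of_pow_mem_of_coprime (H.pow_relIndex_mem hyK')
      (hy ▸ (hq.coprime_iff_not_dvd.2 h2))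
    exact hxH (b6 ⟨_, hyK'⟩ hyH (fun e => hq.one_lt.ne (by
      rw [← hy, show g ^ p = 1 from congrArg Subtype.val e, orderOf_one]))
      (x := ⟨_, hxK⟩) (mem_centralizer_singleton_iff.2 (Subtype.ext hc.symm)))
  haveI : Group.IsSolvable (G ⧸ H) := Group.isSolvable_of_ker_le_range (K.map (QuotientGroup.mk' H)).subtype
    (QuotientGroup.map H K (MonoidHom.id G) (by simpa using hlt)) (by
      rw [range_subtype, QuotientGroup.ker_map, comap_id])
  refine ⟨Group.isSolvable_of_ker_le_range H.subtype (QuotientGroup.mk' H) (by simp), hnil, hcyc, hodd, hcop, hGK,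
    fun p q hp hq hpq hpG hqG => ⟨fun h => ⟨fun h1 => by_contra fun h2 => hfwd p q hp hq h1 h2 h,
      fun h1 => by_contra fun h2 => hfwd q p hq hp h1 h2 (mul_comm p q ▸ h)⟩, fun h => ?_⟩⟩
  have hc := (Nat.coprime_primes hp hq).2 hpq
  by_cases h1 : p ∣ H.relIndex K
  · exact sp_quotient H (sp_subgroup _ ((mem_sp_of_isCyclic (G := K.map (QuotientGroup.mk' H))).2
      (by rw [card_map_mk']; exact hc.mul_dvd_of_dvd_of_dvd h1 (h.1 h1))))
  have h2 := mt h.2 h1
  have key : ∀ s : ℕ, s.Prime → s ∣ Nat.card G → ¬ s ∣ H.relIndex K → s ∣ Nat.card H ∨ s ∣ K.index :=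
    fun s hs h3 h4 => by
      rw [← H.card_mul_index, ← relIndex_mul_index hlt] at h3
      exact ((Nat.Prime.dvd_mul hs).1 h3).imp_right fun h5 => ((Nat.Prime.dvd_mul hs).1 h5).resolve_left h4
  obtain ⟨r, hr, hd⟩ := Core.exists_prime_dvd_card c3
  rw [card_map_mk'] at hd
  have mix : ∀ s t : ℕ, s.Prime → t.Prime → s ≠ t → ¬ s ∣ H.relIndex K → ¬ t ∣ H.relIndex K →
      s ∣ Nat.card H → t ∣ K.index → s * t ∈ sp G := fun s t hs ht hst h3 h4 h5 h6 => by
    rcases three_primes H K hlt hs hr ht (fun e => h3 (e ▸ hd)) hst (fun e => h4 (e ▸ hd)) h5 hd h6 with h | h | h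
    exacts [absurd (mul_comm s r ▸ h) (hfwd r s hr hs hd h3), h, absurd h (hfwd r t hr ht hd h4)]
  rcases key p hp hpG h1 with h3 | h3 <;> rcases key q hq hqG h2 with h4 | h4
  · obtain ⟨x, hx, hxo⟩ := Core.exists_mem_orderOf_eq_prime hp h3
    obtain ⟨y, hy, hyo⟩ := Core.exists_mem_orderOf_eq_prime hq h4
    exact mul_mem_sp_of_commute' (commute_of_mem_nil hnil hx hy (by rwa [hxo, hyo])) hp hq hpq
      (hxo ▸ dvd_rfl) (hyo ▸ dvd_rfl)
  · exact mix p q hp hq hpq h1 h2 h3 h4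
  · exact mul_comm q p ▸ mix q p hq hp hpq.symm h2 h1 h4 h3
  · exact sp_quotient K (mem_sp_of_isCyclic.2 (hc.mul_dvd_of_dvd_of_dvd h3 h4))

end Cfsg.Lib.FGS
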