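import Cfsg.Agent.Lib.FGS.SectRank

/-!
# The wreath product `D₈ ≀ C₂`
-/

set_option autoImplicit false
set_option maxRecDepth 100000

namespace Cfsg.Lib.D8W

open Subgroup DihedralGroup

/-- The wreath product `D₈ ≀ C₂`. -/
@[ext] structure W where
  a : DihedralGroup 4
  b : DihedralGroup 4
  s : Bool
  deriving DecidableEq

instance d8wI1 : Mul W := ⟨fun x y => if x.s then ⟨x.a * y.b, x.b * y.a, !y.s⟩ else ⟨x.a * y.a, x.b * y.b, y.s⟩⟩
instance d8wI2 : One W := ⟨⟨1, 1, false⟩⟩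
instance d8wI3 : Inv W := ⟨fun x => if x.s then ⟨x.b⁻¹, x.a⁻¹, true⟩ else ⟨x.a⁻¹, x.b⁻¹, false⟩⟩

theorem mul_def (x y : W) : x * y = if x.s then ⟨x.a * y.b, x.b * y.a, !y.s⟩ else ⟨x.a * y.a, x.b * y.b, y.s⟩ := rfl
theorem one_def : (1 : W) = ⟨1, 1, false⟩ := rfl
theorem inv_def (x : W) : x⁻¹ = if x.s then ⟨x.b⁻¹, x.a⁻¹, true⟩ else ⟨x.a⁻¹, x.b⁻¹, false⟩ := rfl

instance d8wI4 : Group W := Group.ofLeftAxioms
  (by rintro ⟨a, b, s⟩ ⟨c, d, t⟩ ⟨e, f, u⟩; cases s <;> cases t <;> simp [mul_def, mul_assoc])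
  (by rintro ⟨a, b, s⟩; simp [mul_def, one_def])
  (by rintro ⟨a, b, s⟩; cases s <;> simp [mul_def, one_def, inv_def])

/-- `W` as a product. -/
def eqv : DihedralGroup 4 × DihedralGroup 4 × Bool ≃ W where
  toFun x := ⟨x.1, x.2.1, x.2.2⟩
  invFun x := (x.a, x.b, x.s)

instance d8wI5 : Fintype W := Fintype.ofEquiv _ eqv

theorem card_W : Nat.card W = 128 := by rw [Nat.card_eq_fintype_card]; decide +kernel

/-- The two four-groups of `D₈`. -/
def k (i : Bool) (d : DihedralGroup 4) : Bool := match d with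
  | r j => j = 0 || j = 2
  | sr j => if i then j = 1 || j = 3 else j = 0 || j = 2

/-- The two normal subgroups `E₁₆`. -/
def V (i : Bool) : Subgroup W where
  carrier := {x | x.s = false ∧ k i x.a = true ∧ k i x.b = true}
  one_mem' := by revert i; decide
  mul_mem' := by
    intro x y; simp only [Set.mem_setOf_eq]; revert i x y; decide +kernel
  inv_mem' := by
    intro x; simp only [Set.mem_setOf_eq]; revert i x; decide +kernel

instance d8wI6 (i : Bool) (x : W) : Decidable (x ∈ V i) :=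
  inferInstanceAs (Decidable (x.s = false ∧ k i x.a = true ∧ k i x.b = true))

/-- The base group. -/
def Q : Subgroup W where
  carrier := {x | x.s = false}
  one_mem' := rfl
  mul_mem' := by
    intro x y hx hy; simp only [Set.mem_setOf_eq] at *; simp [mul_def, hx, hy]
  inv_mem' := by
    intro x hx; simp only [Set.mem_setOf_eq] at *; simp [inv_def, hx]

instance d8wI7 (x : W) : Decidable (x ∈ Q) := inferInstanceAs (Decidable (x.s = false))

/-- The centre of the base group. -/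
def Z : Subgroup W := V false ⊓ V true

instance d8wI8 (x : W) : Decidable (x ∈ Z) := inferInstanceAs (Decidable (x ∈ V false ∧ x ∈ V true))

def z1 : W := ⟨r 2, 1, false⟩
def z2 : W := ⟨1, r 2, false⟩
def z : W := ⟨r 2, r 2, false⟩
def t : W := ⟨1, 1, true⟩
def u : W := ⟨sr 0, sr 0, false⟩

theorem card_V (i : Bool) : Nat.card (V i) = 16 := by
  rw [Nat.card_eq_fintype_card]; revert i; decide +kernel

theorem card_Q : Nat.card Q = 64 := by rw [Nat.card_eq_fintype_card]; decide +kernel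

theorem card_Z : Nat.card Z = 4 := by rw [Nat.card_eq_fintype_card]; decide +kernel

theorem good : ∀ v : W, v * v = 1 → (∀ g : W, v * (g * v * g⁻¹) = g * v * g⁻¹ * v) → v ∈ V false ∨ v ∈ V true := by
  decide +kernel

theorem V_conj : ∀ i, ∀ v ∈ V i, ∀ g : W, g * v * g⁻¹ ∈ V i := by decide +kernel

theorem V_comm : ∀ i, ∀ v ∈ V i, v * v = 1 ∧ ∀ w ∈ V i, v * w = w * v := by decide +kernel

theorem central : ∀ w : W, (∀ g : W, g * w = w * g) ↔ w = 1 ∨ w = z := by decide +kernel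

theorem mem_Z : ∀ w : W, w ∈ Z ↔ w = 1 ∨ w = z1 ∨ w = z2 ∨ w = z := by decide +kernel

theorem mem_Q : ∀ w : W, w ∈ Q ↔ ∃ v ∈ V false, ∃ v' ∈ V true, w = v * v' ∨ w = v' * v := by decide +kernel

theorem cent_Q : ∀ w : W, (∀ q ∈ Q, w * q = q * w) → w ∈ Z := by decide +kernel

theorem Z_cent : ∀ w ∈ Z, w * w = 1 ∧ ∀ q ∈ Q, w * q = q * w := by decide +kernel

theorem sq_Q : ∀ q ∈ Q, q * q ∈ Z := by decide +kernel

/-- The commutators of `v` with `V (!i)` lie in `⟨c⟩`. -/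
def P1 (i : Bool) (c v : W) : Prop := ∀ w ∈ V (!i), v * w * v⁻¹ * w⁻¹ = 1 ∨ v * w * v⁻¹ * w⁻¹ = c

instance d8wI9 (i : Bool) (c v : W) : Decidable (P1 i c v) :=
  inferInstanceAs (Decidable (∀ w ∈ V (!i), v * w * v⁻¹ * w⁻¹ = 1 ∨ v * w * v⁻¹ * w⁻¹ = c))

theorem coset : ∀ i, ∀ v ∈ V i, ∀ v' ∈ V i, (P1 i z1 v ↔ P1 i z1 v') → (P1 i z2 v ↔ P1 i z2 v') → v' * v⁻¹ ∈ Z := by
  decide +kernel

/-- The involutions outside the base group. -/
def X : Type := {w : W // w ∉ Q ∧ w * w = 1}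

instance d8wI10 : Fintype X := inferInstanceAs (Fintype {w : W // w ∉ Q ∧ w * w = 1})

theorem card_X : Nat.card X = 8 := by rw [Nat.card_eq_fintype_card]; decide +kernel

theorem cent_X : ∀ w : W, (∀ x : W, x ∉ Q ∧ x * x = 1 → w * x = x * w) → w = 1 ∨ w = z := by decide +kernel

/-- A point stabiliser. -/
def H : Subgroup W where
  carrier := {x | x.s = false ∧ (x.a = 1 ∨ x.a = sr 0)}
  one_mem' := by decide
  mul_mem' := by
    intro x y; simp only [Set.mem_setOf_eq]; revert x y; decide +kernel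
  inv_mem' := by
    intro x; simp only [Set.mem_setOf_eq]; revert x; decide +kernel

instance d8wI11 (x : W) : Decidable (x ∈ H) := inferInstanceAs (Decidable (x.s = false ∧ (x.a = 1 ∨ x.a = sr 0)))

theorem card_H : Nat.card H = 16 := by rw [Nat.card_eq_fintype_card]; decide +kernel

theorem core_H : ∀ w : W, (∀ g : W, g * w * g⁻¹ ∈ H) → w = 1 := by decide +kernel

end Cfsg.Lib.D8W
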