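import Cfsg.Agent.Lib.FGS.D8W

/-!
# `2`-groups of sectional rank at most `4` containing `D₈ ≀ C₂`
-/

set_option autoImplicit false
set_option maxRecDepth 100000

namespace Cfsg.Lib.D8W

open Subgroup Cfsg.Lib.FGS
open scoped commutatorElement

theorem eq_V {U : Subgroup W} (hn : ∀ g : W, ∀ v ∈ U, g * v * g⁻¹ ∈ U) (hc : ∀ v ∈ U, ∀ w ∈ U, v * w = w * v)
    (h2 : ∀ v ∈ U, v * v = 1) (h : Nat.card U = 16) : ∃ i, U = V i := by
  have h1 : ∀ v ∈ U, v ∈ V false ∨ v ∈ V true := fun v hv => good v (h2 v hv) fun g => hc _ hv _ (hn g v hv)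
  by_cases a : U ≤ V false
  · exact ⟨_, eq_of_le_of_card_ge a (by rw [h, card_V])⟩
  refine ⟨true, eq_of_le_of_card_ge (fun w hw => ?_) (by rw [h, card_V])⟩
  obtain ⟨v, hv, hv'⟩ := SetLike.not_le_iff_exists.1 a
  by_contra hw'
  rcases h1 _ (U.mul_mem hv hw) with b | b
  · exact hv' ((mul_mem_cancel_right ((h1 w hw).resolve_right hw')).1 b)
  · exact hw' ((mul_mem_cancel_left ((h1 v hv).resolve_left hv')).1 b)

theorem map_V (α : MulAut W) (i : Bool) : ∃ j, (V i).map α.toMonoidHom = V j := by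
  refine eq_V ?_ ?_ ?_ ((card_map_of_injective α.injective).trans (card_V i))
  · rintro g _ ⟨v, hv, rfl⟩
    exact ⟨_, V_conj i v hv (α.symm g), by simp⟩
  · rintro _ ⟨v, hv, rfl⟩ _ ⟨w, hw, rfl⟩
    rw [← map_mul, ← map_mul, (V_comm i v hv).2 w hw]
  · rintro _ ⟨v, hv, rfl⟩
    rw [← map_mul, (V_comm i v hv).1, map_one]

theorem V_ne : V false ≠ V true := fun h => by
  have : u ∈ V false := by decide
  rw [h] at this; revert this; decide

/-- An automorphism either fixes or swaps the two normal `E₁₆`. -/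
theorem fix_or_swap (α : MulAut W) : (∀ i w, α w ∈ V i ↔ w ∈ V i) ∨ ∀ i w, α w ∈ V i ↔ w ∈ V (!i) := by
  have h : ∀ i j, (V i).map α.toMonoidHom = V j → ∀ w, α w ∈ V j ↔ w ∈ V i := fun i j h w => by
    rw [← h]; exact mem_map_iff_mem (f := α.toMonoidHom) α.injective
  obtain ⟨j, hj⟩ := map_V α false
  obtain ⟨l, hl⟩ := map_V α true
  have hne : j ≠ l := by
    rintro rfl
    exact V_ne (map_injective (f := α.toMonoidHom) α.injective (hj.trans hl.symm))
  cases j <;> cases l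
  · exact absurd rfl hne
  · left; rintro (_ | _); exacts [h _ _ hj, h _ _ hl]
  · right; rintro (_ | _); exacts [h _ _ hl, h _ _ hj]
  · exact absurd rfl hne

theorem map_Q (α : MulAut W) {w : W} (h : w ∈ Q) : α w ∈ Q := by
  obtain ⟨v, hv, v', hv', e⟩ := (mem_Q w).1 h
  have m : ∀ i, ∀ v ∈ V i, α v ∈ Q := fun i v hv => by
    rcases fix_or_swap α with a | a
    · exact ((a i v).2 hv).1
    · exact ((a (!i) v).2 (by simpa using hv)).1
  rcases e with rfl | rfl <;> rw [map_mul]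
  exacts [Q.mul_mem (m _ _ hv) (m _ _ hv'), Q.mul_mem (m _ _ hv') (m _ _ hv)]

theorem map_z (α : MulAut W) : α z = z := by
  refine ((central _).1 fun g => ?_).resolve_left fun h => absurd (α.map_eq_one_iff.1 h) (by decide)
  obtain ⟨g, rfl⟩ := α.surjective g
  rw [← map_mul, ← map_mul, (central z).2 (.inr rfl)]

theorem map_z1 {α : MulAut W} (h : ∀ i w, α w ∈ V i ↔ w ∈ V i) : α z1 = z1 ∨ α z1 = z2 := by
  have : α z1 ∈ Z := ⟨(h _ _).2 (by decide), (h _ _).2 (by decide)⟩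
  rcases (mem_Z _).1 this with a | a | a | a
  · exact absurd (α.map_eq_one_iff.1 a) (by decide)
  · exact .inl a
  · exact .inr a
  · exact absurd (α.injective (a.trans (map_z α).symm)) (by decide)

theorem triv_Q {α : MulAut W} (h : ∀ i w, α w ∈ V i ↔ w ∈ V i) (h1 : α z1 = z1) :
    (∀ w ∈ Z, α w = w) ∧ ∀ q ∈ Q, α q * q⁻¹ ∈ Z := by
  have h2 : α z2 = z2 := by
    rw [show z2 = z1 * z by decide, map_mul, h1, map_z]
  have p : ∀ i c v, α c = c → (P1 i c v ↔ P1 i c (α v)) := fun i c v hc => by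
    refine ⟨fun a w hw => ?_, fun a w hw => ?_⟩
    · obtain ⟨w, rfl⟩ := α.surjective w
      rw [← map_inv, ← map_inv, ← map_mul, ← map_mul, ← map_mul]
      exact (a w ((h _ _).1 hw)).imp (fun e => by rw [e, map_one]) fun e => by rw [e, hc]
    · have := a _ ((h _ w).2 hw)
      rw [← map_inv, ← map_inv, ← map_mul, ← map_mul, ← map_mul] at this
      exact this.imp α.map_eq_one_iff.1 fun e => α.injective (e.trans hc.symm)
  have m : ∀ i, ∀ v ∈ V i, α v * v⁻¹ ∈ Z := fun i v hv => coset i v hv _ ((h _ _).2 hv) (p _ _ _ h1) (p _ _ _ h2)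
  have n : ∀ v w : W, α v * v⁻¹ ∈ Z → α w * w⁻¹ ∈ Z → α (v * w) * (v * w)⁻¹ ∈ Z := fun v w hv hw => by
    have : α (v * w) * (v * w)⁻¹ = α v * v⁻¹ * (v * (α w * w⁻¹) * v⁻¹) := by rw [map_mul]; group
    rw [this]
    exact Z.mul_mem hv ⟨V_conj _ _ hw.1 _, V_conj _ _ hw.2 _⟩
  refine ⟨fun w hw => ?_, fun q hq => ?_⟩
  · rcases (mem_Z _).1 hw with rfl | rfl | rfl | rfl
    exacts [map_one α, h1, h2, map_z α]
  · obtain ⟨v, hv, v', hv', rfl | rfl⟩ := (mem_Q q).1 hq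
    exacts [n _ _ (m _ _ hv) (m _ _ hv'), n _ _ (m _ _ hv') (m _ _ hv)]

variable {S : Type*} [Group S] [Finite S] {ι : W →* S}

theorem no_fix (hr : SR 2 4 (⊤ : Subgroup S)) (hι : Function.Injective ι) {y : S} {α : MulAut W}
    (hα : ∀ w, ι (α w) = y * ι w * y⁻¹) (h : ∀ i w, α w ∈ V i ↔ w ∈ V i) (h1 : α z1 = z1) (h2 : y ^ 2 ∈ ι.range) :
    y ∈ ι.range := by
  obtain ⟨hZ, hQ⟩ := triv_Q h h1
  obtain ⟨p, hp⟩ := h2
  have hy : ∀ w, y * ι w = ι (α w) * y := fun w => by rw [hα]; group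
  have pZ : p ∈ Z := cent_Q p fun q hq => hι (by
    have e : α (α q) = q := by
      have a := hQ q hq
      calc α (α q) = α (α q * q⁻¹) * (α q * q⁻¹) * q := by rw [map_mul, map_inv, ← map_inv]; simp [mul_assoc, ← map_mul]
        _ = q := by rw [hZ _ a, (Z_cent _ a).1, one_mul]
    rw [map_mul, map_mul, hp, pow_two, mul_assoc, hy, ← mul_assoc, hy, e, mul_assoc])
  have sq : ∀ q ∈ Q, ι q * y * (ι q * y) = ι (q * q * (q⁻¹ * (α q * q⁻¹) * q) * p) := fun q hq => by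
    rw [mul_assoc (ι q), ← mul_assoc y, hy, mul_assoc, ← pow_two, ← hp, ← map_mul, ← map_mul]
    congr 1; group
  have sq' : ∀ g, (∃ q ∈ Q, g = ι q ∨ g = ι q * y) → g * g ∈ Z.map ι := by
    rintro _ ⟨q, hq, rfl | rfl⟩
    · exact ⟨_, sq_Q q hq, map_mul _ _ _⟩
    · refine ⟨_, Z.mul_mem (Z.mul_mem (sq_Q q hq) ?_) pZ, (sq q hq).symm⟩
      have := hQ q hq
      exact ⟨by simpa using V_conj _ _ this.1 q⁻¹, by simpa using V_conj _ _ this.2 q⁻¹⟩
  have mu : ∀ g g', (∃ q ∈ Q, g = ι q ∨ g = ι q * y) → (∃ q ∈ Q, g' = ι q ∨ g' = ι q * y) →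
      ∃ q ∈ Q, g * g' = ι q ∨ g * g' = ι q * y := by
    rintro _ _ ⟨q, hq, rfl | rfl⟩ ⟨q', hq', rfl | rfl⟩
    · exact ⟨_, Q.mul_mem hq hq', .inl (map_mul _ _ _).symm⟩
    · exact ⟨_, Q.mul_mem hq hq', .inr (by rw [map_mul, mul_assoc])⟩
    · exact ⟨_, Q.mul_mem hq (map_Q α hq'), .inr (by rw [map_mul, mul_assoc, hy, mul_assoc])⟩
    · refine ⟨_, Q.mul_mem (Q.mul_mem hq (map_Q α hq')) pZ.1.1, .inl ?_⟩
      rw [map_mul, map_mul, hp, pow_two, mul_assoc (ι q), ← mul_assoc y, hy]; group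
  let R : Subgroup S :=
    { carrier := {g | ∃ q ∈ Q, g = ι q ∨ g = ι q * y}
      one_mem' := ⟨1, Q.one_mem, .inl (map_one _).symm⟩
      mul_mem' := mu _ _
      inv_mem' := fun {g} hg => by
        obtain ⟨c, hc, e⟩ := sq' g hg
        have : g⁻¹ = g * ι c⁻¹ := by rw [map_inv, e]; group
        rw [this]
        exact mu _ _ hg ⟨_, Q.inv_mem hc.1.1, .inl rfl⟩ }
  have le : Q.map ι ≤ R := by rintro _ ⟨q, hq, rfl⟩; exact ⟨q, hq, .inl rfl⟩
  have := hr (Z.map ι) R le_top ⟨(map_mono (show Z ≤ Q from fun w hw => hw.1.1)).trans le, commutator_le.2 fun a ha b hb => ?_,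
    fun g hg => by rw [pow_two]; exact sq' g hg⟩
  · rw [card_map_of_injective hι, card_Z] at this
    have e := eq_of_le_of_card_ge le (by rw [card_map_of_injective hι, card_Q]; exact this)
    have : y ∈ Q.map ι := e ▸ ⟨1, Q.one_mem, .inr (by simp)⟩
    exact map_le_range _ _ this
  · have : ⁅a, b⁆ = a * a * (a⁻¹ * b * (a⁻¹ * b)) * (b⁻¹ * b⁻¹) := by rw [commutatorElement_def]; group
    rw [this]
    exact mul_mem (mul_mem (sq' _ ha) (sq' _ (R.mul_mem (R.inv_mem ha) hb))) (sq' _ (R.inv_mem hb))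

theorem no_fix' (hr : SR 2 4 (⊤ : Subgroup S)) (hι : Function.Injective ι) {y : S} {α : MulAut W}
    (hα : ∀ w, ι (α w) = y * ι w * y⁻¹) (h : ∀ i w, α w ∈ V i ↔ w ∈ V i) (h2 : y ^ 2 ∈ ι.range) : y ∈ ι.range := by
  rcases map_z1 h with a | a
  · exact no_fix hr hι hα h a h2
  have := no_fix (y := ι t * y) (α := MulAut.conj t * α) hr hι (fun w => by simp [hα, mul_assoc])
    (fun i w => ?_) (by rw [MulAut.mul_apply, a]; decide) ?_
  · exact (mul_mem_cancel_left (show ι t ∈ ι.range from ⟨t, rfl⟩)).1 this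
  · rw [MulAut.mul_apply, ← h i w, MulAut.conj_apply]
    exact ⟨fun e => by simpa [mul_assoc] using V_conj _ _ e t⁻¹, fun e => V_conj _ _ e t⟩
  · have : (ι t * y) ^ 2 = ι t * ι (α t) * y ^ 2 := by rw [hα, pow_two, pow_two]; group
    rw [this]
    exact mul_mem (mul_mem ⟨_, rfl⟩ ⟨_, rfl⟩) h2

theorem exists_sylow {G Y : Type*} [Group G] (f : G →* Equiv.Perm Y) (hY : Nat.card Y = 8) (h : Nat.card f.range = 128) :
    ∃ T : Sylow 2 (Equiv.Perm (Fin 8)), Nonempty (f.range ≃* (T : Subgroup (Equiv.Perm (Fin 8)))) := by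
  have : Finite Y := Nat.finite_of_card_ne_zero (by rw [hY]; decide)
  let e := (Finite.equivFinOfCardEq hY).permCongrHom
  have c : Nat.card (f.range.map e.toMonoidHom) = 2 ^ 7 := (card_map_of_injective e.injective).trans h
  refine ⟨(IsPGroup.of_card c).toSylow ?_, ⟨e.subgroupMap f.range⟩⟩
  have := (f.range.map e.toMonoidHom).card_mul_index
  rw [c, Nat.card_perm, Nat.card_fin] at this
  have : (f.range.map e.toMonoidHom).index = 315 := by simp only [Nat.factorial] at this; omega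
  rw [this]; decide

theorem equiv_sylow (T : Sylow 2 (Equiv.Perm (Fin 8))) : Nonempty (W ≃* (T : Subgroup (Equiv.Perm (Fin 8)))) := by
  have hi : Function.Injective (MulAction.toPermHom W (W ⧸ H)) := by
    rw [← MonoidHom.ker_eq_bot_iff, ← normalCore_eq_ker, eq_bot_iff]
    exact fun w hw => core_H w hw
  have c : Nat.card (W ⧸ H) = 8 := by
    have := H.card_mul_index
    rw [card_H, card_W] at this
    change H.index = 8
    omega
  obtain ⟨T', ⟨e⟩⟩ := exists_sylow _ c ((Nat.card_congr (MonoidHom.ofInjective hi).toEquiv).symm.trans card_W)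
  exact ⟨((MonoidHom.ofInjective hi).trans e).trans (Sylow.equiv T' T)⟩

end Cfsg.Lib.D8W
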