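import Cfsg.Agent.Lib.GW.Cor
import Cfsg.Agent.Lib.PSL2.Subfield

/-!
# Groups with dihedral Sylow `2`-subgroups and a generalized dihedral involution centralizer
-/

set_option autoImplicit false

namespace Cfsg.Lib.FGS.DG

open Subgroup Cfsg.Lib.BG Cfsg.Lib.Small Cfsg.Lib.PSL2 Cfsg.Lib.GW
open Cfsg.Lib.Inv hiding conj_mem_of_mem_normalizer
open scoped Cfsg.Lib.Transfer MatrixGroups

universe u

variable {X : Type u} [Group X] [Finite X] {Y : Type*} [Group Y] {j : X}

theorem exists_odd_pow (c : X) : ∃ k : ℕ, Odd (orderOf (c ^ 2 ^ k)) := by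
  obtain ⟨k, m, hm, e⟩ := Nat.exists_eq_two_pow_mul_odd (orderOf_pos c).ne'
  refine ⟨k, ?_⟩
  rw [orderOf_pow_of_dvd (by positivity) (e ▸ dvd_mul_right _ _), e,
    Nat.mul_div_cancel_left _ (by positivity)]
  exact hm

omit [Finite X] in
theorem eq_one_of_odd_of_pow {c : X} (ho : Odd (orderOf c)) {k : ℕ} (h : c ^ 2 ^ k = 1) : c = 1 := by
  rw [← orderOf_eq_one_iff]
  exact Nat.eq_one_of_self_dvd_of_coprime' ho (orderOf_dvd_of_pow_eq_one h)
where
  Nat.eq_one_of_self_dvd_of_coprime' {n k : ℕ} (ho : Odd n) (h : n ∣ 2 ^ k) : n = 1 :=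
    Nat.Coprime.eq_one_of_dvd ((Nat.coprime_two_right.2 ho).pow_right k) h

/-- The two properties of the centralizer of `j` that are used. -/
structure DI (j : X) : Prop where
  ord : orderOf j = 2
  inv : ∀ y ∈ 𝐂[j], Odd (orderOf y) → ∃ s : X, s * s = 1 ∧ s * y * s⁻¹ = y⁻¹
  comm : ∀ y ∈ 𝐂[j], ∀ u ∈ 𝐂[j], Odd (orderOf y) → u * u ≠ 1 → y * u = u * y

theorem lift_cent {f : X →* Y} (hf : Function.Surjective f) (hk : Odd (Nat.card f.ker))
    (hj : j * j = 1) {y : Y} (hy : y ∈ 𝐂[f j]) : ∃ g ∈ 𝐂[j], f g = y := by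
  obtain ⟨g, rfl⟩ := hf y
  have h1 : g * j * g⁻¹ * j ∈ f.ker := by
    rw [MonoidHom.mem_ker, map_mul, map_mul, map_mul, mem_cent1.1 hy, map_inv,
      mul_inv_cancel_right, ← map_mul, hj, map_one]
  obtain ⟨k, hk1, e⟩ := exists_conj_of_mul_mem (x := g * j * g⁻¹) (by
    rw [conj_mul, hj, mul_one, mul_inv_cancel]) hj hk h1
  refine ⟨k * g, mem_cent1.2 (Eq.symm ?_), by rw [map_mul, hk1, one_mul]⟩
  calc j * (k * g) = k * (g * j * g⁻¹) * k⁻¹ * (k * g) := by rw [e]
    _ = _ := by group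

theorem odd_of_map {f : X →* Y} (hk : Odd (Nat.card f.ker)) {g : X} (ho : Odd (orderOf (f g))) :
    Odd (orderOf g) := by
  have h1 : g ^ orderOf (f g) ∈ f.ker := by rw [MonoidHom.mem_ker, map_pow, pow_orderOf_eq_one]
  have h2 : g ^ (orderOf (f g) * Nat.card f.ker) = 1 := by
    rw [pow_mul]
    exact orderOf_dvd_iff_pow_eq_one.1 (orderOf_dvd_natCard _ h1)
  exact (ho.mul hk).of_dvd_nat (orderOf_dvd_of_pow_eq_one h2)

theorem DI.map {Y : Type u} [Group Y] (h : DI j) {f : X →* Y} (hf : Function.Surjective f)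
    (hk : Odd (Nat.card f.ker)) : DI (f j) := by
  have hj : j * j = 1 := by rw [← pow_two, ← h.ord, pow_orderOf_eq_one]
  refine ⟨?_, fun y hy ho => ?_, fun y hy u hu ho h2 => ?_⟩
  · exact orderOf_eq_prime (by rw [← map_pow, pow_two, hj, map_one]) (inv_not_mem_odd hk h.ord)
  · obtain ⟨g, hg, rfl⟩ := lift_cent hf hk hj hy
    obtain ⟨s, s2, e⟩ := h.inv g hg (odd_of_map hk ho)
    exact ⟨f s, by rw [← map_mul, s2, map_one], by simpa using congrArg f e⟩
  · obtain ⟨g, hg, rfl⟩ := lift_cent hf hk hj hy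
    obtain ⟨w, hw, rfl⟩ := lift_cent hf hk hj hu
    have := h.comm g hg w hw (odd_of_map hk ho) fun e => h2 (by rw [← map_mul, e, map_one])
    simpa using congrArg f this

theorem DI.not_alt (h : DI j) (e : X ≃* alternatingGroup (Fin 7)) : False := by
  have h' : DI (e j) := by
    have hj : j * j = 1 := by rw [← pow_two, ← h.ord, pow_orderOf_eq_one]
    refine ⟨(e.orderOf_eq j).trans h.ord, fun y hy ho => ?_, fun y hy u hu ho h2 => ?_⟩
    · obtain ⟨s, s2, e'⟩ := h.inv (e.symm y) (mem_cent1.2 (e.injective (by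
        simpa using mem_cent1.1 hy))) (by rwa [e.symm.orderOf_eq])
      exact ⟨e s, by rw [← map_mul, s2, map_one], by simpa using congrArg e e'⟩
    · have := h.comm (e.symm y) (mem_cent1.2 (e.injective (by simpa using mem_cent1.1 hy)))
        (e.symm u) (mem_cent1.2 (e.injective (by simpa using mem_cent1.1 hu)))
        (by rwa [e.symm.orderOf_eq]) fun e' => h2 (by simpa using congrArg e e')
      simpa using congrArg e this
  let j0 : alternatingGroup (Fin 7) := ⟨Equiv.swap 0 1 * Equiv.swap 2 3, Equiv.Perm.mem_alternatingGroup.2 (by decide)⟩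
  let y0 : alternatingGroup (Fin 7) := ⟨Equiv.swap 4 5 * Equiv.swap 5 6, Equiv.Perm.mem_alternatingGroup.2 (by decide)⟩
  let u0 : alternatingGroup (Fin 7) :=
    ⟨Equiv.swap 0 2 * Equiv.swap 2 1 * Equiv.swap 1 3 * Equiv.swap 4 5,
      Equiv.Perm.mem_alternatingGroup.2 (by decide)⟩
  obtain ⟨c, hc⟩ := isConj_iff.1 (a7b.one j0 (e j) (orderOf_eq_prime (by decide) (by decide)) h'.ord)
  have hy : y0 ^ 3 = 1 := by decide
  have k : ∀ w : alternatingGroup (Fin 7), j0 * w = w * j0 → c * w * c⁻¹ ∈ 𝐂[e j] := fun w hw =>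
    mem_cent1.2 (by rw [← hc, conj_mul, conj_mul, hw])
  have := h'.comm _ (k y0 (by decide)) _ (k u0 (by decide))
    ((by decide : Odd 3).of_dvd_nat (orderOf_dvd_of_pow_eq_one (by
      rw [conj_pow, hy, mul_one, mul_inv_cancel]))) (by
      rw [conj_mul, Ne, conj_eq_one_iff]; decide)
  rw [conj_mul, conj_mul, mul_left_inj, mul_right_inj] at this
  revert this; decide

variable {E : Subgroup X} {F : Type*} [Field F] [Finite F]

theorem DI.ker_eq (h : DI j) (hX : DC X) (s : Soc E F) {τ : X →* (F ≃+* F)}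
    {f : τ.ker →* PGL(2, F)} (M : Model E τ f) (x : X) : τ x = 1 := by
  obtain ⟨t, tE, w, wE, hV⟩ := s.exists_four
  have hj : j * j = 1 := by rw [← pow_two, ← h.ord, pow_orderOf_eq_one]
  have mc : ∀ S : Sylow 2 X, ∃ a b m, MC (S : Subgroup X) a b m 0 0 := fun S => by
    refine (hX S S.isPGroup').resolve_left fun hc => ?_
    obtain ⟨g, -, hg⟩ := (Syl.of_sylow_top S).exists_le_conj (four_pgroup hV) le_top
    exact four_not_cyclic hV (cyclic_of_le ((cyclic_conj g).2 hc) hg)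
  have hS : ∀ S : Sylow 2 X, (S : Subgroup X) ≤ τ.ker := fun S => by
    obtain ⟨a, b, m, h⟩ := mc S
    have hb : b ∈ τ.ker := M.inv b (by simpa using h.dih_refl_sq 0)
    refine h.le_of_mem ?_ hb
    simpa using mul_mem (M.inv _ (h.dih_refl_sq 1)) (inv_mem hb)
  have odd : ∀ g : X, Odd (orderOf (τ g)) := fun g => by
    obtain ⟨k, m, hm, e⟩ := Nat.exists_eq_two_pow_mul_odd (orderOf_pos g).ne'
    have h1 : IsPGroup 2 (zpowers (g ^ m)) := IsPGroup.of_card_dvd_pow (n := k) (by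
      rw [Nat.card_zpowers]
      exact orderOf_dvd_of_pow_eq_one (by rw [← pow_mul, mul_comm, ← e, pow_orderOf_eq_one]))
    obtain ⟨S, hle⟩ := h1.exists_le_sylow
    refine hm.of_dvd_nat (orderOf_dvd_of_pow_eq_one ?_)
    rw [← map_pow]; exact hS S (hle (mem_zpowers _))
  have red : ∀ g : X, (∀ k : ℕ, Odd (orderOf (g ^ 2 ^ k)) → τ (g ^ 2 ^ k) = 1) → τ g = 1 :=
    fun g hg => by
      obtain ⟨k, hk⟩ := exists_odd_pow g
      exact eq_one_of_odd_of_pow (odd g) (k := k) (by rw [← map_pow, hg k hk])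
  have hC : ∀ c ∈ 𝐂[j], τ c = 1 := fun c hc => red c fun k hk => by
    obtain ⟨s, s2, e⟩ := h.inv _ (pow_mem hc _) hk
    have h1 : τ s = 1 := M.inv s s2
    have := congrArg τ e
    rw [map_mul, map_mul, map_inv, h1, one_mul, inv_one, mul_one, map_inv] at this
    exact eq_one_of_odd_of_pow (odd _) (k := 1) (by
      rw [pow_one, pow_two]; exact mul_eq_one_iff_eq_inv.2 this)
  have := s.nml
  by_cases jE : j ∈ E
  · obtain ⟨g, gE, e⟩ := M.conj (this.conj_mem j jE x) jE (by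
      rw [← h.ord]; exact (MulAut.conj x).orderOf_eq j) h.ord
    have h1 := hC (g * x) (mem_cent1.2 (Eq.symm (by
      calc j * (g * x) = g * (x * j * x⁻¹) * g⁻¹ * (g * x) := by rw [e]
        _ = _ := by group)))
    rwa [map_mul, show τ g = 1 from M.ker gE, one_mul] at h1
  obtain ⟨S, hle⟩ := (IsPGroup.of_card (p := 2) (n := 1) (G := zpowers j) (by
    rw [Nat.card_zpowers, h.ord, pow_one])).exists_le_sylow
  have h1 : Syl 2 (S : Subgroup X) τ.ker := (Syl.of_sylow_top S).of_le (hS S) le_top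
  have h2 := h1.frattini (M := ⊤) ⟨le_top, le_normalizer_of_normal⟩
  obtain ⟨k, hk, n, hn, rfl⟩ := mem_sup_of_normal_left.1 (h2.ge (mem_top x))
  rw [map_mul, show τ k = 1 from hk, one_mul]
  refine red n fun k hk => ?_
  by_cases hc : n ^ 2 ^ k ∈ 𝐂((S : Subgroup X))
  · exact hC _ (mem_cent1.2 (mem_cent.1 hc j (hle (mem_zpowers j))).symm)
  obtain ⟨a, b, m, hm⟩ := mc S
  have h4 := hm.dih_odd_aut S.isPGroup' (pow_mem hn.2 _) hk hc
  obtain ⟨g, -, hg⟩ := (Syl.of_sylow_top S).exists_conj_le (four_pgroup hV) le_top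
  have h5 : g ⋆ hV.four = S := eq_of_le_of_card_le hg (by
    rw [Transfer.card_conj, h4.card_four, hV.isKleinFour.card_four])
  have h6 : g ⋆ hV.four ≤ E := by
    exact conj_le_of_norm (hV.four_le_iff.2 ⟨tE, wE⟩) (le_normalizer_of_normal (mem_top g))
  exact (jE (h6 (h5.ge (hle (mem_zpowers j))))).elim

/-- `X` maps onto `PSL(2, q)` or `PGL(2, q)` with a kernel satisfying `P`. -/
def Onto (X : Type*) [Group X] (P : ℕ → Prop) : Prop :=
  ∃ (F : Type) (_ : Field F) (_ : Fintype F), 3 < Fintype.card F ∧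
    ((∃ φ : X →* PSL(2, F), Function.Surjective φ ∧ P (Nat.card φ.ker)) ∨
      ∃ φ : X →* PGL(2, F), Function.Surjective φ ∧ P (Nat.card φ.ker))

theorem card_ker_comp {Z : Type*} [Group Z] {f : X →* Y} (hf : Function.Surjective f) (g : Y →* Z) :
    Nat.card (g.comp f).ker = Nat.card f.ker * Nat.card g.ker := by
  rw [← MonoidHom.comap_ker, card_comap_of_surjective' hf]
where
  card_comap_of_surjective' {f : X →* Y} (hf : Function.Surjective f) {K : Subgroup Y} :
      Nat.card (K.comap f) = Nat.card f.ker * Nat.card K := by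
    have h1 := f.ker.card_mul_index
    have h2 := (K.comap f).card_mul_index
    have := Finite.of_surjective f hf
    have h3 := K.card_mul_index
    rw [index_comap_of_surjective _ hf] at h2
    rw [index_ker, MonoidHom.range_eq_top.2 hf, card_top, ← h3, ← h2, ← mul_assoc] at h1
    exact (Nat.eq_of_mul_eq_mul_right (Nat.pos_of_ne_zero K.index_ne_zero_of_finite) h1).symm

theorem Onto.comp {P Q : ℕ → Prop} (h : Onto Y P) {f : X →* Y} (hf : Function.Surjective f)
    (hq : ∀ n, P n → Q (Nat.card f.ker * n)) : Onto X Q := by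
  obtain ⟨F, _, _, h3, ⟨φ, h1, h2⟩ | ⟨φ, h1, h2⟩⟩ := h
  · exact ⟨F, _, _, h3, .inl ⟨φ.comp f, h1.comp hf, card_ker_comp hf φ ▸ hq _ h2⟩⟩
  · exact ⟨F, _, _, h3, .inr ⟨φ.comp f, h1.comp hf, card_ker_comp hf φ ▸ hq _ h2⟩⟩

theorem DI.onto_one (h : DI j) (hX : DC X) (hO : oddCore X = ⊥) (hn : ¬ Group.IsSolvable X) :
    Onto X (· = 1) := by
  rcases cf_cases hX hO (fun h2 => hn (have := h2.isNilpotent; inferInstance)) with
    ⟨⟨e⟩⟩ | ⟨F, _, _, E, s⟩
  · exact (h.not_alt e).elim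
  obtain ⟨τ, f, M⟩ := s.model hX
  have hk := h.ker_eq hX s M
  let φ : X →* PGL(2, F) := f.comp (MonoidHom.id X |>.codRestrict τ.ker hk)
  have e : ∀ x, φ x = bar f x := fun x => (bar_mk (hk x)).symm
  have inj : Function.Injective φ := M.inj.comp fun x y e => congrArg Subtype.val e
  refine ⟨F, ‹_›, ‹_›, by simpa using s.three_lt hX hn, ?_⟩
  rcases eq_pslSub_or_top (H := φ.range) (fun y hy => by
    obtain ⟨g, -, rfl⟩ := M.surj y hy
    exact ⟨g, e g⟩) with h1 | h1
  · obtain ⟨i⟩ := s.iso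
    have hE : E = ⊤ := eq_top_iff.2 fun x _ => (M.mem x).2 ⟨hk x, e x ▸ h1.le ⟨x, rfl⟩⟩
    let i' : X ≃* PSL(2, F) := (topEquiv.symm.trans (MulEquiv.subgroupCongr hE.symm)).trans i
    exact .inl ⟨i'.toMonoidHom, i'.surjective, by
      rw [(MonoidHom.ker_eq_bot_iff _).2 i'.injective, card_bot]⟩
  · exact .inr ⟨φ, MonoidHom.range_eq_top.1 h1, by rw [(MonoidHom.ker_eq_bot_iff _).2 inj, card_bot]⟩

theorem DI.onto (h : DI j) (hX : DC X) (hn : ¬ Group.IsSolvable X) : Onto X Odd := by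
  have := (Od_nml (⊤ : Subgroup X)).normal
  have c := cov_mk (⊤ : Subgroup X)
  let f := (QuotientGroup.mk' ((Od (⊤ : Subgroup X)).subgroupOf ⊤)).comp topEquiv.symm.toMonoidHom
  have hf : Function.Surjective f := (QuotientGroup.mk'_surjective _).comp topEquiv.symm.surjective
  have hk : f.ker = Od ⊤ := by
    ext x; simp [f, mem_subgroupOf]
  have ho : Odd (Nat.card f.ker) := by rw [hk]; exact odd_Od ⊤
  refine ((h.map hf ho).onto_one (c.dc hX) (by rw [← Od_top_eq, c.Od_top]) fun hs => hn ?_).comp hf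
    fun n hn => by simpa [hn] using ho
  have := c.sol_iff.2 hs
  exact Group.isSolvable_of_surjective (f := (topEquiv (G := X)).toMonoidHom) topEquiv.surjective

end Cfsg.Lib.FGS.DG
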