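import Cfsg.Agent.Lib.FGS.DGw
import Cfsg.Agent.S2202
import Cfsg.Agent.S4593
import Cfsg.Agent.Lib.Spec.PSL2
import Cfsg.Agent.Lib.PF.Main
import Cfsg.Agent.Lib.ZStar.Main
import Cfsg.Agent.Lib.FGS.Taussky
import Cfsg.Agent.Lib.JR.Setup
import Cfsg.Agent.Lib.FGS.ClassFour

/-!
# Groups with a self-centralizing generalized dihedral subgroup
-/

set_option autoImplicit false

namespace Cfsg.Lib.FGS.DG

open Subgroup Cfsg.Lib.BG Cfsg.Lib.Small Cfsg.Lib.PSL2 Cfsg.Lib.GW
open Cfsg.Lib.Inv hiding conj_mem_of_mem_normalizer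
open scoped Cfsg.Lib.Transfer MatrixGroups

universe u

variable {G : Type u} [Group G] [Finite G]

theorem ab_case {X : Type*} [Group X] [Finite X] (hn : ¬ Group.IsSolvable X)
    (h : ∀ t : X, orderOf t = 2 → IsMulCommutative 𝐂[t]) :
    ∃ (F : Type) (_ : Field F) (_ : Fintype F), CharP F 2 ∧ 3 < Fintype.card F ∧
      Nonempty (SL(2, F) ≃* _root_.commutator X) ∧ _root_.commutator X ⊔ center X = ⊤ := by
  have hev : Even (Nat.card X) := by
    by_contra ho
    exact hn (PF.isSolvable_of_odd _ (Nat.not_even_iff_odd.1 ho))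
  obtain ⟨S⟩ : Nonempty (Sylow 2 X) := inferInstance
  rcases Cfsg.Agent.S2202.result hev h with h1 | h1 | ⟨F, _, _, B, _, _, h2, -, ⟨e⟩⟩
  · exact (hn (isSolvable_of_hasNormalPComplement_two (hasNormalPComplement_of_isCyclic S (h1 S)))).elim
  · have := h1 S
    refine (hn (Core.isSolvable_of_normal_quotient (S : Subgroup X)
      (have := S.isPGroup'.isNilpotent; inferInstance) (PF.isSolvable_of_odd _ ?_))).elim
    exact Nat.not_even_iff_odd.1 fun h => S.not_dvd_index (even_iff_two_dvd.1 h)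
  have ev : ¬ Odd (Nat.card F) := by
    obtain ⟨n, -, hn⟩ := FiniteField.card F 2
    rw [Nat.card_eq_fintype_card, hn, Nat.not_odd_iff_even]
    exact (Nat.even_pow' n.ne_zero).2 even_two
  obtain ⟨i⟩ := equiv_sl_psl_of_even ev
  have h3 : 3 < Fintype.card F := by
    by_contra h3
    have := isSolvable_psl (F := F) (by simpa using h3)
    have := Group.isSolvable_of_surjective (f := i.symm.toMonoidHom) i.symm.surjective
    exact hn (Group.isSolvable_of_surjective (f := e.symm.toMonoidHom) e.symm.surjective)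
  have := isSimpleGroup_psl (F := F) (by rw [Nat.card_eq_fintype_card]; exact h3)
  have hs : IsSimpleGroup SL(2, F) := i.isSimpleGroup
  have hp : _root_.commutator SL(2, F) = ⊤ := by
    refine (hs.eq_bot_or_eq_top_of_normal _ inferInstance).resolve_left fun h0 => hn ?_
    have : Group.IsSolvable SL(2, F) := ⟨1, by rw [derivedSeries_one, h0]⟩
    exact Group.isSolvable_of_surjective (f := e.symm.toMonoidHom) e.symm.surjective
  let ι : SL(2, F) →* X := e.symm.toMonoidHom.comp (MonoidHom.inl _ _)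
  have hι : Function.Injective ι := e.symm.injective.comp (Prod.mk_left_injective 1)
  have hr : ι.range = _root_.commutator X := by
    have h1 : _root_.commutator (SL(2, F) × B) = (MonoidHom.inl SL(2, F) B).range := by
      rw [_root_.commutator_def, ← top_prod_top, commutator_prod_prod, ← _root_.commutator_def, hp,
        ← _root_.commutator_def, commutator_eq_bot]
      ext x; simp [mem_prod, Prod.ext_iff, eq_comm]
    rw [MonoidHom.range_comp, ← h1, map_commutator_eq, MonoidHom.range_eq_top.2 e.symm.surjective]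
    rfl
  refine ⟨F, _, _, h2, h3, ⟨(MonoidHom.ofInjective hι).trans (MulEquiv.subgroupCongr hr)⟩,
    eq_top_iff.2 fun x _ => ?_⟩
  obtain ⟨⟨s, b⟩, rfl⟩ := e.symm.surjective x
  rw [show (s, b) = ((s, 1) * (1, b) : SL(2, F) × B) by simp, map_mul]
  refine mul_mem_sup (hr ▸ ⟨s, rfl⟩) (mem_center_iff.2 fun y => e.injective ?_)
  ext1 <;> simp [mul_comm]

/-- The kernel has odd or twice odd order. -/
def Tw (n : ℕ) : Prop := Odd n ∨ ∃ m, Odd m ∧ n = 2 * m

theorem onto_ab {H A K : Subgroup G} [K.Normal] (S : Sylow 2 G) (SH : (S : Subgroup G) ≤ H)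
    (hKS : K ⊔ S = ⊤) (hA : IsMulCommutative A) (hi : A.relIndex H ∣ 2)
    (hC : ∀ j ∈ A, orderOf j = 2 → 𝐂[j] = H) (hK : K ⊓ H ≤ A) (hH : Group.IsSolvable H)
    (hn : ¬ Group.IsSolvable G) : Onto G Tw := by
  have hS := Syl.of_sylow_top S
  have hKn : ¬ Group.IsSolvable K := fun h => hn (Core.isSolvable_of_normal_quotient K h (by
    have h1 : IsPGroup 2 (G ⧸ K) := by
      have := S.isPGroup'.map (QuotientGroup.mk' K)
      have h2 := congrArg (map (QuotientGroup.mk' K)) hKS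
      rw [Subgroup.map_sup, QuotientGroup.map_mk'_self, bot_sup_eq,
        map_top_of_surjective _ (QuotientGroup.mk'_surjective K)] at h2
      rw [h2] at this
      exact this.of_equiv topEquiv
    have := h1.isNilpotent; infer_instance))
  have into : ∀ t : G, orderOf t = 2 → ∃ g : G, g * t * g⁻¹ ∈ (S : Subgroup G) := fun t ht => by
    obtain ⟨g, -, hg⟩ := hS.exists_conj_le (Q := zpowers t) (.of_card (n := 1) (by
      rw [Nat.card_zpowers, ht, pow_one])) le_top
    exact ⟨g, hg (Transfer.conj_mem_conj.2 (mem_zpowers t))⟩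
  obtain ⟨F, _, _, h2, h3, ⟨i⟩, hz⟩ := ab_case hKn fun t ht => by
    obtain ⟨g, hg⟩ := into t ((orderOf_coe t).trans ht)
    have h1 : ∀ x : K, x ∈ 𝐂[t] → g * x * g⁻¹ ∈ A := fun x hx => by
      refine hK ⟨‹K.Normal›.conj_mem _ x.2 g, ?_⟩
      rw [← hC _ (hK ⟨‹K.Normal›.conj_mem _ t.2 g, SH hg⟩)
        (((MulAut.conj g).orderOf_eq _).trans ((orderOf_coe t).trans ht))]
      exact mem_cent1.2 (by
        rw [conj_mul, conj_mul, show (x : G) * t = t * x from congrArg Subtype.val (mem_cent1.1 hx)])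
    refine ⟨⟨fun x y => Subtype.ext (Subtype.ext ?_)⟩⟩
    have := congrArg Subtype.val (hA.1.1 ⟨_, h1 x x.2⟩ ⟨_, h1 y y.2⟩)
    rw [coe_mul, coe_mul, conj_mul, conj_mul, mul_left_inj, mul_right_inj] at this
    exact this
  set L : Subgroup G := ⁅K, K⁆ with hL
  have LK : L ≤ K := commutator_le_left K K
  have i' : SL(2, F) ≃* L := i.trans ((equivMapOfInjective _ _ K.subtype_injective).trans
    (MulEquiv.subgroupCongr (map_subtype_commutator K)))
  have ev : ¬ Odd (Nat.card F) := by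
    obtain ⟨n, -, hn⟩ := FiniteField.card F 2
    rw [Nat.card_eq_fintype_card, hn, Nat.not_odd_iff_even]
    exact (Nat.even_pow' n.ne_zero).2 even_two
  obtain ⟨i0⟩ := equiv_sl_psl_of_even ev
  have := isSimpleGroup_psl (F := F) (by rw [Nat.card_eq_fintype_card]; exact h3)
  have hs : IsSimpleGroup L := (i'.symm.trans i0).isSimpleGroup
  have hLn : ¬ Group.IsSolvable L := fun h => hKn (by
    refine Core.isSolvable_of_normal_quotient (_root_.commutator K) ?_
      (inferInstanceAs (Group.IsSolvable (Abelianization K)))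
    exact Group.isSolvable_of_surjective (f := (i'.symm.trans i).toMonoidHom) (i'.symm.trans i).surjective)
  have hZ : center L = ⊥ := (hs.eq_bot_or_eq_top_of_normal _ inferInstance).resolve_right fun h =>
    hLn (Group.isSolvable_of_comm fun a b => (mem_center_iff.1 (h.ge (mem_top b)) a))
  have hev : 2 ∣ Nat.card L := by
    by_contra ho
    exact hLn (PF.isSolvable_of_odd _ (Nat.not_even_iff_odd.1 fun h => ho (even_iff_two_dvd.1 h)))
  have hP := hS.inf_nml (N := L) ⟨le_top, le_normalizer_of_normal⟩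
  have hsq : ∀ x ∈ (S : Subgroup G) ⊓ L, x ≠ 1 → orderOf x = 2 := fun x hx x1 => by
    obtain ⟨k, hk⟩ := IsPGroup.iff_orderOf.1 S.isPGroup' ⟨x, hx.1⟩
    rw [← orderOf_coe] at hk
    have h4 : orderOf x ∈ Spec.sp SL(2, F) := ⟨i'.symm ⟨x, hx.2⟩, by
      rw [i'.symm.orderOf_eq, ← orderOf_coe]⟩
    have h5 : 2 ∣ orderOf x := by
      rcases k with _ | k
      · exact (x1 (orderOf_eq_one_iff.1 hk)).elim
      · exact hk ▸ dvd_pow_self 2 k.succ_ne_zero
    rw [Spec.sp_sl2_even] at h4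
    rw [Nat.odd_iff] at ev
    rw [← Nat.card_eq_fintype_card] at h3
    rcases h4 with h4 | h4 | h4
    · exact Nat.dvd_antisymm h4 h5
    · have := h5.trans h4; omega
    · have := h5.trans h4; omega
  have hc : ∀ x ∈ (S : Subgroup G) ⊓ L, ∀ h ∈ H, h * x = x * h := fun x hx h hh => by
    by_cases x1 : x = 1
    · simp [x1]
    · exact mem_cent1.1 ((hC x (hK ⟨LK hx.2, SH hx.1⟩) (hsq x hx x1)).ge hh)
  have top : L ⊔ 𝐂(L) = ⊤ := by
    refine eq_top_iff.2 (hKS.ge.trans (sup_le ?_ fun s hs => ?_))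
    · have := congrArg (map K.subtype) hz
      rw [Subgroup.map_sup, map_subtype_commutator, ← MonoidHom.range_eq_map, range_subtype] at this
      refine this.ge.trans (sup_le_sup_left ?_ _)
      rintro _ ⟨z, hz, rfl⟩
      exact mem_cent.2 fun y hy => congrArg Subtype.val (mem_center_iff.1 hz ⟨y, LK hy⟩)
    obtain ⟨P, hPe⟩ := Syl.iff_sylow.1 hP
    have hm : ∀ x ∈ (P : Subgroup L), (x : G) ∈ (S : Subgroup G) ⊓ L := fun x hx =>
      hPe ▸ mem_map_of_mem _ hx
    obtain ⟨k, hk⟩ := IsPGroup.iff_orderOf.1 S.isPGroup' ⟨s, hs⟩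
    obtain ⟨g, hg⟩ := Cfsg.Agent.S4593.result hZ (JR.core_of_simple hev) P
      ⟨⟨fun x y => Subtype.ext (Subtype.ext (hc _ (hm _ y.2) _ (SH (hm _ x.2).1)))⟩⟩
      (MulAut.conjNormal s) ((Nat.dvd_prime_pow Nat.prime_two).1 (hk ▸ (orderOf_map_dvd _ s).trans
        (orderOf_coe (⟨s, hs⟩ : (S : Subgroup G))).dvd) |>.imp fun _ h => h.2) fun x hx =>
        Subtype.ext (by rw [MulAut.conjNormal_apply, hc _ (hm x hx) s (SH hs), mul_inv_cancel_right])
    rw [show s = g * ((g : G)⁻¹ * s) by group]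
    refine mul_mem_sup g.2 (mem_cent.2 fun y hy => ?_)
    have := congrArg Subtype.val (hg ⟨y, hy⟩)
    simp only [MulAut.conjNormal_apply, coe_mul, coe_inv] at this
    calc y * ((g : G)⁻¹ * s) = (g : G)⁻¹ * (g * y * (g : G)⁻¹) * s := by group
      _ = _ := by rw [← this]; group
  have : (𝐂(L)).Normal := inferInstance
  let ψ : L →* G ⧸ 𝐂(L) := (QuotientGroup.mk' _).comp L.subtype
  have hψ : Function.Bijective ψ := by
    refine ⟨(injective_iff_map_eq_one _).2 fun x hx => ?_, fun y => ?_⟩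
    · have : x ∈ center L := mem_center_iff.2 fun y => Subtype.ext
        (mem_cent.1 ((QuotientGroup.eq_one_iff _).1 hx) y y.2)
      rwa [hZ] at this
    · obtain ⟨g, rfl⟩ := QuotientGroup.mk'_surjective _ y
      obtain ⟨l, hl, c, hc, rfl⟩ := mem_sup_of_normal_right.1 (top.ge (mem_top g))
      exact ⟨⟨l, hl⟩, by simp [ψ, (QuotientGroup.eq_one_iff c).2 hc]⟩
  let e := (MulEquiv.ofBijective ψ hψ).symm.trans (i'.symm.trans i0)
  refine ⟨F, _, _, h3, .inl ⟨e.toMonoidHom.comp (QuotientGroup.mk' _),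
    e.surjective.comp (QuotientGroup.mk'_surjective _), ?_⟩⟩
  rw [card_ker_comp (QuotientGroup.mk'_surjective _), (MonoidHom.ker_eq_bot_iff e.toMonoidHom).2 e.injective,
    card_bot, mul_one, QuotientGroup.ker_mk']
  obtain ⟨j, hj, j1⟩ := (bot_or_exists_ne_one _).resolve_left (hP.ne_bot Nat.prime_two hev rfl)
  have NH : 𝐂(L) ≤ H := fun c hc => by
    rw [← hC j (hK ⟨LK hj.2, SH hj.1⟩) (hsq j hj j1)]
    exact mem_cent1.2 (mem_cent.1 hc j hj.2).symm
  have ho : Odd (Nat.card ↥(A ⊓ 𝐂(L))) := by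
    by_contra h
    obtain ⟨t, ht⟩ := exists_prime_orderOf_dvd_card' 2 (even_iff_two_dvd.1 (Nat.not_odd_iff_even.1 h))
    refine hLn (Group.isSolvable_of_isSolvable_injective (inclusion_injective (H := L) (K := H) ?_))
    rw [← hC t t.2.1 ((orderOf_coe t).trans ht)]
    exact fun l hl => mem_cent1.2 (mem_cent.1 t.2.2 l hl)
  have h5 := (relIndex_le_of_le_right NH (ne_zero_of_dvd_ne_zero two_ne_zero hi)).trans
    (Nat.le_of_dvd two_pos hi)
  have h6 := card_mul_relIndex (inf_le_right : A ⊓ 𝐂(L) ≤ 𝐂(L))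
  have h7 : A.relIndex 𝐂(L) ≠ 0 := index_ne_zero_of_finite
  rw [inf_relIndex_right] at h6
  obtain h | h : A.relIndex 𝐂(L) = 1 ∨ A.relIndex 𝐂(L) = 2 := by omega
  · exact .inl (by rwa [← h6, h, mul_one])
  · exact .inr ⟨_, ho, by rw [← h6, h, mul_comm]⟩

omit [Finite G] in
theorem mc_quot {Y : Type*} [Group Y] {S : Subgroup G} {a b : G} {m : ℕ} (h : MC S a b (m + 1) 1 0)
    {f : G →* Y} (hz : f (a ^ (2 : ℤ) ^ (m + 1)) = 1)
    (hk : ∀ t ∈ S, f t = 1 → t ∈ zpowers (a ^ (2 : ℤ) ^ (m + 1))) :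
    MC (S.map f) (f a) (f b) m 0 0 := by
  have e : ∀ k : ℕ, a ^ (2 : ℤ) ^ k = a ^ 2 ^ k := fun k => by rw [← zpow_natCast]; push_cast; rfl
  refine ⟨orderOf_eq_prime_pow (fun h1 => h.z_ne_one ?_) (by rw [← map_pow, ← e, hz]), ?_, ?_, ?_, ?_,
    by simp⟩
  · obtain ⟨i, hi⟩ := mem_zpowers_iff.1 (hk _ (pow_mem h.a_mem _) ((map_pow f _ _).trans h1))
    rw [e, pow_succ, pow_mul, ← hi, ← zpow_natCast, ← zpow_mul, mul_comm, zpow_mul, zpow_natCast,
      pow_two, h.z_mul_self, one_zpow]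
  · rintro ⟨i, hi⟩
    have h1 := hk (a ^ (-i) * b) (h.refl_mem _) (by
      rw [map_mul, map_zpow, ← hi, ← zpow_add, neg_add_cancel, zpow_zero])
    exact h.refl_not_mem _ (zpowers_le.2 (zpow_mem_zpowers a _) h1)
  · rw [← h.sup, Subgroup.map_sup, MonoidHom.map_zpowers, MonoidHom.map_zpowers]
  · have := congrArg f h.conj
    rw [one_mul, zpow_sub, map_mul f (a ^ _), hz] at this
    simpa using this
  · simpa using congrArg f h.sq

theorem onto_qd {T : Sylow 2 G} {a b j : G} {m : ℕ} (h : MC (T : Subgroup G) a b (m + 1) 1 0)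
    (hz : IsIsolatedInvolution (a ^ (2 : ℤ) ^ (m + 1))) (hj : orderOf j = 2)
    (jT : j ∈ (T : Subgroup G)) (jz : j ≠ a ^ (2 : ℤ) ^ (m + 1))
    (hc : ∀ c ∈ 𝐂[j], c * c = 1 ∨ a ^ (2 : ℤ) ^ (m + 1) * c * (a ^ (2 : ℤ) ^ (m + 1))⁻¹ = c⁻¹)
    (hn : ¬ Group.IsSolvable G) : Onto G Tw := by
  set z := a ^ (2 : ℤ) ^ (m + 1) with hzd
  obtain ⟨Y, _, f, hf, ho, hk⟩ : ∃ (Y : Type u) (_ : Group Y) (f : G →* Y), Function.Surjective f ∧
      Odd (Nat.card f.ker) ∧ ∀ g, f (z * g * z⁻¹ * g⁻¹) = 1 :=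
    ⟨_, _, QuotientGroup.mk' (oddCore G), QuotientGroup.mk'_surjective _, by
      rw [QuotientGroup.ker_mk', ← Od_top_eq]; exact odd_Od ⊤, fun g =>
      (QuotientGroup.eq_one_iff _).2 (ZStar.zstar hz g)⟩
  have := Finite.of_surjective f hf
  have cz : f z ∈ center _ := mem_center_iff.2 fun y => by
    obtain ⟨g, rfl⟩ := hf y
    have := hk g
    rw [map_mul, map_mul, map_mul, map_inv, map_inv, mul_inv_eq_one, mul_inv_eq_iff_eq_mul] at this
    exact this.symm
  have : (zpowers (f z)).Normal := ⟨fun n hn g => by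
    rwa [mem_center_iff.1 (zpowers_le.2 cz hn) g, mul_inv_cancel_right]⟩
  have oz : orderOf (f z) = 2 := orderOf_eq_prime (by rw [← map_pow, ← hz.1, pow_orderOf_eq_one, map_one])
    (inv_not_mem_odd ho hz.1)
  let π := QuotientGroup.mk' (zpowers (f z))
  have hπ : Function.Surjective π := QuotientGroup.mk'_surjective _
  have key : ∀ t ∈ (T : Subgroup G), (π.comp f) t = 1 → t ∈ zpowers z := fun t ht e => by
    obtain ⟨i, hi⟩ := mem_zpowers_iff.1 ((QuotientGroup.eq_one_iff _).1 e)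
    have h1 : t * (z ^ i)⁻¹ ∈ (T : Subgroup G) ⊓ f.ker :=
      mem_inf.2 ⟨mul_mem ht (inv_mem (zpow_mem (h.zpow_mem _) _)), by
        rw [MonoidHom.mem_ker, map_mul, map_inv, map_zpow, hi, mul_inv_cancel]⟩
    rw [(disjoint_of_coprime (cop_two T.isPGroup' ho)), mem_bot, mul_inv_eq_one] at h1
    exact ⟨i, h1.symm⟩
  have h1 := mc_quot h (f := π.comp f) ((QuotientGroup.eq_one_iff _).2 (mem_zpowers _)) key
  have hX : DC _ := DC.of_mc (S := T.mapSurjective (f := π.comp f) (hπ.comp hf)) h1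
  have j2 : j * j = 1 := by rw [← pow_two, ← hj, pow_orderOf_eq_one]
  have triv : ∀ y ∈ 𝐂[π (f j)], Odd (orderOf y) → y = 1 := fun y hy hyo => by
    obtain ⟨w, rfl⟩ := hπ y
    obtain ⟨i, hi⟩ := mem_zpowers_iff.1 ((QuotientGroup.eq_one_iff (N := zpowers (f z))
      (w * f j * w⁻¹ * (f j)⁻¹)).1 (by
        change π _ = 1
        rw [map_mul, map_mul, map_mul, mem_cent1.1 hy, map_inv, map_inv]; group))
    have c := mem_center_iff.1 (zpow_mem cz i)
    have h2 : w * f j * w⁻¹ = f z ^ i * f j := by rw [hi]; group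
    have h3 : f z ^ i * f z ^ i = 1 := by
      rw [← zpow_add, ← two_mul, zpow_mul, zpow_ofNat, ← oz, pow_orderOf_eq_one, one_zpow]
    obtain ⟨g, hg, e⟩ := lift_cent hf ho j2 (y := w * w) (mem_cent1.2 (by
      calc w * w * f j = w * (w * f j * w⁻¹) * w := by group
        _ = f z ^ i * (w * f j * w⁻¹) * w * w := by
          conv_lhs => rw [h2, ← mul_assoc, c w]
          group
        _ = _ := by rw [h2, ← mul_assoc, h3, one_mul, mul_assoc]))
    have h4 : f g * f g = 1 := by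
      rcases hc g hg with h5 | h5
      · rw [← map_mul, h5, map_one]
      · have := congrArg f h5
        rw [map_mul, map_mul, ← mem_center_iff.1 cz, map_inv, mul_inv_cancel_right, map_inv] at this
        exact mul_eq_one_iff_eq_inv.2 this
    refine eq_one_of_odd_of_pow hyo (k := 2) ?_
    rw [← map_pow, show w ^ 2 ^ 2 = w * w * (w * w) by simp [pow_succ, mul_assoc], ← e, h4, map_one]
  have hd : DI (π (f j)) := ⟨orderOf_eq_prime (by rw [← map_pow, ← map_pow, pow_two, j2, map_one, map_one])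
    fun e => by
      classical
      obtain ⟨k, hk, e⟩ := Finset.mem_image.1 (mem_zpowers_iff_mem_range_orderOf.1 (key j jT e))
      rw [hz.1, Finset.mem_range] at hk
      interval_cases k
      · simp [← e] at hj
      · exact jz (by simpa using e.symm),
    fun y hy o => ⟨1, by simp, by simp [triv y hy o]⟩, fun y hy u _ o _ => by simp [triv y hy o]⟩
  refine ((hd.onto hX fun hs => hn ?_).comp (Q := Tw) hπ fun n hn => .inr ⟨n, hn, ?_⟩).comp hf ?_
  · refine Core.isSolvable_of_ker f (PF.isSolvable_of_odd _ ho) (Core.isSolvable_of_ker π ?_ hs)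
    rw [QuotientGroup.ker_mk']; infer_instance
  · rw [QuotientGroup.ker_mk', Nat.card_zpowers, oz]
  · rintro n (hn | ⟨k, hk, rfl⟩)
    · exact .inl (ho.mul hn)
    · exact .inr ⟨_, ho.mul hk, by ring⟩

end Cfsg.Lib.FGS.DG
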