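import Cfsg.Agent.Lib.FGS.DGw2

/-!
# Groups with a self-centralizing generalized dihedral subgroup, II
-/

set_option autoImplicit false

namespace Cfsg.Lib.FGS.DG

open Subgroup Cfsg.Lib.BG Cfsg.Lib.Small Cfsg.Lib.PSL2 Cfsg.Lib.GW
open Cfsg.Lib.Inv hiding conj_mem_of_mem_normalizer
open scoped Cfsg.Lib.Transfer MatrixGroups

universe u

variable {G : Type u} [Group G] [Finite G]

/-- `H` is generalized dihedral over `A` and is the centralizer of each involution of `A`. -/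
structure DD (H A : Subgroup G) : Prop where
  lt : A < H
  sq : ∀ x ∈ H, x ∉ A → x * x = 1
  big : ∃ a ∈ A, a * a ≠ 1
  cen : ∀ j ∈ A, orderOf j = 2 → 𝐂[j] = H

namespace DD

variable {H A S : Subgroup G} (h : DD H A) {x y a j : G}
include h

omit [Finite G] in
theorem inv (hx : x ∈ H) (xA : x ∉ A) (ha : a ∈ A) : x * a * x⁻¹ = a⁻¹ := by
  have h1 := h.sq (x * a) (mul_mem hx (h.lt.le ha)) fun e => xA ((mul_mem_cancel_right ha).1 e)
  rw [inv_eq_of_mul_eq_one_right (h.sq x hx xA), eq_inv_iff_mul_eq_one, mul_assoc, mul_assoc,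
    ← mul_assoc x a, h1]

omit [Finite G] in
theorem comm (ha : a ∈ A) (hy : y ∈ A) : a * y = y * a := by
  obtain ⟨x, hx, xA⟩ := SetLike.exists_of_lt h.lt
  have := h.inv hx xA (mul_mem ha hy)
  rw [← conj_mul, h.inv hx xA ha, h.inv hx xA hy, ← mul_inv_rev, inv_inj] at this
  exact this.symm

omit [Finite G] in
theorem mul_mem' (hx : x ∈ H) (xA : x ∉ A) (hy : y ∈ H) (yA : y ∉ A) : x * y ∈ A := by
  by_contra e
  obtain ⟨a, ha, a2⟩ := h.big
  have := h.inv (mul_mem hx hy) e ha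
  rw [show x * y * a * (x * y)⁻¹ = x * (y * a * y⁻¹) * x⁻¹ by group, h.inv hy yA ha,
    h.inv hx xA (inv_mem ha), inv_inv] at this
  exact a2 (mul_eq_one_iff_eq_inv.2 this)

omit [Finite G] in
theorem idx (hS : S ≤ H) (hx : x ∈ S) (xA : x ∉ A) : A.relIndex S = 2 :=
  relIndex_eq_two_iff.2 ⟨x, hx, fun b hb => by
    by_cases bA : b ∈ A
    · exact .inr ⟨bA, fun e => xA ((mul_mem_cancel_left bA).1 e)⟩
    · exact .inl ⟨h.mul_mem' (hS hb) bA (hS hx) xA, bA⟩⟩

theorem sol : Group.IsSolvable H := by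
  obtain ⟨x, hx, xA⟩ := SetLike.exists_of_lt h.lt
  have h1 := h.idx le_rfl hx xA
  have := normal_of_index_eq_two h1
  have : IsMulCommutative (A.subgroupOf H) := ⟨⟨fun a b => Subtype.ext (Subtype.ext (h.comm a.2 b.2))⟩⟩
  exact Core.isSolvable_of_normal_quotient (A.subgroupOf H) (Core.isSolvable_of_isMulCommutative _)
    (Core.isSolvable_of_isPGroup (p := 2) (.of_card (n := 1) h1))

omit [Finite G] in
theorem di (hj : j ∈ A) (o : orderOf j = 2) : DI j := by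
  have hA : ∀ y ∈ 𝐂[j], Odd (orderOf y) → y ∈ A := fun y hy ho => by
    by_contra yA
    rw [eq_one_of_odd_of_pow ho (k := 1) (by simpa [pow_two] using h.sq y (h.cen j hj o ▸ hy) yA)] at yA
    exact yA (one_mem A)
  obtain ⟨x, hx, xA⟩ := SetLike.exists_of_lt h.lt
  refine ⟨o, fun y hy ho => ⟨x, h.sq x hx xA, h.inv hx xA (hA y hy ho)⟩, fun y hy u hu ho u2 =>
    h.comm (hA y hy ho) ?_⟩
  by_contra uA
  exact u2 (h.sq u (h.cen j hj o ▸ hu) uA)

theorem exists_syl : ∃ S x, Syl 2 S H ∧ x ∈ S ∧ x ∉ A := by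
  obtain ⟨x, hx, xA⟩ := SetLike.exists_of_lt h.lt
  obtain ⟨S, hS, e⟩ := Syl.exists_ge (Q := zpowers x) (p := 2) (.of_card_dvd_pow (n := 1) (by
    rw [Nat.card_zpowers]; exact orderOf_dvd_of_pow_eq_one (by simpa [pow_two] using h.sq x hx xA)))
    (zpowers_le.2 hx)
  exact ⟨S, x, hS, e (mem_zpowers x), xA⟩

theorem mem_syl (hS : Syl 2 S H) (hj : j ∈ A) (j2 : j * j = 1) : j ∈ S := by
  by_cases j1 : j = 1
  · exact j1 ▸ one_mem S
  have o : orderOf j = 2 := orderOf_eq_prime (by rwa [pow_two]) j1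
  refine hS.ge_of_norm_p (N := zpowers j) (zpowers_le.2 (h.lt.le hj)) (.of_card (n := 1) (by
    rw [Nat.card_zpowers, o, pow_one])) (hS.le.trans ?_) (mem_zpowers j)
  rw [← h.cen j hj o, ← cent_zpowers]
  exact cent_le_norm _

omit [Finite G] in
theorem not_fused {k g : G} (hj : j ∈ A) (oj : orderOf j = 2) (hk : k ∈ A) (ok : orderOf k = 2)
    (jk : j ≠ k) (hx : x ∈ H) (xA : x ∉ A) : g * x * g⁻¹ ∉ A := fun e => by
  have x2 := h.sq x hx xA
  have h1 := h.cen _ e (((MulAut.conj g).orderOf_eq x).trans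
    (orderOf_eq_prime (by rwa [pow_two]) fun e => xA (e ▸ one_mem A)))
  have m : ∀ v ∈ A, orderOf v = 2 → g * v * g⁻¹ ∈ H := fun v hv o => by
    rw [← h1]
    exact mem_cent1.2 (by rw [conj_mul, conj_mul, mem_cent1.1 ((h.cen v hv o).ge hx)])
  have n : ∀ v ∈ A, orderOf v = 2 → g * v * g⁻¹ ∉ A := fun v hv o e' => by
    obtain ⟨a, ha, a2⟩ := h.big
    have h2 := h.cen _ e' (((MulAut.conj g).orderOf_eq v).trans o)
    have h3 : ∀ c, c ∈ H ↔ g * c * g⁻¹ ∈ H := fun c => by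
      conv_lhs => rw [← h.cen v hv o]
      rw [← h2, mem_cent1, mem_cent1, conj_mul, conj_mul, mul_left_inj, mul_right_inj]
    have h4 := mem_cent1.1 (h1.ge ((h3 a).1 (h.lt.le ha)))
    rw [conj_mul, conj_mul, mul_left_inj, mul_right_inj] at h4
    have h5 := h.inv hx xA ha
    rw [← h4, mul_inv_cancel_right] at h5
    exact a2 (mul_eq_one_iff_eq_inv.2 h5)
  have j2 : j * j = 1 := by rw [← pow_two, ← oj, pow_orderOf_eq_one]
  have k2 : k * k = 1 := by rw [← pow_two, ← ok, pow_orderOf_eq_one]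
  refine n (j * k) (mul_mem hj hk) (orderOf_eq_prime ?_ fun e => jk ?_) ?_
  · rw [pow_two, mul_assoc, ← mul_assoc k, h.comm hk hj, mul_assoc, k2, mul_one, j2]
  · rw [eq_inv_of_mul_eq_one_left e, inv_eq_of_mul_eq_one_right k2]
  · rw [← conj_mul]; exact h.mul_mem' (m j hj oj) (n j hj oj) (m k hk ok) (n k hk ok)

theorem onto_two {k : G} (hj : j ∈ A) (oj : orderOf j = 2) (hk : k ∈ A) (ok : orderOf k = 2)
    (jk : j ≠ k) (hn : ¬ Group.IsSolvable G) : Onto G Tw := by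
  obtain ⟨S, x, hS, hx, xA⟩ := h.exists_syl
  let V : Subgroup G :=
    { carrier := {a | a ∈ A ∧ a * a = 1}
      one_mem' := ⟨one_mem A, one_mul 1⟩
      inv_mem' := fun ha => ⟨inv_mem ha.1, by rw [← mul_inv_rev, ha.2, inv_one]⟩
      mul_mem' := fun {a b} ha hb => ⟨mul_mem ha.1 hb.1, by
        rw [mul_assoc, ← mul_assoc b, h.comm hb.1 ha.1, mul_assoc, hb.2, mul_one, ha.2]⟩ }
  have VS : V ≤ S := fun v hv => h.mem_syl hS hv.1 hv.2
  have hT : Syl 2 S ⊤ := by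
    refine Syl.of_norm ?_
    obtain ⟨T, hT, e⟩ := Syl.exists_ge (M := ⊤ ⊓ 𝐍(S)) hS.pgroup (le_inf le_top (le_norm S))
    obtain ⟨v, hv, hc, ov⟩ := PGroup.exists_mem_centralizer_orderOf_eq (hS.pgroup.to_le VS) hT.pgroup
      (P := T) (fun t ht => mem_normalizer_fintype fun v hv => ⟨by
        by_contra e
        refine h.not_fused (g := t⁻¹) hj oj hk ok jk (hS.le (conj_mem_of_norm (hT.le ht).2 (VS hv))) e ?_
        simpa [mul_assoc] using hv.1, by rw [conj_mul, hv.2, mul_one, mul_inv_cancel]⟩)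
      fun e => by
        have : j ∈ V := ⟨hj, by rw [← pow_two, ← oj, pow_orderOf_eq_one]⟩
        rw [e, mem_bot] at this
        simp [this] at oj
    rwa [← hS.eq_of_le_pgroup e (fun t ht => h.cen v hv.1 ov ▸ mem_cent1.2 (mem_cent.1 hc t ht))
      hT.pgroup] at hT
  obtain ⟨P, rfl⟩ := Syl.top_iff_sylow.1 hT
  refine onto_ab (K := pResidual 2 G) (A := A) P hS.le (Transfer.pResidual_sup_sylow P)
    ⟨⟨fun a b => Subtype.ext (h.comm a.2 b.2)⟩⟩ (h.idx le_rfl (hS.le hx) xA).dvd h.cen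
    (fun y hy => ?_) h.sol hn
  by_contra yA
  obtain ⟨g, hg, e⟩ := hS.exists_conj_le (Q := zpowers y) (.of_card_dvd_pow (n := 1) (by
    rw [Nat.card_zpowers]; exact orderOf_dvd_of_pow_eq_one (by simpa [pow_two] using h.sq y hy.2 yA)))
    (zpowers_le.2 hy.2)
  refine Transfer.thompson_transfer P (h.idx hS.le hx xA) (u := g * y * g⁻¹)
    (by rw [pow_two, conj_mul, h.sq y hy.2 yA, mul_one, mul_inv_cancel])
    (e (Transfer.conj_mem_conj.2 (mem_zpowers y))) (fun c => ?_)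
    (mem_sup_left (Transfer.pResidual_normal.conj_mem y hy.1 g))
  have := h.not_fused (g := c * g) hj oj hk ok jk hy.2 yA
  simpa [mul_assoc] using this

theorem onto_one' (hj : j ∈ A) (oj : orderOf j = 2) (hu : ∀ k ∈ A, orderOf k = 2 → k = j)
    (hn : ¬ Group.IsSolvable G) : Onto G Tw := by
  obtain ⟨S, x, hS, hx, xA⟩ := h.exists_syl
  have j2 : j * j = 1 := by rw [← pow_two, ← oj, pow_orderOf_eq_one]
  have jS := h.mem_syl hS hj j2
  have hQ : IsPGroup 2 ↥(S ⊓ A) := hS.pgroup.to_inf_left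
  have hc : IsCyclic ↥(S ⊓ A) := by
    by_contra hc
    have h1 := PGroup.sq_le_card_omegaOne_of_not_isCyclic hQ
      ⟨⟨fun a b => Subtype.ext (h.comm a.2.2 b.2.2)⟩⟩ hc
    have h2 : omegaOne 2 (S ⊓ A) ≤ zpowers j := PGroup.omegaOne_le_iff.2 fun y hy y2 => by
      by_cases y1 : y = 1
      · exact y1 ▸ one_mem _
      · exact hu y hy.2 (orderOf_eq_prime y2 y1) ▸ mem_zpowers j
    have := card_le_of_le h2
    rw [Nat.card_zpowers, oj] at this
    omega
  obtain ⟨a, ha⟩ := (isCyclic_iff_exists_zpowers_eq_top.1 hc)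
  have ea : zpowers (a : G) = S ⊓ A := by
    rw [← (S ⊓ A).subtype_apply a, ← MonoidHom.map_zpowers, ha, ← MonoidHom.range_eq_map, range_subtype]
  obtain ⟨n, hn'⟩ := IsPGroup.iff_orderOf.1 hQ a
  rw [← orderOf_coe] at hn'
  obtain ⟨m, rfl⟩ : ∃ m, n = m + 1 := by
    rcases n with _ | n
    · have := ea.ge (⟨jS, hj⟩ : j ∈ S ⊓ A)
      rw [orderOf_eq_one_iff.1 hn', zpowers_one_eq_bot, mem_bot] at this
      simp [this] at oj
    · exact ⟨n, rfl⟩
  have mc : MC S a x m 0 0 := ⟨hn', fun e => xA (ea.le e).2, le_antisymm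
    (sup_le (ea.le.trans inf_le_left) (zpowers_le.2 hx)) fun s hs => by
      by_cases sA : s ∈ A
      · exact mem_sup_left (ea.ge ⟨hs, sA⟩)
      · rw [show s = s * x * x⁻¹ by group]
        exact mul_mem_sup (ea.ge ⟨mul_mem hs hx, h.mul_mem' (hS.le hs) sA (hS.le hx) xA⟩)
          (inv_mem (mem_zpowers x)),
    by simpa using h.inv (hS.le hx) xA a.2.2, by simpa using h.sq x (hS.le hx) xA, by simp⟩
  have fin : DC G → Onto G Tw := fun hX => by
    obtain ⟨F, _, _, h3, h4⟩ := (h.di hj oj).onto hX hn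
    exact ⟨F, _, _, h3, h4.imp (fun ⟨φ, h1, h2⟩ => ⟨φ, h1, .inl h2⟩) fun ⟨φ, h1, h2⟩ => ⟨φ, h1, .inl h2⟩⟩
  by_cases hS' : Syl 2 S ⊤
  · obtain ⟨P, rfl⟩ := Syl.top_iff_sylow.1 hS'
    exact fin (DC.of_mc mc)
  obtain rfl : m = 0 := by
    by_contra m0
    obtain ⟨m, rfl⟩ := Nat.exists_eq_succ_of_ne_zero m0
    refine hS' (hS.of_norm_le le_top fun t ht => ?_)
    have h1 : (a : G) ^ (2 : ℤ) ^ m * a ^ (2 : ℤ) ^ m = j := by
      rw [← zpow_add, ← mul_two, ← pow_succ]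
      exact hu _ (A.zpow_mem a.2.2 _) mc.z_ord
    have h2 := hS.le (conj_mem_of_norm ht.2 (mc.zpow_mem ((2 : ℤ) ^ m)))
    have h3 : orderOf (t * j * t⁻¹) = 2 := ((MulAut.conj t).orderOf_eq j).trans oj
    have h4 : t * a ^ (2 : ℤ) ^ m * t⁻¹ ∈ A := by
      by_contra e
      have := h.sq _ h2 e
      rw [conj_mul, h1] at this
      simp [this] at h3
    rw [← h.cen j hj oj]
    exact mem_cent1.2 (mul_inv_eq_iff_eq_mul.1 (hu _ (by
      rw [← h1, ← conj_mul]; exact mul_mem h4 h4) h3))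
  obtain ⟨T, hle⟩ := hS.pgroup.exists_le_sylow
  have hTH : (T : Subgroup G) ⊓ H ≤ S :=
    (hS.eq_of_le_pgroup (le_inf hle hS.le) inf_le_right T.isPGroup'.to_inf_left).ge
  have c4 : Nat.card S = 2 ^ 2 := mc.card_eq
  have k4 : IsKleinFour S := by
    have := mc.k4_refl (i := 0) (by simpa using mc.sq)
    rwa [pow_zero, zpow_one, zpow_zero, one_mul, mc.sup] at this
  obtain ⟨k, hk⟩ := T.isPGroup'.exists_card_eq
  have h2 := card_dvd hle
  rw [c4, hk, Nat.pow_dvd_pow_iff_le_right one_lt_two] at h2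
  rcases h2.eq_or_lt with rfl | h2
  · exact (hS' (eq_of_le_of_card_le hle (by rw [hk, c4]) ▸ Syl.of_sylow_top T)).elim
  obtain ⟨n, rfl⟩ : ∃ n, k = n + 3 := ⟨k - 3, by omega⟩
  have h5 : 𝐂(S.subgroupOf T) = S.subgroupOf T := by
    rw [subOf_cent hle]
    exact le_antisymm (fun y hy => hTH ⟨y.2, h.cen j hj oj ▸ mem_cent1.2 (mem_cent.1 hy j jS).symm⟩)
      (comap_mono (abelian_cent (IsPGroup.isMulCommutative_of_card_eq_prime_sq (p := 2) c4)))
  obtain ⟨c, b, h6 | h6 | ⟨h0, h6⟩⟩ := FGS.exists_mc_of_maxClass hk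
    (PGroup.maxClass_of_self_centralizing (n := n + 1) hk ((subOf_card hle).trans c4) h5)
  · exact fin (DC.of_mc h6.of_top)
  · exact (h6.of_top.quat_not_k4 hle k4).elim
  obtain ⟨n, rfl⟩ := Nat.exists_eq_add_of_le' h0
  have q := h6.of_top
  have big : ∀ g w : G, g * j * g⁻¹ = w → ¬ (T : Subgroup G) ≤ 𝐂[w] := fun g w e hle => by
    have h7 := Syl.card_le (hS.conj g) T.isPGroup' (by
      rw [← h.cen j hj oj, conj_cent1, e]; exact hle)
    rw [Transfer.card_conj, hk, c4, Nat.pow_le_pow_iff_right one_lt_two] at h7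
    omega
  have zc : (T : Subgroup G) ≤ 𝐂[(c : G) ^ (2 : ℤ) ^ (n + 1 + 1)] := fun t ht => mem_cent1.2 (q.z_comm ht)
  have jz : j ≠ (c : G) ^ (2 : ℤ) ^ (n + 1 + 1) := fun e => big 1 _ (by simpa using e) zc
  have form : ∀ w ∈ (T : Subgroup G), orderOf w = 2 → w ≠ (c : G) ^ (2 : ℤ) ^ (n + 1 + 1) →
      ∃ i : ℤ, 2 ∣ i ∧ w = (c : G) ^ i * b := fun w hw o e => by
    have w2 : w * w = 1 := by rw [← pow_two, ← o, pow_orderOf_eq_one]
    obtain ⟨i, rfl⟩ := q.exists_refl hw fun e' => e (q.eq_z e' (fun e => by simp [e] at o) w2)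
    exact ⟨i, by_contra fun hi => q.qd_refl_sq_odd hi w2, rfl⟩
  refine onto_qd q (ZStar.isolated_of_sylow T q.z_ord fun g hg => by_contra fun e => ?_) oj (hle jS) jz
    (fun y hy => ?_) hn
  · obtain ⟨i, hi, e1⟩ := form _ hg (((MulAut.conj g).orderOf_eq _).trans q.z_ord) e
    obtain ⟨k, hk, e2⟩ := form j (hle jS) oj jz
    obtain ⟨l, e3⟩ := q.exists_conj_refl (i := k) (j := i) (dvd_sub hi hk)
    refine big (g⁻¹ * (c : G) ^ l) _ ?_ zc
    rw [← e1, ← e2] at e3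
    calc _ = g⁻¹ * ((c : G) ^ l * j * ((c : G) ^ l)⁻¹) * g := by group
      _ = _ := by rw [e3]; group
  · rw [h.cen j hj oj] at hy
    by_cases yA : y ∈ A
    · exact .inr (h.inv (hS.le (q.k4_form hle k4).1) (fun e => jz (hu _ e q.z_ord).symm) yA)
    · exact .inl (h.sq y hy yA)

end DD

theorem onto_main {H A : Subgroup G} (hAH : A < H) (hD : ∀ x ∈ H, x ∉ A → x ^ 2 = 1)
    (h4 : 4 ∣ Nat.card H)
    (hC : ∀ j ∈ H, orderOf j = 2 → (∀ h ∈ H, h * j = j * h) → 𝐂[j] = H)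
    (hn : ¬ Group.IsSolvable G) : Onto G Tw := by
  by_cases hE : ∀ x ∈ H, x * x = 1
  · have cm : ∀ x ∈ H, ∀ y ∈ H, x * y = y * x := fun x hx y hy => by
      rw [← inv_eq_of_mul_eq_one_right (hE _ (mul_mem hx hy)), mul_inv_rev,
        inv_eq_of_mul_eq_one_right (hE x hx), inv_eq_of_mul_eq_one_right (hE y hy)]
    have hC' : ∀ j ∈ H, orderOf j = 2 → 𝐂[j] = H := fun j hj o => hC j hj o fun h hh => cm h hh j hj
    have hp : IsPGroup 2 H := fun x => ⟨1, Subtype.ext (by simpa [pow_two] using hE x x.2)⟩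
    have ab : IsMulCommutative H := ⟨⟨fun a b => Subtype.ext (cm _ a.2 _ b.2)⟩⟩
    obtain ⟨T, hle⟩ := hp.exists_le_sylow
    obtain ⟨v, hv, hc, ov⟩ := PGroup.exists_mem_centralizer_orderOf_eq T.isPGroup' T.isPGroup'
      (le_norm _) fun e => not_lt_bot (hAH.trans_le (hle.trans e.le))
    obtain ⟨j, hj, jA⟩ := SetLike.exists_of_lt hAH
    have oj : orderOf j = 2 := orderOf_eq_prime (hD j hj jA) fun e => jA (e ▸ one_mem A)
    have vH : v ∈ H := hC' j hj oj ▸ mem_cent1.2 (mem_cent.1 hc j (hle hj)).symm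
    exact onto_ab (K := ⊤) (A := H) T (fun t ht => hC' v vH ov ▸ mem_cent1.2 (mem_cent.1 hc t ht))
      (top_sup_eq _) ab (by simp) hC' inf_le_right (Core.isSolvable_of_isMulCommutative _) hn
  have sq : ∀ x ∈ H, x ∉ A → x * x = 1 := fun x hx xA => pow_two x ▸ hD x hx xA
  have h : DD H A := by
    push Not at hE
    obtain ⟨a, ha, a2⟩ := hE
    refine ⟨hAH, sq, ⟨a, by_contra fun e => a2 (sq a ha e), a2⟩, fun j hj o => hC j (hAH.le hj) o
      fun x hx => ?_⟩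
    have j2 : j * j = 1 := by rw [← pow_two, ← o, pow_orderOf_eq_one]
    have key : ∀ x ∈ H, x ∉ A → x * j = j * x := fun x hx xA => by
      have h1 := sq (x * j) (mul_mem hx (hAH.le hj)) fun e => xA ((mul_mem_cancel_right hj).1 e)
      rw [← inv_eq_of_mul_eq_one_right h1, mul_inv_rev, inv_eq_of_mul_eq_one_right j2,
        inv_eq_of_mul_eq_one_right (sq x hx xA)]
    by_cases xA : x ∈ A
    · obtain ⟨y, hy, yA⟩ := SetLike.exists_of_lt hAH
      have h1 := key (x * y) (mul_mem hx hy) fun e => yA ((mul_mem_cancel_left xA).1 e)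
      rwa [mul_assoc, key y hy yA, ← mul_assoc, ← mul_assoc, mul_left_inj] at h1
    · exact key x hx xA
  obtain ⟨x, hx, xA⟩ := SetLike.exists_of_lt hAH
  have h1 := card_mul_relIndex hAH.le
  rw [h.idx le_rfl hx xA] at h1
  obtain ⟨j, hj⟩ := exists_prime_orderOf_dvd_card' (G := A) 2 (by omega)
  have oj := (orderOf_coe j).trans hj
  by_cases hu : ∀ k ∈ A, orderOf k = 2 → k = j
  · exact h.onto_one' j.2 oj hu hn
  · push Not at hu
    obtain ⟨k, hk, ok, e⟩ := hu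
    exact h.onto_two hk ok j.2 oj e hn

end Cfsg.Lib.FGS.DG
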