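import Cfsg.Agent.Lib.FGS.Four1
import Cfsg.Agent.Lib.Coprime.Supplement
import Cfsg.Agent.S4034

/-!
# Class sizes `1, n, m, nm` with `n, m` coprime: the impossible case
-/

set_option autoImplicit false

namespace Cfsg.Lib.FGS.F4

open Subgroup Cfsg.Lib Cfsg.Lib.BG Cfsg.Lib.Transfer Cfsg.Lib.Core Cfsg.Lib.FGS.TR
open scoped commutatorElement Pointwise

variable {G : Type*} [Group G] [Finite G] {p q r s n m k : ℕ} {x y u v w g z : G}
  {K L : Subgroup G}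

theorem Hy.ex_u (h : Hy G n m)
    (hY : ∀ (y : G) (s : ℕ), s.Prime → PE s y → (𝐂[y]).index = m → s ∣ n)
    (hx : (𝐂[x]).index = n) : ∃ u ∈ 𝐂[x], ∃ r : ℕ, r.Prime ∧ PE r u ∧ u ∉ center G ∧ ¬ r ∣ m := by
  by_contra hc
  push Not at hc
  have hn0 : 0 < n := h.hn.trans' one_pos
  have hm0 : 0 < m := h.hm.trans' one_pos
  have h1 : ∀ g : G, (𝐂[g]).index = n * m → ∀ r : ℕ, r.Prime → r ∣ (center G).relIndex 𝐂[g] →
      r ∣ m := by
    intro g hg r hr hd
    have e : (center G).relIndex 𝐂[x] = (center G).relIndex 𝐂[g] * m :=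
      Nat.eq_of_mul_eq_mul_right hn0 (by
        rw [mul_assoc, mul_comm m, ← hg, relIndex_mul, ← hx, relIndex_mul])
    obtain ⟨w, a, b, c⟩ := ex_pe (K := center G) (L := 𝐂[x]) hr (e ▸ hd.mul_right m)
    exact hc w a r hr b c
  obtain ⟨y, s, hs, hy, hi⟩ := h.symm.exists_pe
  have hsm : ¬ s ∣ m := fun e => hs.not_dvd_one (h.cop ▸ Nat.dvd_gcd (hY y s hs hy hi) e)
  obtain ⟨g, hg⟩ := h.exnm
  have h2 : (center G).relIndex 𝐂[g] ≠ 1 := fun e => by
    have := index_cent1_eq_one.2 (relIndex_eq_one.1 e (self_mem_cent1 g))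
    rw [hg] at this
    exact h.hn.ne' (Nat.eq_one_of_mul_eq_one_right this)
  have hr := Nat.minFac_prime h2
  have hrm := h1 g hg _ hr (Nat.minFac_dvd _)
  have e : (center G).relIndex 𝐂[y] = (center G).relIndex 𝐂[g] * n :=
    Nat.eq_of_mul_eq_mul_right hm0 (by rw [mul_assoc, ← hg, relIndex_mul, ← hi, relIndex_mul])
  obtain ⟨w, a, b, c⟩ := ex_pe (K := center G) (L := 𝐂[y]) hr (e ▸ (Nat.minFac_dvd _).mul_right n)
  have e2 := cent1_mul a (F4.cop hs hr (fun e => hsm (e ▸ hrm)) hy b)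
  rcases h.symm.of_dvd' (x := y * w) (hi ▸ index_dvd_of_le (e2 ▸ inf_le_left)) with e3 | e3
  · have e4 := cent1_eq_of_le (x := y * w) (y := y) (e2 ▸ inf_le_left) (e3.trans hi.symm).le
    have e5 := (h.symm.of_dvd (x := w) (hi ▸ index_dvd_of_le (e4 ▸ e2 ▸ inf_le_right))).resolve_left
      fun e => c (index_cent1_eq_one.1 e)
    exact hr.not_dvd_one (h.cop ▸ Nat.dvd_gcd (hY w _ hr b e5) hrm)
  · exact hsm (h1 _ (e3.trans (mul_comm m n)) s hs (dvd_relIndex_center hs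
      (e2 ▸ ⟨self_mem_cent1 y, mem_cent1_symm a⟩) (h.symm.nc hi) hy))

theorem Hy.pow (h : Hy G n m)
    (hX : ∀ (x : G) (s : ℕ), s.Prime → PE s x → (𝐂[x]).index = n → s ∣ m)
    (hY : ∀ (y : G) (s : ℕ), s.Prime → PE s y → (𝐂[y]).index = m → s ∣ n)
    (hq : q.Prime) (h1 : PE q x) (hx : (𝐂[x]).index = n) : ∃ b, m = q ^ b := by
  obtain ⟨u, hu, r, hr, a, b, c⟩ := h.ex_u hY hx
  have hrq : r ≠ q := fun e => c (e ▸ hX x q hq h1 hx)
  obtain ⟨t, ht, htq, hc⟩ | ⟨-, hb⟩ := two_sizes (G := 𝐂[x]) hq (h.sub hx h1)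
  swap
  · exact hb
  have hc' : ∀ r : ℕ, r.Prime → r ≠ q → r ≠ t → ∀ w ∈ 𝐂[x], PE r w → 𝐂[x] ≤ 𝐂[w] := by
    intro r hr e1 e2 w hw ⟨k, hk⟩ a ha
    exact mem_cent1.2 (congrArg Subtype.val (mem_center_iff.1
      (hc r hr e1 e2 ⟨w, hw⟩ ⟨k, Subtype.ext hk⟩) ⟨a, ha⟩))
  have hnle : ¬ 𝐂[x] ≤ 𝐂[u] := fun e => c (hX u r hr a
    ((h.of_dvd (hx ▸ index_dvd_of_le e)).resolve_left fun e => b (index_cent1_eq_one.1 e)))
  obtain rfl : r = t := by
    by_contra e
    exact hnle (hc' r hr hrq e u hu a)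
  have e := (h.rel hx hu (F4.cop hq hr hrq.symm h1 a)).resolve_left fun e => hnle (relIndex_eq_one.1 e)
  rw [← e]
  refine exists_index_eq_pow (H := (𝐂[u]).subgroupOf 𝐂[x]) fun s hs e1 hd => ?_
  by_cases e2 : s = r
  · exact c (e2 ▸ e ▸ hd)
  · obtain ⟨w, h1, h2, h3⟩ := ex_pe hs hd
    exact h3 (mem_cent1_symm (hc' s hs e1 e2 w h1 h2 hu))

theorem solv (hc : ∀ r : ℕ, r.Prime → r ≠ p → r ≠ q → ¬ r ∣ (center G).index) :
    Group.IsSolvable G := by
  haveI : Group.IsSolvable (G ⧸ center G) := Char.isSolvable_of_forall_prime_dvd _ p q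
    fun r hr hd => by
      by_contra e
      push Not at e
      exact hc r hr e.1 e.2 hd
  haveI : Group.IsSolvable (center G) := Coprime.isSolvable_of_isMulCommutative inferInstance
  exact Group.isSolvable_of_ker_le_range (center G).subtype (QuotientGroup.mk' (center G)) (by simp)

theorem mem_pCore (hq : q.Prime)
    (hc : ∀ r : ℕ, r.Prime → r ≠ p → r ≠ q → ¬ r ∣ (center G).index) (h1 : PE q x)
    (h2 : x ∈ 𝐂(pCore p G)) (h3 : x ∈ 𝐂(pCore q G)) : x ∈ pCore q G := by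
  haveI := Fact.mk hq
  haveI := solv hc
  refine le_pCore_of_le_fittingSubgroup (P := zpowers x) (zpowers_le_of_mem
    (centralizer_fittingSubgroup_le ?_)) h1.pgroup (mem_zpowers x)
  rw [fittingSubgroup_eq_iSup_pCore]
  refine le_cent1_iff.1 (iSup_le fun r => ?_)
  by_cases e1 : r.1 = p
  · exact e1 ▸ le_cent1_iff.2 h2
  by_cases e2 : r.1 = q
  · exact e2 ▸ le_cent1_iff.2 h3
  exact fun w hw => center_le_cent1 x (mem_center_of_not_dvd r.2 (hc r r.2 e1 e2)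
    (PE.of_pgroup (pCore_isPGroup _ G) hw))

theorem keyK (hp : p.Prime) (hq : q.Prime) (hpq : p ≠ q)
    (hc : ∀ r : ℕ, r.Prime → r ≠ p → r ≠ q → ¬ r ∣ (center G).index)
    (hab : ∀ A : Subgroup G, IsPGroup p A → A ≤ 𝐂(A))
    (hi : ∀ u : G, PE p u → (𝐂[u]).index = 1 ∨ (𝐂[u]).index = k) (hy : y ∈ pCore p G)
    (hk : (𝐂[y]).index = k) (hu : PE p u) : u ∈ pCore p G := by
  haveI := Fact.mk hp
  haveI := Fact.mk hq
  by_contra hn
  obtain ⟨A, hA⟩ := hu.pgroup.exists_le_sylow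
  have huA : u ∈ (A : Subgroup G) := hA (mem_zpowers u)
  set O := pCore p G
  have hOA : O ≤ A := (pCore_isPGroup p G).le_sylow_of_normal A
  have hAC : (A : Subgroup G) ≤ 𝐂(O) := (hab A A.isPGroup').trans (cent_anti hOA)
  obtain ⟨R, -, hR1, hR2, hR3⟩ := exists_sylowIn_ge (p := q) (Q := ⊥) (H := 𝐍((A : Subgroup G)))
    IsPGroup.of_bot bot_le
  have hfr : ∀ g : G, ∃ b ∈ 𝐍((A : Subgroup G)), ∃ a ∈ 𝐂(O), g = b * a := fun g => by
    obtain ⟨c, hc, hc'⟩ := frattini_argument (K := ⊤) hAC A.isPGroup'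
      (sylow_not_dvd_relIndex A hAC) le_normalizer_of_normal (mem_top g⁻¹)
    exact ⟨_, inv_mem hc', c, hc, by group⟩
  have htop : 𝐂(O) ⊔ R = ⊤ := by
    rw [← index_eq_one]
    by_contra e
    have hr := Nat.minFac_prime e
    by_cases e1 : (𝐂(O) ⊔ R).index.minFac = p
    · exact A.not_dvd_index ((e1 ▸ Nat.minFac_dvd _).trans
        (index_dvd_of_le (hAC.trans le_sup_left)))
    by_cases e2 : (𝐂(O) ⊔ R).index.minFac = q
    · refine hR3 ((e2 ▸ Nat.minFac_dvd _).trans ?_)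
      rw [← relIndex_eq_index_of_mul (B := 𝐍((A : Subgroup G))) fun g => by
        obtain ⟨b, hb, a, ha, e⟩ := hfr g
        exact ⟨b, hb, a, mem_sup_left ha, e⟩]
      exact relIndex_dvd_of_le_left _ le_sup_right
    · exact hc _ hr e1 e2 ((Nat.minFac_dvd _).trans
        (index_dvd_of_le ((center_le_centralizer _).trans le_sup_left)))
  have hyR : (𝐂[y]).relIndex R = k := by
    rw [← hk]
    refine relIndex_eq_index_of_mul fun g => ?_
    obtain ⟨b, hb, a, ha, e⟩ := (mem_sup_right_norm (H := R) (N := 𝐂(O))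
      le_normalizer_of_normal).1 (show g ∈ R ⊔ 𝐂(O) by rw [sup_comm, htop]; exact mem_top g)
    exact ⟨b, hb, a, cent_le_cent1 hy ha, e.symm⟩
  let T : Subgroup G :=
    { carrier := {t | t ∈ R ∧ t * u * t⁻¹ * u⁻¹ ∈ O}
      one_mem' := ⟨one_mem _, by simp⟩
      mul_mem' := fun {a b} ha hb => ⟨mul_mem ha.1 hb.1, by
        have := mul_mem (Normal.conj_mem inferInstance _ hb.2 a) ha.2
        convert this using 1
        group⟩
      inv_mem' := fun {a} ha => ⟨inv_mem ha.1, by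
        have := inv_mem (Normal.conj_mem inferInstance _ ha.2 a⁻¹)
        convert this using 1
        group⟩ }
  have hT : IsPGroup q T := hR2.to_le fun t ht => ht.1
  obtain ⟨o, ho, hou⟩ := Coprime.exists_mul_mem_centralizer' (A := T) (N := O) (k := u)
    le_normalizer_of_normal
    (IsPGroup.coprime_card_of_ne q p hpq.symm _ _ hT (pCore_isPGroup p G))
    (Or.inl (pgroup_sol hT)) fun a ha => ha.2
  have h1A : y * (o * u) ∈ (A : Subgroup G) := mul_mem (hOA hy) (mul_mem (hOA ho) huA)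
  have h1O : y * (o * u) ∉ O := fun e => hn (by
    simpa [mul_assoc] using mul_mem (inv_mem ho) (mul_mem (inv_mem hy) e))
  have hle : 𝐂[y * (o * u)] ⊓ R ≤ 𝐂[y] := fun t ⟨ht1, ht2⟩ => by
    have e := mem_cent1.1 ht1
    have htT : t ∈ T := ⟨ht2, by
      have := mul_mem (inv_mem (Normal.conj_mem inferInstance _ (mul_mem hy ho) t)) (mul_mem hy ho)
      convert this using 1
      calc t * u * t⁻¹ * u⁻¹ = (t * (y * o) * t⁻¹)⁻¹ * (t * (y * (o * u))) * t⁻¹ * u⁻¹ := by group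
        _ = _ := by rw [e]; group⟩
    have e2 := mem_cent.1 hou t htT
    refine mem_cent1.2 (mul_right_cancel (b := o * u) ?_)
    rw [mul_assoc, e, mul_assoc y t, e2, mul_assoc]
  have hi1 := (hi _ (PE.of_pgroup A.isPGroup' h1A)).resolve_left fun e => h1O
    (le_pCore (N := zpowers (y * (o * u))) ⟨fun w hw g => by
      rw [mem_center_iff.1 (zpowers_le_of_mem (index_cent1_eq_one.1 e) hw) g, mul_inv_cancel_right]
      exact hw⟩ (PE.of_pgroup A.isPGroup' h1A).pgroup (mem_zpowers _))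
  have hrel : (𝐂[y * (o * u)]).relIndex R = (𝐂[y * (o * u)]).index := by
    refine le_antisymm ?_ ?_
    · rw [← relIndex_top_right]
      exact relIndex_le_of_le_right le_top (by
        rw [relIndex_top_right]; exact index_ne_zero_of_finite)
    · rw [hi1, ← hyR, ← inf_relIndex_right 𝐂[y * (o * u)]]
      exact Nat.le_of_dvd (Nat.pos_of_ne_zero index_ne_zero_of_finite)
        (relIndex_dvd_of_le_left R hle)
  refine h1O (le_pCore (N := (A : Subgroup G).normalCore) inferInstance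
    (A.isPGroup'.to_le (normalCore_le _)) fun g => ?_)
  obtain ⟨b, hb, a, ha, rfl⟩ := exists_mul_of_relIndex_eq hrel g
  rw [show b * a * (y * (o * u)) * (b * a)⁻¹ = b * (a * (y * (o * u))) * a⁻¹ * b⁻¹ by group,
    mem_cent1.1 ha, show b * (y * (o * u) * a) * a⁻¹ * b⁻¹ = b * (y * (o * u)) * b⁻¹ by group]
  exact conj_mem_of_norm (hR1 hb) h1A

/-- The configuration to be excluded. -/
structure St (G : Type*) [Group G] (p q n m : ℕ) : Prop where
  hy : Hy G n m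
  hp : p.Prime
  hq : q.Prime
  pn : ∃ a, n = p ^ a
  qm : ∃ b, m = q ^ b
  hX : ∀ (x : G) (s : ℕ), s.Prime → PE s x → (𝐂[x]).index = n → s = q
  hY : ∀ (y : G) (s : ℕ), s.Prime → PE s y → (𝐂[y]).index = m → s = p

namespace St

variable (h : St G p q n m)
include h

omit [Finite G] in
theorem symm : St G q p m n := ⟨h.hy.symm, h.hq, h.hp, h.qm, h.pn, h.hY, h.hX⟩

omit [Finite G] in
theorem dvd : p ∣ n := by
  obtain ⟨a, ha⟩ := h.pn
  exact ha ▸ dvd_pow_self p fun e => h.hy.hn.ne' (by rw [ha, e, pow_zero])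

omit [Finite G] in
theorem not_dvd : ¬ p ∣ m := fun e => h.hp.not_dvd_one (h.hy.cop ▸ Nat.dvd_gcd h.dvd e)

omit [Finite G] in
theorem ne : p ≠ q := fun e => h.not_dvd (e ▸ h.symm.dvd)

omit [Finite G] in
theorem eq_p (hr : r.Prime) (hd : r ∣ n) : r = p := by
  obtain ⟨a, ha⟩ := h.pn
  exact (Nat.prime_dvd_prime_iff_eq hr h.hp).1 (hr.dvd_of_dvd_pow (ha ▸ hd))

theorem hc (r : ℕ) (hr : r.Prime) (e1 : r ≠ p) (e2 : r ≠ q) : ¬ r ∣ (center G).index :=
  h.hy.central hr (fun e => e1 (h.eq_p hr e)) fun e => e2 (h.symm.eq_p hr e)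

omit [Finite G] in
theorem idx (hw : PE q w) (h1 : w ∉ center G) : (𝐂[w]).index = n ∨ (𝐂[w]).index = n * m := by
  rcases h.hy.all w with e | e | e | e
  · exact absurd (index_cent1_eq_one.1 e) h1
  · exact Or.inl e
  · exact absurd (h.hY w q h.hq hw e) h.ne.symm
  · exact Or.inr e

theorem cent (hx : (𝐂[x]).index = n) : x ∈ 𝐂(pCore q G) := by
  haveI := Fact.mk h.hq
  obtain ⟨Q, hQ⟩ := exists_sylow_le_of_not_dvd_index (p := q) (H := 𝐂[x]) (hx ▸ h.symm.not_dvd)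
  exact le_cent1_iff.1 (((pCore_isPGroup q G).le_sylow_of_normal Q).trans hQ)

theorem ab (h1 : PE q x) (hx : (𝐂[x]).index = n) (A : Subgroup 𝐂[x]) (hA : IsPGroup p A) :
    A ≤ 𝐂(A) := by
  haveI := Fact.mk h.hp
  obtain ⟨b, hb⟩ := h.qm
  obtain ⟨H, hH, -, k, hk⟩ := (Cfsg.Agent.S4034.result (G := 𝐂[x]) h.hq).1 fun u hu => by
    rw [ncard_carrier_eq_index]
    rcases h.hy.sub hx h1 u hu with e | e
    exacts [⟨0, e⟩, ⟨b, e.trans hb⟩]
  obtain ⟨g, hg⟩ := exists_conj_le_of_not_dvd_index (p := p) (T := H) (fun e => h.ne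
    ((Nat.prime_dvd_prime_iff_eq h.hp h.hq).1 (h.hp.dvd_of_dvd_pow (hk ▸ e)))) hA
  exact abelian_cent ((abelian_conj g).1 (abelian_of_le hH hg))

theorem ex_comm (h1 : PE q x) (hx : (𝐂[x]).index = n) :
    ∃ y ∈ 𝐂[x], PE p y ∧ (𝐂[y]).index = m := by
  haveI := Fact.mk h.hp
  obtain ⟨u, hu, r, hr, a, b, c⟩ := h.hy.ex_u (fun y s hs h1 h2 => h.hY y s hs h1 h2 ▸ h.dvd) hx
  obtain rfl : r = p := by
    by_contra e
    exact b (mem_center_of_not_dvd hr (h.hc r hr e fun e => c (e ▸ h.symm.dvd)) a)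
  rcases h.symm.idx a b with e | e
  · exact ⟨u, hu, a, e⟩
  obtain ⟨y, s, hs, hy, hi⟩ := h.hy.symm.exists_pe
  obtain rfl := h.hY y s hs hy hi
  obtain ⟨k, hk⟩ := id a
  obtain ⟨g, hg⟩ := exists_conj_mem_of_not_dvd_index (H := 𝐂[y]) (hi ▸ h.not_dvd) hk
  refine ⟨g⁻¹ * y * g⁻¹⁻¹, h.hy.symm.le_of_nm e (mem_cent1_symm hu) (cop hs h.hq h.ne a h1) ?_,
    hy.conj _, (idx_conj _ _).trans hi⟩
  refine mem_cent1_symm ?_
  rw [← conj_cent1, mem_conj]
  simpa using hg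

theorem mem_U (h1 : PE q x) (hx : (𝐂[x]).index = n) (hxV : x ∈ pCore q G) (hy : y ∈ pCore p G)
    (hy' : y ∉ center G) (hu : u ∈ 𝐂[x]) (h2 : PE p u) : u ∈ pCore p G := by
  haveI := Fact.mk h.hp
  haveI := Fact.mk h.hq
  have hUV : pCore p G ≤ 𝐂(pCore q G) := cent_of_norm_of_disjoint le_normalizer_of_normal
    le_normalizer_of_normal (disjoint_iff.1 (IsPGroup.disjoint_of_ne p q h.ne _ _
      (pCore_isPGroup p G) (pCore_isPGroup q G)))
  have hU : pCore p G ≤ 𝐂[x] := hUV.trans (cent_le_cent1 hxV)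
  have hV : pCore q G ≤ 𝐂[x] := le_cent1_iff.2 (h.cent hx)
  have hU' : (pCore p G).subgroupOf 𝐂[x] ≤ pCore p 𝐂[x] :=
    le_pCore inferInstance ((pCore_isPGroup p G).comap_subtype)
  have hV' : (pCore q G).subgroupOf 𝐂[x] ≤ pCore q 𝐂[x] :=
    le_pCore inferInstance ((pCore_isPGroup q G).comap_subtype)
  have hi : ∀ u : 𝐂[x], PE p u → (𝐂[u]).index = 1 ∨ (𝐂[u]).index = m :=
    fun u hu => h.hy.sub hx h1 u (hu.coprime h.hp h.hq h.ne)
  have hyp : PE p y := PE.of_pgroup (pCore_isPGroup p G) hy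
  obtain ⟨k, hk⟩ := id h2
  have hu' := keyK (G := 𝐂[x]) (y := ⟨y, hU hy⟩) (u := ⟨u, hu⟩) h.hp h.hq h.ne
    (fun r hr e1 e2 hd => h.hc r hr e1 e2 ((hd.trans (index_dvd_of_le (H := (center G).subgroupOf _)
      fun c hc => mem_center_iff.2 fun g => Subtype.ext (mem_center_iff.1 hc g))).trans
      (relIndex_dvd_index_of_normal _ _)))
    (h.ab h1 hx) hi (hU' hy) ((hi _ (PE.of_pgroup (pCore_isPGroup p _) (hU' hy))).resolve_left
      fun e => ?_) ⟨k, Subtype.ext hk⟩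
  · refine mem_pCore h.hp (fun r hr a b => h.hc r hr b a) h2 (mem_cent.2 fun w hw => ?_)
      (mem_cent.2 fun w hw => ?_)
    · have h3 : pCore p 𝐂[x] ≤ 𝐂(pCore q 𝐂[x]) := cent_of_norm_of_disjoint le_normalizer_of_normal
        le_normalizer_of_normal (disjoint_iff.1 (IsPGroup.disjoint_of_ne p q h.ne _ _
          (pCore_isPGroup p _) (pCore_isPGroup q _)))
      exact congrArg Subtype.val (mem_cent.1 (h3 hu') ⟨w, hV hw⟩ (hV' hw))
    · exact congrArg Subtype.val (mem_cent.1 (h.ab h1 hx _ (pCore_isPGroup p _) hu')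
        ⟨w, hU hw⟩ (hU' hw))
  · rw [index_cent1_subtype, relIndex_eq_one] at e
    exact h.ne (h.hX y p h.hp hyp ((h.hy.of_dvd (hx ▸ index_dvd_of_le e)).resolve_left
      fun e => hy' (index_cent1_eq_one.1 e)))

end St

end Cfsg.Lib.FGS.F4
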