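import Cfsg.Agent.Lib.FGS.Four2
import Cfsg.Agent.Lib.FGS.Basic

/-!
# Class sizes `1, n, m, nm` with `n, m` coprime: conclusion
-/

set_option autoImplicit false

namespace Cfsg.Lib.FGS.F4

open Subgroup Cfsg.Lib Cfsg.Lib.BG Cfsg.Lib.Transfer Cfsg.Lib.Core Cfsg.Lib.FGS.TR
open scoped commutatorElement Pointwise

variable {G : Type*} [Group G] [Finite G] {p q r s n m k : ℕ} {x y u v w g z : G}
  {K L : Subgroup G}

namespace St

variable (h : St G p q n m)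
include h

omit [Finite G] in
theorem cores : pCore p G ≤ 𝐂(pCore q G) := by
  have := Fact.mk h.hp
  have := Fact.mk h.hq
  exact cent_of_norm_of_disjoint le_normalizer_of_normal
    le_normalizer_of_normal (disjoint_iff.1 (IsPGroup.disjoint_of_ne p q h.ne _ _
      (pCore_isPGroup p G) (pCore_isPGroup q G)))

theorem le_rel (hx : (𝐂[x]).index = n) (hxV : x ∈ pCore q G) :
    n ≤ (center G).relIndex (pCore q G) := by
  have := Fact.mk h.hp
  obtain ⟨P⟩ : Nonempty (Sylow p G) := inferInstance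
  obtain ⟨a, ha⟩ := h.pn
  obtain ⟨b, hb⟩ := PE.of_pgroup (pCore_isPGroup q G) hxV
  have h1 : (𝐂[x]).relIndex P = n := by
    rw [relIndex_eq_index_of_coprime (by
      rw [hx, ha]
      exact ((h.hp.coprime_iff_not_dvd.2 P.not_dvd_index).pow_left a)), hx]
  have h2 := relIndex_centralizer_le_card (H := (P : Subgroup G).map (QuotientGroup.mk' (center G)))
    (N := (pCore q G).map (QuotientGroup.mk' (center G))) (a := QuotientGroup.mk' (center G) x) (by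
      rintro _ ⟨g, -, rfl⟩
      rw [← map_commutatorElement]
      exact mem_map_of_mem _ (mul_mem (Normal.conj_mem inferInstance x hxV g) (inv_mem hxV)))
  rw [← relIndex_comap, ← relIndex_ker, QuotientGroup.ker_mk'] at h2
  refine le_trans (le_of_eq ?_) h2
  rw [← h1, ← inf_relIndex_right 𝐂[x], ← inf_relIndex_right (comap _ _)]
  congr 1
  refine le_antisymm (fun g hg => ⟨?_, hg.2⟩) fun g hg => ⟨?_, hg.2⟩
  · obtain ⟨c, hc⟩ := PE.of_pgroup P.isPGroup' hg.2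
    refine mem_cent1_of_comm (a := p ^ c) ?_ (hc ▸ one_mem _) hb
      (Nat.Coprime.pow _ _ ((Nat.coprime_primes h.hp h.hq).2 h.ne))
    rw [← QuotientGroup.eq_one_iff, ← QuotientGroup.mk'_apply, map_commutatorElement,
      commutatorElement_eq_one_iff_mul_comm]
    exact mem_cent1.1 hg.1
  · exact mem_cent1.2 (by rw [← map_mul, mem_cent1.1 hg.1, map_mul])

theorem rel_dvd (hx : (𝐂[x]).index = n) (hxV : x ∈ pCore q G) (hy : y ∈ pCore p G)
    (hy' : y ∉ center G) : (center G).relIndex (pCore q G) ∣ m := by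
  have := Fact.mk h.hp
  have := Fact.mk h.hq
  have h1 := PE.of_pgroup (pCore_isPGroup q G) hxV
  have hU : ∀ w ∈ pCore q G, pCore p G ≤ 𝐂[w] := fun w hw => h.cores.trans (cent_le_cent1 hw)
  have h2 : ¬ p ∣ (pCore p G).relIndex 𝐂[x] := fun e => by
    obtain ⟨w, a, b, c⟩ := ex_pe h.hp e
    exact c (h.mem_U h1 hx hxV hy hy' a b)
  have h3 : ∀ w ∈ pCore q G, w ∉ center G → ∀ s ∈ 𝐂[w], PE p s → s ∈ pCore p G := by
    intro w hw hw' s hs hs'
    obtain ⟨c, hc⟩ : n ∣ (𝐂[w]).index := by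
      rcases h.idx (PE.of_pgroup (pCore_isPGroup q G) hw) hw' with e | e <;> rw [e]
      exact dvd_mul_right n m
    have e : (pCore p G).relIndex 𝐂[w] * c = (pCore p G).relIndex 𝐂[x] :=
      Nat.eq_of_mul_eq_mul_right (h.hy.hn.trans' one_pos) (by
        rw [mul_assoc, mul_comm c, ← hc, relIndex_mul_index (hU w hw), ← hx,
          relIndex_mul_index (hU x hxV)])
    have := eq_of_not_dvd_relIndex_of_le (p := p) (T := pCore p G) (Q := pCore p G ⊔ zpowers s)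
      (H := 𝐂[w]) (fun e' => h2 (e ▸ e'.mul_right c))
      (pgroup_sup (pCore_isPGroup p G) hs'.pgroup le_normalizer_of_normal)
      (sup_le (hU w hw) (zpowers_le_of_mem hs)) le_sup_left
    exact this ▸ mem_sup_right (mem_zpowers s)
  obtain ⟨s, -, hs, hsU⟩ := ex_pe (K := pCore p G) (L := ⊤) h.hp (by
    rw [relIndex_top_right]
    exact (hx ▸ h.dvd).trans (index_dvd_of_le (hU x hxV)))
  obtain ⟨T, -, t1, t2, t3⟩ := exists_sylowIn_ge (p := q) (Q := ⊥) (H := 𝐂[s])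
    IsPGroup.of_bot bot_le
  have h4 : T ⊓ pCore q G ≤ center G := fun w hw => by
    by_contra e
    exact hsU (h3 w hw.2 e s (mem_cent1_symm (t1 hw.1)) hs)
  have h5 : (center G).relIndex (pCore q G) ∣ T.relIndex 𝐂[s] * (n * m) := by
    refine ((relIndex_dvd_of_le_left _ h4).trans ?_).trans (Nat.mul_dvd_mul_left _ (h.hy.dvd s))
    rw [inf_relIndex_right, relIndex_mul_index t1]
    exact relIndex_dvd_index_of_normal' _ _
  obtain ⟨j, hj⟩ := (pCore_isPGroup q G).exists_card_eq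
  obtain ⟨i, -, hi⟩ := (Nat.dvd_prime_pow h.hq).1 (hj ▸ BG.relIndex_dvd_card (center G) (pCore q G))
  rw [hi] at h5 ⊢
  exact ((h.hq.coprime_iff_not_dvd.2 h.symm.not_dvd).pow_left i).dvd_of_dvd_mul_left
    (((h.hq.coprime_iff_not_dvd.2 t3).pow_left i).dvd_of_dvd_mul_left h5)

theorem caseA (hx : (𝐂[x]).index = n) (hxV : x ∈ pCore q G) (hy : (𝐂[y]).index = m)
    (hyU : y ∈ pCore p G) : False := by
  have h1 := (h.le_rel hx hxV).trans (Nat.le_of_dvd (h.hy.hm.trans' one_pos)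
    (h.rel_dvd hx hxV hyU (h.hy.symm.nc hy)))
  have h2 := (h.symm.le_rel hy hyU).trans (Nat.le_of_dvd (h.hy.hn.trans' one_pos)
    (h.symm.rel_dvd hy hyU hxV (h.hy.nc hx)))
  exact h.hy.not_dvd (le_antisymm h1 h2 ▸ dvd_rfl)

theorem ex_conj (hx : (𝐂[x]).index = n) (hxV : x ∈ pCore q G) (hy : (𝐂[y]).index = m)
    (h1 : PE p y) (hyx : y ∈ 𝐂[x]) (hz : z ∈ pCore q G) (hi : (𝐂[z]).index = n * m) :
    ∃ v ∈ pCore q G, v * y * v⁻¹ ∈ 𝐂[z] := by
  have := Fact.mk h.hp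
  have := Fact.mk h.hq
  set V := pCore q G
  have hV : V ≤ 𝐂[x] := le_cent1_iff.2 (h.cent hx)
  obtain ⟨A, -, a1, a2, a3⟩ := exists_sylowIn_ge (p := p) (Q := ⊥) (H := 𝐂[z])
    IsPGroup.of_bot bot_le
  have a4 : A ≤ 𝐂[x] := fun a ha => mem_cent1_symm (h.hy.le_of_nm hi (a1 ha)
    (cop h.hq h.hp h.ne.symm (PE.of_pgroup (pCore_isPGroup q G) hz) (PE.of_pgroup a2 ha))
    (mem_cent1_symm (hV hz)))
  have a5 : ¬ p ∣ A.relIndex 𝐂[x] := by
    have e : A.relIndex 𝐂[x] = A.relIndex 𝐂[z] * m :=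
      Nat.eq_of_mul_eq_mul_right (h.hy.hn.trans' one_pos) (by
        rw [mul_assoc, mul_comm m, ← hi, relIndex_mul_index a1, ← hx, relIndex_mul_index a4])
    rw [e]
    exact fun e' => (h.hp.dvd_mul.1 e').elim a3 h.not_dvd
  set E := (pCore p (G ⧸ V)).comap (QuotientGroup.mk' V)
  have hyE : y ∈ E := by
    refine mem_pCore (p := q) h.hp (fun r hr e1 e2 hd => h.hc r hr e2 e1 ?_) (h1.map _) ?_ ?_
    · refine (hd.trans (index_dvd_of_le (H := (center G).map (QuotientGroup.mk' V)) ?_)).trans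
        (index_map_dvd _ (QuotientGroup.mk'_surjective V))
      rintro _ ⟨c, hc, rfl⟩
      refine mem_center_iff.2 fun g => ?_
      obtain ⟨g, rfl⟩ := QuotientGroup.mk'_surjective V g
      rw [← map_mul, mem_center_iff.1 hc, map_mul]
    · rw [pCore_quotient_pCore, cent_bot]
      exact mem_top _
    · obtain ⟨P, hP⟩ := exists_sylow_le_of_not_dvd_index (p := p) (H := 𝐂[y]) (hy ▸ h.not_dvd)
      refine cent_anti ((pCore_isPGroup p _).le_sylow_of_normal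
        (P.mapSurjective (QuotientGroup.mk'_surjective V))) (mem_cent.2 ?_)
      rintro _ ⟨c, hc, rfl⟩
      rw [← map_mul, mem_cent1.1 (hP hc), map_mul]
  have a6 : ¬ p ∣ A.relIndex (E ⊓ 𝐂[x]) := not_dvd_relIndex_of_le_normalizer a5 inf_le_right
    (norm_inf le_normalizer_of_normal (le_norm _))
  obtain ⟨c, hc, hc'⟩ := exists_conj_le_of_not_dvd_relIndex' (Q := zpowers y) a6 h1.pgroup
    (zpowers_le_of_mem ⟨hyE, hyx⟩)
  obtain ⟨j, hj⟩ : ∃ j, V.relIndex (E ⊓ 𝐂[x]) = p ^ j := rel_pow fun r hr e w hw hw' => by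
    by_contra e'
    have := (hw'.map (QuotientGroup.mk' V)).coprime'
      ((PE.of_pgroup (pCore_isPGroup p _) hw.1).coprime h.hp hr (Ne.symm e))
    rw [Nat.coprime_self, orderOf_eq_one_iff, QuotientGroup.mk'_apply,
      QuotientGroup.eq_one_iff] at this
    exact e' this
  obtain ⟨a, ha, v, hv, rfl⟩ := Coprime.exists_mul_of_coprime_relIndex (H := A ⊓ (E ⊓ 𝐂[x]))
    (K := V) inf_le_right (by
      rw [inf_relIndex_right, hj]
      exact ((h.hp.coprime_iff_not_dvd.2 a6).symm).pow_right j) hc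
  refine ⟨v, hv, a1 ?_⟩
  have ha1 : a ∈ A := ha.1
  have := mul_mem (mul_mem (inv_mem ha1) (conj_le_iff.1 hc' y (mem_zpowers y))) ha1
  convert this using 1
  group

theorem caseB (hx : (𝐂[x]).index = n) (hxV : x ∈ pCore q G) (hy : (𝐂[y]).index = m)
    (h1 : PE p y) (hyx : y ∈ 𝐂[x]) (hyV : y ∉ 𝐂(pCore q G)) : False := by
  have := Fact.mk h.hp
  have := Fact.mk h.hq
  set V := pCore q G
  have hVq : IsPGroup q V := pCore_isPGroup q G
  have hV : V ≤ 𝐂[x] := le_cent1_iff.2 (h.cent hx)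
  set M := ⁅V, zpowers y⁆
  have hMV : M ≤ V := comm_le_left le_normalizer_of_normal
  have hM0 : M ≠ ⊥ := fun e => hyV (comm_eq_bot_iff'.1 e (mem_zpowers y))
  have hcop : (Nat.card (zpowers y)).Coprime (Nat.card V) :=
    IsPGroup.coprime_card_of_ne p q h.ne _ _ h1.pgroup hVq
  have hC : M ⊓ 𝐂[y] ≤ ⁅M, V⁆ := by
    rw [← cent_zpowers]
    exact (Coprime.inf_centralizer_le_commutator_of_commutator_eq (right_norm_comm _ _)
      (coprime_mono hcop le_rfl hMV)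
      (Coprime.commutator_commutator_eq' le_normalizer_of_normal hcop)).trans
      (commutator_mono le_rfl hMV)
  have hlt : ⁅M, V⁆ < M := PGroup.commutator_lt (hVq.to_le hMV) hVq (left_norm_comm _ _) hM0
  have key : ∀ w ∈ M, w ∉ ⁅M, V⁆ → y ∉ 𝐂[x * w] ∧ (𝐂[x * w]).index = n := by
    intro w hw hw'
    have k1 : ∀ v ∈ V, v * y * v⁻¹ ∉ 𝐂[x * w] := by
      intro v hv e
      have e1 : v * y * v⁻¹ ∈ 𝐂[x] := mul_mem (mul_mem (hV hv) hyx) (inv_mem (hV hv))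
      have e2 : w ∈ 𝐂[v * y * v⁻¹] := by
        simpa using mul_mem (inv_mem (mem_cent1_symm e1)) (mem_cent1_symm e)
      rw [← conj_cent1, mem_conj] at e2
      have e3 := hC ⟨conj_mem_of_norm' (left_norm_comm _ _ hv) hw, e2⟩
      have e4 := comm_mem_comm hw (inv_mem hv)
      refine hw' ?_
      convert mul_mem e4 e3 using 1
      group
    have k2 : y ∉ 𝐂[x * w] := by simpa using k1 1 (one_mem _)
    have hz : x * w ∈ V := mul_mem hxV (hMV hw)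
    refine ⟨k2, (h.idx (PE.of_pgroup hVq hz) fun e => k2 (mem_cent1_symm
      (center_le_cent1 y e))).resolve_right fun e => ?_⟩
    obtain ⟨v, hv, e'⟩ := h.ex_conj hx hxV hy h1 hyx hz e
    exact k1 v hv e'
  have k3 : ∀ w ∈ M, w ∉ ⁅M, V⁆ → w ∈ 𝐂(V) := fun w hw hw' => by
    simpa using mul_mem (inv_mem (h.cent hx)) (h.cent (key w hw hw').2)
  obtain ⟨w, hw, hw'⟩ := SetLike.exists_of_lt hlt
  have k4 : ⁅M, V⁆ = ⊥ := comm_eq_bot_iff.2 fun a ha => by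
    by_cases e : a ∈ ⁅M, V⁆
    · simpa using mul_mem (k3 (a * w) (mul_mem ha hw) fun e' => hw' (by
        simpa using mul_mem (inv_mem e) e')) (inv_mem (k3 w hw hw'))
    · exact k3 a ha e
  obtain ⟨k5, k6⟩ := key w hw hw'
  have hle : 𝐂[x * w] ⊓ 𝐂[y] ≤ 𝐂[x] ⊓ 𝐂[y] := fun c ⟨hc1', hc2'⟩ => ⟨by
    have hc1 : c ∈ 𝐂[x * w] := hc1'
    have hc2 : c ∈ 𝐂[y] := hc2'
    have hn : c ∈ 𝐍(M) := norm_comm (A := 𝐂[y]) le_normalizer_of_normal
      (norm_of_cent (cent_zpowers y).ge) hc2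
    have e := mem_cent1.1 hc1
    have e1 : x⁻¹ * (c * x * c⁻¹) = w * (c * w * c⁻¹)⁻¹ := by
      calc x⁻¹ * (c * x * c⁻¹) = x⁻¹ * (c * (x * w)) * w⁻¹ * c⁻¹ := by group
        _ = _ := by rw [e]; group
    have e2 : x⁻¹ * (c * x * c⁻¹) ∈ M ⊓ 𝐂[y] :=
      mem_inf.2 ⟨e1 ▸ mul_mem hw (inv_mem (conj_mem_of_norm hn hw)),
        mul_mem (inv_mem (mem_cent1_symm hyx))
        (mul_mem (mul_mem hc2 (mem_cent1_symm hyx)) (inv_mem hc2))⟩
    have e3 := hC e2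
    rw [k4, mem_bot, inv_mul_eq_one, eq_mul_inv_iff_mul_eq] at e3
    exact mem_cent1.2 e3.symm, hc2'⟩
  have hi : (𝐂[x * w] ⊓ 𝐂[y]).index = (𝐂[x] ⊓ 𝐂[y]).index := by
    rw [FGS.index_inf_of_coprime (by rw [k6, hy]; exact h.hy.cop),
      FGS.index_inf_of_coprime (by rw [hx, hy]; exact h.hy.cop), k6, hx]
  have heq := eq_of_le_of_card_le hle (Nat.le_of_mul_le_mul_right
    (by rw [card_mul_index, ← hi, card_mul_index])
    (Nat.pos_of_ne_zero (index_ne_zero_of_finite (H := 𝐂[x] ⊓ 𝐂[y]))))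
  exact k5 (heq.ge ⟨hyx, self_mem_cent1 y⟩).1

theorem ex_core (hx : x ∈ 𝐂(pCore q G)) (hxU : x ∉ 𝐂(pCore p G)) (hyV : y ∉ 𝐂(pCore q G)) :
    ∃ w ∈ pCore q G, (𝐂[w]).index = n := by
  obtain ⟨w, hw, hw'⟩ := SetLike.not_le_iff_exists.1 fun e => hyV (le_cent1_iff.1 e)
  have h1 := PE.of_pgroup (pCore_isPGroup q G) hw
  refine ⟨w, hw, (h.idx h1 fun e => hw' (center_le_cent1 y e)).resolve_right fun e => hxU ?_⟩
  exact le_cent1_iff.1 fun u hu => mem_cent1_symm (h.hy.le_of_nm e (cent_le_cent1 hw (h.cores hu))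
    (cop h.hq h.hp h.ne.symm h1 (PE.of_pgroup (pCore_isPGroup p G) hu)) (cent_le_cent1 hw hx))

theorem false : False := by
  obtain ⟨x, s, hs, h1, hx⟩ := h.hy.exists_pe
  obtain rfl := h.hX x s hs h1 hx
  obtain ⟨y, hyx, h2, hy⟩ := h.ex_comm h1 hx
  by_cases e1 : x ∈ 𝐂(pCore p G) <;> by_cases e2 : y ∈ 𝐂(pCore s G)
  · exact h.caseA hx (mem_pCore hs h.hc h1 e1 (h.cent hx)) hy
      (mem_pCore h.hp h.symm.hc h2 e2 (h.symm.cent hy))
  · exact h.caseB hx (mem_pCore hs h.hc h1 e1 (h.cent hx)) hy h2 hyx e2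
  · exact h.symm.caseB hy (mem_pCore h.hp h.symm.hc h2 e2 (h.symm.cent hy)) hx h1
      (mem_cent1_symm hyx) e1
  · obtain ⟨w, hw, hw'⟩ := h.ex_core (h.cent hx) e1 e2
    obtain ⟨v, hv, hv'⟩ := h.symm.ex_core (h.symm.cent hy) e2 e1
    exact h.caseA hw' hw hv' hv

end St

theorem Hy.main (h : Hy G n m) : Group.IsNilpotent G ∧ IsPrimePow n ∧ IsPrimePow m := by
  have pp : ∀ {n p a : ℕ}, 1 < n → p.Prime → n = p ^ a → IsPrimePow n := fun hn hp e =>
    ⟨_, _, hp.prime, Nat.pos_of_ne_zero fun e' => hn.ne' (by rw [e, e', pow_zero]), e.symm⟩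
  by_cases hX : ∀ (x : G) (s : ℕ), s.Prime → PE s x → (𝐂[x]).index = n → s ∣ m
  swap
  · push Not at hX
    obtain ⟨x, s, hs, h1, hx, h2⟩ := hX
    obtain ⟨a, ⟨b, hb⟩, q, c, hq, hc⟩ := h.case1 hs hx h1 h2
    exact ⟨a, pp h.hn hs hb, pp h.hm hq hc⟩
  by_cases hY : ∀ (y : G) (s : ℕ), s.Prime → PE s y → (𝐂[y]).index = m → s ∣ n
  swap
  · push Not at hY
    obtain ⟨x, s, hs, h1, hx, h2⟩ := hY
    obtain ⟨a, ⟨b, hb⟩, q, c, hq, hc⟩ := h.symm.case1 hs hx h1 h2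
    exact ⟨a, pp h.hn hq hc, pp h.hm hs hb⟩
  exfalso
  obtain ⟨x, q, hq, h1, hx⟩ := h.exists_pe
  obtain ⟨y, p, hp, h2, hy⟩ := h.symm.exists_pe
  obtain ⟨b, hb⟩ := h.pow hX hY hq h1 hx
  obtain ⟨a, ha⟩ := h.symm.pow hY hX hp h2 hy
  exact St.false (p := p) (q := q) ⟨h, hp, hq, ⟨a, ha⟩, ⟨b, hb⟩, fun x s hs e1 e2 =>
    (Nat.prime_dvd_prime_iff_eq hs hq).1 (hs.dvd_of_dvd_pow (hb ▸ hX x s hs e1 e2)),
    fun x s hs e1 e2 =>
    (Nat.prime_dvd_prime_iff_eq hs hp).1 (hs.dvd_of_dvd_pow (ha ▸ hY x s hs e1 e2))⟩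

end Cfsg.Lib.FGS.F4
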