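import Cfsg.Agent.Lib.FGS.Classes
import Cfsg.Agent.Lib.FGS.Sylow
import Cfsg.Agent.Lib.Transfer.Criteria
import Cfsg.Agent.Lib.Transfer.Fusion

/-!
# Groups with many classes of `p`-elements
-/

set_option autoImplicit false

namespace Cfsg.Lib.FGS

open Subgroup Finset Cfsg.Lib.BG Cfsg.Lib.Transfer
open scoped Classical commutatorElement

variable {G : Type*} [Group G] {p : ℕ}

/-- The number of classes of `p`-elements. -/
noncomputable def kp (p : ℕ) (G : Type*) [Group G] : ℕ := kQ (PiElt {p} : G → Prop)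

theorem kQ_piElt' (π : Set ℕ) : kQ (PiElt π : G → Prop) = Nat.card {c : ConjClasses G //
    ∀ x ∈ c.carrier, ∀ r : ℕ, r.Prime → r ∣ orderOf x → r ∈ π} := by
  rw [kQ_eq_of_forall fun x g h => h.conj g]
  refine Nat.card_congr (Equiv.subtypeEquivRight fun C => ?_)
  simp only [ConjClasses.mem_carrier_iff_mk_eq]
  rfl

theorem kp_eq [Finite G] [Fact p.Prime] :
    kp p G = Nat.card {c : ConjClasses G // ∀ x ∈ c.carrier, ∃ k : ℕ, orderOf x = p ^ k} := by
  rw [kp, kQ_eq_of_forall fun x g h => h.conj g]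
  refine Nat.card_congr (Equiv.subtypeEquivRight fun C => ?_)
  simp only [ConjClasses.mem_carrier_iff_mk_eq]
  exact forall₂_congr fun x _ => PiNat.p_iff (orderOf_pos x).ne'

theorem exists_isConj_mem_sylow [Finite G] [Fact p.Prime] (P : Sylow p G) {x : G} (hx : PiElt {p} x) :
    ∃ y ∈ (P : Subgroup G), IsConj x y := by
  obtain ⟨Q, hQ⟩ := (PiGrp.pgroup (PiElt.zpowers hx)).exists_le_sylow
  obtain ⟨g, hg⟩ := exists_conj_sylow_eq Q P
  refine ⟨g * x * g⁻¹, ?_, isConj_iff.2 ⟨g, rfl⟩⟩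
  rw [← hg]
  exact Transfer.conj_mem_conj.2 (hQ (mem_zpowers x))

theorem kQ_le_image [Finite G] {Q : G → Prop} {S : Finset G} (h : ∀ x, Q x → ∃ y ∈ S, IsConj x y) :
    kQ Q ≤ #(S.image ConjClasses.mk) := by
  unfold kQ
  rw [← Nat.card_eq_finsetCard]
  refine Nat.card_le_card_of_injective (fun C => ⟨C.1, ?_⟩) fun a b hab => Subtype.ext ?_
  · obtain ⟨_, g, rfl, hg⟩ := C
    obtain ⟨y, hy, hc⟩ := h g hg
    exact mem_image.2 ⟨y, hy, ConjClasses.mk_eq_mk_iff_isConj.2 hc.symm⟩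
  · exact congrArg (fun z => z.1) hab

theorem kp_le_image [Finite G] [Fact p.Prime] (P : Sylow p G) {S : Finset G}
    (h : ∀ x ∈ (P : Subgroup G), ∃ y ∈ S, IsConj x y) : kp p G ≤ #(S.image ConjClasses.mk) :=
  kQ_le_image fun x hx => by
    obtain ⟨y, hy, h1⟩ := exists_isConj_mem_sylow P hx
    obtain ⟨z, hz, h2⟩ := h y hy
    exact ⟨z, hz, h1.trans h2⟩

theorem mul_image_le {S : Finset G} {N : Subgroup G} {m : ℕ}
    (hS : ∀ x ∈ S, ∀ g ∈ N, g * x * g⁻¹ ∈ S) (h : ∀ x ∈ S, m ≤ (𝐂[x]).relIndex N) :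
    m * #(S.image ConjClasses.mk) ≤ #S := by
  refine mul_card_image_le_card _ _ fun C hC => ?_
  obtain ⟨x, hx, rfl⟩ := mem_image.1 hC
  refine (h x hx).trans ?_
  rw [← ncard_hcl, ← Set.ncard_coe_finset]
  refine Set.ncard_le_ncard ?_ (Finset.finite_toSet _)
  rintro _ ⟨g, hg, rfl⟩
  simp only [coe_filter, Set.mem_setOf_eq]
  exact ⟨hS x hx g hg, ConjClasses.mk_eq_mk_iff_isConj.2 (isConj_iff.2 ⟨g, rfl⟩).symm⟩

/-- The elements of a subgroup. -/
noncomputable def elts [Finite G] (H : Subgroup G) : Finset G := (Set.toFinite (H : Set G)).toFinset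

@[simp] theorem mem_elts [Finite G] {H : Subgroup G} {x : G} : x ∈ elts H ↔ x ∈ H := by simp [elts]

theorem card_elts [Finite G] (H : Subgroup G) : #(elts H) = Nat.card H := by
  rw [elts, ← Set.ncard_eq_toFinset_card, ← Nat.card_coe_set_eq]; rfl

theorem card_sdiff_elts [Finite G] {H K : Subgroup G} (h : H ≤ K) :
    #(elts K \ elts H) + Nat.card H = Nat.card K := by
  rw [← card_elts, ← card_elts, card_sdiff_add_card_eq_card]
  intro x hx
  exact mem_elts.2 (h (mem_elts.1 hx))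

theorem mul_image_sdiff_le [Finite G] {A B N : Subgroup G} {m : ℕ} (hAB : A ≤ B) (hA : N ≤ 𝐍(A))
    (hB : N ≤ 𝐍(B)) (h : ∀ x ∈ B, x ∉ A → m ≤ (𝐂[x]).relIndex N) :
    m * #((elts B \ elts A).image ConjClasses.mk) + Nat.card A ≤ Nat.card B := by
  rw [← card_sdiff_elts hAB]
  refine Nat.add_le_add_right (mul_image_le (N := N) (fun x hx g hg => ?_) fun x hx => ?_) _
  · simp only [mem_sdiff, mem_elts] at hx ⊢
    exact ⟨(mem_normalizer_iff.1 (hB hg) x).1 hx.1, fun h => hx.2 ((mem_normalizer_iff.1 (hA hg) x).2 h)⟩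
  · simp only [mem_sdiff, mem_elts] at hx
    exact h x hx.1 hx.2

theorem image_elts_le [Finite G] (A : Subgroup G) : #((elts A).image ConjClasses.mk) ≤ Nat.card A :=
  card_image_le.trans (card_elts A).le

theorem two_le_relIndex [Finite G] {H N : Subgroup G} (h : ¬ N ≤ H) : 2 ≤ H.relIndex N := by
  have h0 : H.relIndex N ≠ 0 := FiniteIndex.index_ne_zero
  have h1 : H.relIndex N ≠ 1 := fun e => h (relIndex_eq_one.1 e)
  omega

theorem three_le_relIndex [Finite G] {H N : Subgroup G} (h : ¬ N ≤ H) (ho : Odd (Nat.card N)) :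
    3 ≤ H.relIndex N := by
  have h1 := two_le_relIndex h
  obtain ⟨k, hk⟩ := ho.of_dvd_nat (BG.relIndex_dvd_card H N)
  omega

theorem kp_le_of_norm [Finite G] [Fact p.Prime] (P : Sylow p G) {N : Subgroup G} (hN : N ≤ 𝐍(P))
    {m : ℕ} (h : ∀ x ∈ (P : Subgroup G), ¬ N ≤ 𝐂[x] → m ≤ (𝐂[x]).relIndex N) :
    m * kp p G + Nat.card ↥((P : Subgroup G) ⊓ 𝐂(N)) ≤
      m * Nat.card ↥((P : Subgroup G) ⊓ 𝐂(N)) + Nat.card (P : Subgroup G) := by
  set A := (P : Subgroup G) ⊓ 𝐂(N) with hA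
  have h1 := kp_le_image P (S := elts A ∪ (elts P \ elts A)) fun x hx =>
    ⟨x, by by_cases h : x ∈ A <;> simp [h, hx], IsConj.refl x⟩
  rw [image_union] at h1
  have h2 := h1.trans (card_union_le _ _)
  have h3 := image_elts_le A
  have h4 := mul_image_sdiff_le (A := A) (B := P) (N := N) (m := m) inf_le_left
    (norm_inf hN (norm_cent (le_norm N)))
    hN fun x hx hxA => h x hx fun hc => hxA ⟨hx, le_cent1_iff.1 hc⟩
  have := Nat.mul_le_mul_left m (h2.trans (Nat.add_le_add_right h3 _))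
  rw [mul_add] at this
  omega

theorem mul_card_le_of_lt [Finite G] [hp : Fact p.Prime] {A P : Subgroup G} (hP : IsPGroup p P) (h : A ≤ P)
    (hne : ¬ P ≤ A) : p * Nat.card A ≤ Nat.card P := by
  rw [← BG.card_mul_relIndex h, mul_comm]
  refine Nat.mul_le_mul_left _ ?_
  obtain ⟨k, hk⟩ := hP.index (A.subgroupOf P)
  have h1 := two_le_relIndex hne
  change A.relIndex P = _ at hk
  rw [hk] at h1 ⊢
  refine Nat.le_self_pow ?_ p
  rintro rfl
  simp at h1

theorem norm_le_cent_of_kp [Finite G] [hp : Fact p.Prime] (P : Sylow p G)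
    (h : (p + 1) * Nat.card (P : Subgroup G) < 2 * p * kp p G) : 𝐍((P : Subgroup G)) ≤ 𝐂((P : Subgroup G)) := by
  by_contra hne
  have h1 := kp_le_of_norm P le_rfl (m := 2) fun x _ hx => two_le_relIndex hx
  have h2 := mul_card_le_of_lt (A := (P : Subgroup G) ⊓ 𝐂(𝐍((P : Subgroup G)))) P.isPGroup' inf_le_left
    fun hc => hne (le_centralizer_iff.1 (hc.trans inf_le_right))
  nlinarith

theorem le_cent_of_kp_odd [Finite G] [hp : Fact p.Prime] (P : Sylow p G) {N : Subgroup G}
    (hPN : ↑P ≤ N) (hN : N ≤ 𝐍(P)) (ho : Odd (Nat.card N))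
    (h : Nat.card (P : Subgroup G) < 2 * kp p G) : N ≤ 𝐂(P) := by
  by_contra hne
  set A := (P : Subgroup G) ⊓ 𝐂(N) with hA
  have hne' : ¬ (P : Subgroup G) ≤ A := fun hc => hne (le_centralizer_iff.1 (hc.trans inf_le_right))
  have h1 := kp_le_of_norm P hN (m := 3) fun x _ hx => three_le_relIndex hx ho
  have h2 := three_le_relIndex hne' (ho.of_dvd_nat (card_dvd_of_le hPN))
  have h3 : Nat.card A * A.relIndex P = Nat.card P := BG.card_mul_relIndex inf_le_left
  rw [← hA] at h1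
  rcases h2.eq_or_lt with h4 | h4
  · have hp3 : p = 3 := by
      obtain ⟨k, hk⟩ := P.isPGroup'.index (A.subgroupOf P)
      change A.relIndex P = _ at hk
      have : 3 ∣ p ^ k := by rw [← hk, ← h4]
      exact ((Nat.prime_dvd_prime_iff_eq Nat.prime_three hp.out).1 (Nat.prime_three.dvd_of_dvd_pow this)).symm
    subst hp3
    have h7 : (A.subgroupOf P).index = 3 := by rw [← Subgroup.relIndex]; exact h4.symm
    have hc : IsMulCommutative (P : Subgroup G) :=
      isMulCommutative_of_index_center_dvd_prime Nat.prime_three (Z := A.subgroupOf P)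
        (fun x hx => mem_center_iff.2 fun y => by
          have h6 : (x : G) ∈ 𝐂(N) := (mem_inf.1 (mem_subgroupOf.1 hx)).2
          exact Subtype.ext (h6 (y : G) (hPN y.2))) (dvd_of_eq h7)
    have hPC : ↑P ≤ 𝐂((P : Subgroup G)) := le_centralizer_iff_isMulCommutative.2 hc
    have h8 : ∀ x ∈ (P : Subgroup G), ¬ N ≤ 𝐂[x] → 5 ≤ (𝐂[x]).relIndex N := by
      intro x hx hx'
      have e1 := three_le_relIndex hx' ho
      obtain ⟨k, hk⟩ := ho.of_dvd_nat (BG.relIndex_dvd_card (𝐂[x]) N)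
      have e3 : (𝐂[x]).relIndex N ∣ (P : Subgroup G).index :=
        (relIndex_dvd_of_le_left N (hPC.trans (cent_le_cent1 hx))).trans (relIndex_dvd_index_of_le hPN)
      have e2 : ¬ 3 ∣ (𝐂[x]).relIndex N := fun hd => P.not_dvd_index (hd.trans e3)
      generalize (𝐂[x]).relIndex N = c at *
      omega
    have h5 := kp_le_of_norm P hN h8
    rw [← hA] at h5
    rw [← h4] at h3
    omega
  · nlinarith

theorem npc_of_kp [Finite G] [hp : Fact p.Prime] (P : Sylow p G)
    (h : (p + 1) * Nat.card (P : Subgroup G) < 2 * p * kp p G) :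
    HasNormalPComplement p G ∧ IsMulCommutative (P : Subgroup G) := by
  have h1 := norm_le_cent_of_kp P h
  refine ⟨?_, le_centralizer_iff_isMulCommutative.1 ((le_norm _).trans h1)⟩
  rw [← hasNormalPComplement_top_iff]
  exact hasNormalPComplement_subgroup_of_normalizer_le P.isPGroup'
    (by rw [relIndex_top_right]; exact P.not_dvd_index) le_top (inf_le_right.trans h1)

theorem card_classes_le_kp [Finite G] [hp : Fact p.Prime] (P : Sylow p G) (h : HasNormalPComplement p G) :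
    Nat.card (ConjClasses (P : Subgroup G)) ≤ kp p G := by
  obtain ⟨N, hN, hc⟩ := (hasNormalPComplement_iff_sylow P).1 h
  refine Nat.card_le_card_of_injective (fun C => ⟨ConjClasses.map (P : Subgroup G).subtype C, ?_⟩)
    fun a b hab => ?_
  · obtain ⟨x, rfl⟩ := ConjClasses.mk_surjective C
    exact ⟨x, rfl, (PiGrp.of_pgroup (π := {p}) P.isPGroup' rfl).elt x.2⟩
  · obtain ⟨x, rfl⟩ := ConjClasses.mk_surjective a
    obtain ⟨y, rfl⟩ := ConjClasses.mk_surjective b
    have h1 : ConjClasses.mk (x : G) = ConjClasses.mk (y : G) := congrArg Subtype.val hab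
    obtain ⟨g, hg⟩ := isConj_iff.1 (ConjClasses.mk_eq_mk_iff_isConj.1 h1)
    obtain ⟨n, hn, h2⟩ := exists_conj_eq_of_normal_complement hc g
    exact ConjClasses.mk_eq_mk_iff_isConj.2 (isConj_iff.2
      ⟨⟨n, hn⟩, Subtype.ext ((h2 x x.2 (hg ▸ y.2)).trans hg)⟩)

theorem kp_le_kp_of_le [Finite G] [Fact p.Prime] (P : Sylow p G) {H : Subgroup G} (h : ↑P ≤ H) :
    kp p G ≤ kp p H := by
  refine Nat.card_le_card_of_surjective (fun C => ⟨ConjClasses.map H.subtype C.1, ?_⟩) ?_
  · obtain ⟨_, x, rfl, hx⟩ := C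
    exact ⟨x, rfl, piElt_coe.2 hx⟩
  · rintro ⟨_, x, rfl, hx⟩
    obtain ⟨y, hy, hc⟩ := exists_isConj_mem_sylow P hx
    refine ⟨⟨ConjClasses.mk ⟨y, h hy⟩, ⟨y, h hy⟩, rfl,
      piElt_coe.1 ((PiGrp.of_pgroup (π := {p}) P.isPGroup' rfl).elt hy)⟩, Subtype.ext ?_⟩
    exact ConjClasses.mk_eq_mk_iff_isConj.2 hc.symm

theorem weaklyClosed_of_kp [Finite G] [hp : Fact p.Prime] (P : Sylow p G)
    (h : Nat.card (P : Subgroup G) < 2 * kp p G) : IsWeaklyClosed 𝐙((P : Subgroup G)) P := by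
  refine ⟨inf_le_left, fun g hg => ?_⟩
  set Z := 𝐙((P : Subgroup G)) with hZ
  by_contra hne
  set A := Z ⊓ Z.comap (MulAut.conj g).toMonoidHom with hA
  have hne' : ¬ Z ≤ A := fun hc => hne (eq_of_le_of_card_ge
    (map_le_iff_le_comap.2 (hc.trans inf_le_right)) (Transfer.card_conj g Z).ge)
  have h1 := kp_le_image P (S := elts A ∪ (elts P \ elts Z)) fun x hx => by
    by_cases h1 : x ∈ Z
    · by_cases h2 : x ∈ A
      · exact ⟨x, by simp [h2], IsConj.refl x⟩
      · refine ⟨g * x * g⁻¹, ?_, isConj_iff.2 ⟨g, rfl⟩⟩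
        simp only [mem_union, mem_sdiff, mem_elts]
        exact Or.inr ⟨hg (Transfer.conj_mem_conj.2 h1), fun h3 => h2 ⟨h1, h3⟩⟩
    · exact ⟨x, by simp [h1, hx], IsConj.refl x⟩
  rw [image_union] at h1
  have h2 := h1.trans (card_union_le _ _)
  have h3 := image_elts_le A
  have h4 := mul_image_sdiff_le (A := Z) (B := P) (N := P) (m := 2) inf_le_left
    (norm_center (le_norm _)) (le_norm _)
    fun x hx hxA => two_le_relIndex fun hc => hxA ⟨hx, le_cent1_iff.1 hc⟩
  have h5 : Nat.card A * A.relIndex Z = Nat.card Z := BG.card_mul_relIndex inf_le_left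
  have h6 := two_le_relIndex hne'
  nlinarith

theorem mem_cent_of_kp_two [Finite G] (P : Sylow 2 G) (h : Nat.card (P : Subgroup G) < 2 * kp 2 G)
    {g : G} (hg : g ∈ 𝐍(𝐙((P : Subgroup G)))) (ho : (orderOf g).Coprime 2) :
    g ∈ 𝐂(𝐙((P : Subgroup G))) := by
  set Z := 𝐙((P : Subgroup G)) with hZ
  by_contra hne
  set N := zpowers g with hN
  have hNZ : N ≤ 𝐍(Z) := zpowers_le.2 hg
  have hodd : Odd (Nat.card N) := by rw [hN, Nat.card_zpowers]; exact Nat.coprime_two_right.1 ho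
  set A := Z ⊓ 𝐂(N) with hA
  have hne' : ¬ Z ≤ A := fun hc => hne (cent_symm (hc.trans inf_le_right) (mem_zpowers g))
  have h1 := kp_le_image P (S := elts A ∪ (elts Z \ elts A) ∪ (elts P \ elts Z)) fun x hx =>
    ⟨x, by by_cases h1 : x ∈ Z <;> by_cases h2 : x ∈ A <;> simp [h1, h2, hx], IsConj.refl x⟩
  rw [image_union, image_union] at h1
  have h2 := h1.trans ((card_union_le _ _).trans (Nat.add_le_add_right (card_union_le _ _) _))
  have h3 := image_elts_le A
  have h4 := mul_image_sdiff_le (A := Z) (B := P) (N := P) (m := 2) inf_le_left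
    (norm_center (le_norm _)) (le_norm _)
    fun x hx hxA => two_le_relIndex fun hc => hxA ⟨hx, le_cent1_iff.1 hc⟩
  have h4' := mul_image_sdiff_le (A := A) (B := Z) (N := N) (m := 3) inf_le_left
    (norm_inf hNZ (norm_cent (le_norm N))) hNZ
    fun x hx hxA => three_le_relIndex (fun hc => hxA ⟨hx, le_cent1_iff.1 hc⟩) hodd
  have h5 : Nat.card A * A.relIndex Z = Nat.card Z := BG.card_mul_relIndex inf_le_left
  have h6 := two_le_relIndex hne'
  have hZp : IsPGroup 2 Z := P.isPGroup'.to_le inf_le_left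
  have h7 : A.relIndex Z ≠ 3 := fun e => by
    obtain ⟨k, hk⟩ := hZp.index (A.subgroupOf Z)
    change A.relIndex Z = _ at hk
    have : 3 ∣ 2 ^ k := by rw [← hk, e]
    exact absurd (Nat.prime_three.dvd_of_dvd_pow this) (by norm_num)
  have h8 : A.relIndex Z ≠ 2 := fun e => by
    obtain ⟨x, hx, hxA⟩ := SetLike.not_le_iff_exists.1 hne'
    have e1 : g * x * g⁻¹ ∈ Z := (mem_normalizer_iff.1 hg x).1 hx
    have e2 : g * x * g⁻¹ ∉ A := fun h => hxA
      ((mem_normalizer_iff.1 (norm_inf hNZ (norm_cent (le_norm N)) (mem_zpowers g)) x).2 h)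
    have e3 : g * x * g⁻¹ * x⁻¹ ∈ A := by
      have := (mul_mem_iff_of_index_two (H := A.subgroupOf Z) e (a := ⟨_, e1⟩) (b := ⟨x, hx⟩⁻¹)).2
        (by simp only [inv_mem_iff, mem_subgroupOf]; exact iff_of_false e2 hxA)
      exact this
    set z := g * x * g⁻¹ * x⁻¹ with hz
    have e4 : g * z = z * g := e3.2 g (mem_zpowers g)
    have e5 : ∀ n : ℕ, g ^ n * x = z ^ n * x * g ^ n := by
      intro n
      induction n with
      | zero => simp
      | succ n ih =>
        have c : Commute g (z ^ n) := (show Commute g z from e4).pow_right n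
        calc g ^ (n + 1) * x = g * (g ^ n * x) := by rw [pow_succ', mul_assoc]
          _ = (g * z ^ n) * x * g ^ n := by rw [ih]; simp only [mul_assoc]
          _ = z ^ n * (g * x * g⁻¹ * x⁻¹) * x * (g * g ^ n) := by rw [c.eq]; group
          _ = _ := by rw [← hz, ← pow_succ, ← pow_succ']
    have e6 := e5 (orderOf g)
    rw [pow_orderOf_eq_one, one_mul, mul_one, eq_comm, mul_eq_right] at e6
    obtain ⟨k, hk⟩ := exists_pow_of_mem hZp e3.1
    have e7 := eq_one_of_pow_pow_eq_one_of_coprime hk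
      (ho.coprime_dvd_left (orderOf_dvd_of_pow_eq_one e6))
    apply hxA
    refine ⟨hx, le_cent1_iff.1 (zpowers_le.2 (mem_cent1.2 ?_))⟩
    rw [hz, mul_inv_eq_one, mul_inv_eq_iff_eq_mul] at e7
    exact e7
  have h9 : 4 ≤ A.relIndex Z := by omega
  nlinarith

theorem npc_two_aux (n : ℕ) : ∀ (G : Type u_1) [Group G] [Finite G], Nat.card G = n → ∀ P : Sylow 2 G,
    Nat.card (P : Subgroup G) < 2 * kp 2 G → HasNormalPComplement 2 G := by
  induction n using Nat.strong_induction_on with | _ n ih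
  intro G _ _ hn P h
  set Z := 𝐙((P : Subgroup G)) with hZ
  have hPN : ↑P ≤ 𝐍(Z) := norm_center (le_norm _)
  by_cases hN : 𝐍(Z) = ⊤
  · haveI : Z.Normal := normalizer_eq_top_iff.1 hN
    by_cases h0 : Z = ⊥
    · have : (P : Subgroup G) = ⊥ := by
        by_contra hne
        haveI := (nontrivial_iff_ne_bot _).2 hne
        haveI := P.isPGroup'.center_nontrivial
        obtain ⟨⟨x, hx⟩, hx1⟩ := exists_ne (1 : center (P : Subgroup G))
        have : (x : G) ∈ Z := ⟨x.2, fun y hy => congrArg Subtype.val (mem_center_iff.1 hx ⟨y, hy⟩)⟩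
        rw [h0, mem_bot] at this
        exact hx1 (Subtype.ext (Subtype.ext this))
      refine hasNormalPComplement_of_card_coprime ?_
      have h1 := P.not_dvd_index
      rw [this, index_bot] at h1
      exact ((Nat.Prime.coprime_iff_not_dvd Nat.prime_two).2 h1).symm
    refine hasNormalPComplement_of_quotient_of_centralizes Z (pResidual_le_iff.2 fun g hg =>
      mem_cent_of_kp_two P h (by rw [hN]; trivial) hg) ?_
    have hs := QuotientGroup.mk'_surjective Z
    have hlt : Nat.card (G ⧸ Z) < n := by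
      rw [← hn, ← Z.card_mul_index]
      exact lt_mul_of_one_lt_left Nat.card_pos ((one_lt_card_iff_ne_bot _).2 h0)
    refine ih _ hlt _ rfl (P.mapSurjective hs) ?_
    have h1 : kp 2 G ≤ kp 2 Z * kp 2 (G ⧸ Z) := kQ_piElt_le_mul Z {2}
    have h2 : kp 2 Z ≤ Nat.card Z := (kQ_le_card (S := Set.univ) fun x _ => ⟨x, trivial, IsConj.refl x⟩).trans
      (by rw [Set.ncard_univ])
    have h3 : Nat.card (P.mapSurjective hs : Subgroup (G ⧸ Z)) = Z.relIndex P := by
      have := Subgroup.relIndex_ker (P : Subgroup G) (QuotientGroup.mk' Z)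
      rw [QuotientGroup.ker_mk'] at this
      exact this.symm
    have h4 : Nat.card Z * Z.relIndex P = Nat.card P := BG.card_mul_relIndex inf_le_left
    rw [h3]
    by_contra hc
    push Not at hc
    nlinarith
  · have hlt : Nat.card 𝐍(Z) < n := by
      rw [← hn, ← (𝐍(Z)).card_mul_index]
      exact lt_mul_of_one_lt_right Nat.card_pos (one_lt_index_of_ne_top hN)
    have h1 := ih _ hlt _ rfl (P.subtype hPN) (by
      rw [Sylow.coe_subtype, Nat.card_congr (subgroupOfEquivOfLe hPN).toEquiv]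
      exact h.trans_le (Nat.mul_le_mul_left _ (kp_le_kp_of_le P hPN)))
    rw [hasNormalPComplement_iff_pResidual_inf_sylow (P.subtype hPN)] at h1
    rw [hasNormalPComplement_iff_pResidual_inf_sylow P]
    have h2 := gruen_pResidual_inf P (Z := Z) inf_le_right (weaklyClosed_of_kp P h) le_rfl
    rw [eq_bot_iff]
    intro x hx
    have h3 : x ∈ pResidual 2 G ⊓ 𝐍(Z) := ⟨hx.1, hPN hx.2⟩
    rw [h2] at h3
    obtain ⟨y, hy, rfl⟩ := h3
    have : y ∈ pResidual 2 𝐍(Z) ⊓ (P.subtype hPN : Subgroup 𝐍(Z)) := ⟨hy, hx.2⟩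
    rw [h1, mem_bot] at this
    simp [this]

theorem npc_two_of_kp [Finite G] (P : Sylow 2 G) (h : Nat.card (P : Subgroup G) < 2 * kp 2 G) :
    HasNormalPComplement 2 G := npc_two_aux _ G rfl P h

theorem kQ_le_kp_mul [Finite G] [Fact p.Prime] {s : Finset ℕ} (hs : ∀ q ∈ s, q.Prime) (hp : p ∈ s)
    (P : Sylow p G) : ∃ b, kQ (PiElt (s : Set ℕ) : G → Prop) ≤ kp p G * b ∧
      ∏ q ∈ s, q ^ (Nat.card G).factorization q = Nat.card (P : Subgroup G) * b := by
  refine ⟨∏ q ∈ s.erase p, q ^ (Nat.card G).factorization q, ?_, ?_⟩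
  · have e : (s : Set ℕ) ∩ {p} = {p} := Set.inter_eq_right.2 (by simpa using hp)
    have := kQ_piElt_le_of_cent (G := G) (b := ∏ q ∈ s.erase p, q ^ (Nat.card G).factorization q) s {p}
      fun u => by
        rw [← Set.diff_eq, ← coe_erase]
        exact kQ_piElt_le_prod _ (fun q hq => hs q (mem_of_mem_erase hq)) _ Nat.card_pos.ne' _
          (card_subgroup_dvd_card _)
    rwa [e] at this
  · rw [P.card_eq_multiplicity, mul_prod_erase s (fun q => q ^ (Nat.card G).factorization q) hp]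

theorem exists_char_complement [Finite G] (s : Finset ℕ)
    (h : ∀ q ∈ s, q.Prime ∧ HasNormalPComplement q G ∧ ∃ P : Sylow q G, IsMulCommutative (P : Subgroup G)) :
    ∃ L : Subgroup G, L.Characteristic ∧ PiNat (s : Set ℕ)ᶜ (Nat.card L) ∧ PiNat s L.index ∧
      _root_.commutator G ≤ L := by
  induction s using Finset.induction_on with
  | empty =>
    exact ⟨⊤, inferInstance, fun q _ _ => by simp, by rw [index_top]; exact PiNat.one, le_top⟩
  | insert q s hq ih =>
    obtain ⟨L, hL, h1, h2, h3⟩ := ih fun r hr => h r (mem_insert_of_mem hr)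
    obtain ⟨hq', h4, P, hP⟩ := h q (mem_insert_self _ _)
    haveI := Fact.mk hq'
    refine ⟨L ⊓ pResidual q G, ?_, ?_, ?_, le_inf h3 (commutator_le_pResidual_of_abelian P)⟩
    · rw [characteristic_iff_comap_eq]
      intro φ
      rw [comap_inf, hL.fixed φ, (pResidual_characteristic (p := q)).fixed φ]
    · have e1 := h1.of_dvd (card_dvd_of_le (inf_le_left : L ⊓ pResidual q G ≤ _))
      have e2 := (PiNat.p'_iff_coprime.2 (hasNormalPComplement_iff_card_pResidual.1 h4)).of_dvd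
        (card_dvd_of_le (inf_le_right : L ⊓ pResidual q G ≤ _))
      refine (e1.inter e2).mono fun r hr => ?_
      simp only [coe_insert, Set.mem_compl_iff, Set.mem_insert_iff, not_or]
      exact ⟨hr.2, hr.1⟩
    · obtain ⟨k, hk⟩ := exists_index_pResidual_eq_pow (G := G) (p := q)
      rw [← relIndex_mul_index (inf_le_right : L ⊓ pResidual q G ≤ _), inf_relIndex_right, hk]
      exact ((h2.of_dvd (relIndex_dvd_index_of_normal _ _)).mono (by simp)).mul
        (PiNat.prime_pow hq' (by simp) k)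

theorem exists_abelian_hall [Finite G] {π : Set ℕ} {L : Subgroup G} [L.Normal]
    (h1 : PiNat πᶜ (Nat.card L)) (h2 : PiNat π L.index) (h3 : _root_.commutator G ≤ L) :
    ∃ H : Subgroup G, IsPiHall π H ∧ IsMulCommutative H := by
  obtain ⟨H, hH⟩ := exists_right_complement'_of_coprime (h2.coprime h1).symm
  refine ⟨H, ⟨?_, ?_⟩, ⟨⟨fun a b => Subtype.ext ?_⟩⟩⟩
  · rw [← hH.symm.index_eq_card]; exact h2
  · rw [hH.index_eq_card]; exact PiNat.compl_iff.1 h1
  · have : ⁅(a : G), (b : G)⁆ ∈ L ⊓ H := ⟨h3 (commutator_mem_commutator (mem_top _) (mem_top _)),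
      H.mul_mem (H.mul_mem (H.mul_mem a.2 b.2) (H.inv_mem a.2)) (H.inv_mem b.2)⟩
    rw [disjoint_iff.1 hH.disjoint, mem_bot, commutatorElement_eq_one_iff_mul_comm] at this
    exact this

end Cfsg.Lib.FGS
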