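import Cfsg.Agent.Lib.FGS.ClassSize2
import Cfsg.Agent.Lib.PLocal.FPF

/-!
# Kegel's theorem on splitting automorphisms; the Hughes subgroup
-/

set_option autoImplicit false

namespace Cfsg.Lib.FGS

open Subgroup Cfsg.Lib Cfsg.Lib.BG Cfsg.Lib.Transfer Cfsg.Lib.PLocal
open scoped IsMulCommutative

universe u

variable {G : Type u} [Group G] {p : ℕ}

theorem prod_conj_mul_pow {U : Subgroup G} [U.Normal] [IsMulCommutative U] (u : U) (a : G) (n : ℕ) :
    ((∏ i ∈ Finset.range n, MulAut.conjNormal (a ^ i) u : U) : G) * a ^ n = (u * a) ^ n := by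
  induction n with
  | zero => simp
  | succ n ih =>
    rw [Finset.prod_range_succ, pow_succ ((u : G) * a), ← ih, coe_mul, MulAut.conjNormal_apply, pow_succ]
    group

variable [Finite G]

theorem pow_card_mem_cent_of_split (hp : p.Prime) {U Q : Subgroup G} [U.Normal] [IsMulCommutative U]
    {g : G} (hg : g ∈ 𝐍(Q)) (h : ∀ t ∈ Q, ∀ u ∈ U, (u * (t * g)) ^ p = 1) {u : G} (hu : u ∈ U) :
    u ^ Nat.card Q ∈ 𝐂(Q) := by
  haveI := Fintype.ofFinite Q
  have h0 : ∀ t : Q, ((t : G) * g) ^ p = 1 := fun t => by simpa using h t t.2 1 (one_mem _)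
  have h1 : ∀ t : Q, ∏ i ∈ Finset.range p, MulAut.conjNormal (((t : G) * g) ^ i) (⟨u, hu⟩ : U) = 1 :=
    fun t => Subtype.ext (by simpa [h0 t, h t t.2 u hu] using prod_conj_mul_pow ⟨u, hu⟩ ((t : G) * g) p)
  have h2 := Finset.prod_eq_one fun t (_ : t ∈ Finset.univ) => h1 t
  obtain ⟨m, rfl⟩ : ∃ m, p = m + 1 := ⟨p - 1, (Nat.succ_pred_eq_of_pos hp.pos).symm⟩
  rw [Finset.prod_comm, Finset.prod_range_succ'] at h2
  have h3 : ∏ i ∈ Finset.range m, ∏ t : Q, MulAut.conjNormal (((t : G) * g) ^ (i + 1)) (⟨u, hu⟩ : U) ∈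
      (𝐂(Q)).subgroupOf U := prod_mem fun i hi => by
    have h4 : ∀ (t : Q) (j : ℕ), ((t : G) * g) ^ j * (g ^ j)⁻¹ ∈ Q := fun t j => by
      induction j with
      | zero => simp
      | succ j ih =>
        have := mul_mem t.2 (conj_mem_of_norm hg ih)
        rwa [show (t : G) * (g * ((t * g) ^ j * (g ^ j)⁻¹) * g⁻¹) = (t * g) ^ (j + 1) * (g ^ (j + 1))⁻¹ by
          rw [pow_succ', pow_succ']; group] at this
    let f : Q → Q := fun t => ⟨_, h4 t (i + 1)⟩
    have hf : Function.Injective f := fun s t e => by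
      have e1 : ((s : G) * g) ^ (i + 1) = ((t : G) * g) ^ (i + 1) := by simpa [f] using e
      obtain ⟨k, -, hk⟩ := Nat.exists_mul_mod_eq_one_of_coprime (Nat.coprime_of_lt_prime i.succ_ne_zero
        (Nat.succ_lt_succ (Finset.mem_range.1 hi)) hp).symm hp.one_lt
      have e2 : ∀ t : Q, (((t : G) * g) ^ (i + 1)) ^ k = t * g := fun t => by
        rw [← pow_mul, pow_eq_pow_mod _ (h0 t), hk, pow_one]
      exact Subtype.ext (mul_right_cancel ((e2 s).symm.trans (e1 ▸ e2 t)))
    rw [Fintype.prod_bijective f (Finite.injective_iff_bijective.1 hf) _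
      (fun t : Q => MulAut.conjNormal ((t : G) * g ^ (i + 1)) (⟨u, hu⟩ : U)) fun t => by simp [f]]
    intro s hs
    rw [← mul_inv_eq_iff_eq_mul, subtype_apply, ← MulAut.conjNormal_apply, map_prod]
    refine congrArg Subtype.val (Fintype.prod_equiv (Equiv.mulLeft ⟨s, hs⟩) _ _ fun t => ?_)
    simp [mul_assoc]
  rw [eq_inv_of_mul_eq_one_left h2, inv_mem_iff] at h3
  simpa [mem_subgroupOf] using h3

private theorem kegel_step (hp : p.Prime) (K : Subgroup G) [K.Normal] {g : G}
    (htop : K ⊔ zpowers g = ⊤) (h : ∀ k ∈ K, (k * g) ^ p = 1)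
    (ih : ∀ (X : Type u) [Group X] [Finite X] (K' : Subgroup X) (g' : X), Nat.card K' < Nat.card K →
      g' ∈ 𝐍(K') → (∀ k ∈ K', (k * g') ^ p = 1) → Group.IsNilpotent K') : Group.IsNilpotent K := by
  by_cases hK0 : K = ⊥
  · subst hK0; infer_instance
  have hsub : ∀ H < K, ∀ n ∈ K, n * g ∈ 𝐍(H) → Group.IsNilpotent H := fun H hH n hn h1 =>
    ih G H _ (Core.card_lt_card_of_lt hH) h1 fun k hk => mul_assoc k n g ▸ h _ (mul_mem (hH.le hk) hn)
  have hV : ∃ V : Subgroup G, V.Normal ∧ V ≤ K ∧ V ≠ ⊥ ∧ Group.IsSolvable V := by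
    by_cases h2 : IsPGroup 2 K
    · exact ⟨K, inferInstance, le_rfl, hK0, Coprime.isSolvable_of_isPGroup h2⟩
    obtain ⟨q, hq, hqK, hq2⟩ : ∃ q : ℕ, q.Prime ∧ q ∣ Nat.card K ∧ q ≠ 2 := by
      by_contra! hne
      exact h2 (IsPGroup.iff_card.2
        ⟨_, Nat.eq_prime_pow_of_unique_prime_dvd Nat.card_pos.ne' fun hd hd' => hne _ hd hd'⟩)
    have := Fact.mk hq
    obtain ⟨P, -, hPK, hP, hPi⟩ := exists_sylowIn_ge (p := q) IsPGroup.of_bot (bot_le (a := K))
    obtain ⟨n, hn, hng⟩ := frattini_argument hPK hP hPi le_normalizer_of_normal (mem_top g)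
    have hP0 : P ≠ ⊥ := by
      rintro rfl
      exact hPi (by rwa [relIndex_bot_left])
    have hW := subFunctor_centerThompsonOf.{u} (p := q) (e := 0) (Or.inl rfl)
    have hRW := hW.normalizer_le hP hng
    by_cases hKW : K ≤ 𝐍(centerThompsonOf 0 P)
    · exact ⟨centerThompsonOf 0 P, Core.normal_of_top_le_normalizer (htop ▸ sup_le hKW
        (zpowers_le.2 ((mul_mem_cancel_left (hKW hn)).1 hRW))), (centerThompsonOf_le P).trans hPK,
        hW.ne_bot hP hP0, Coprime.isSolvable_of_isMulCommutative (isMulCommutative_centerThompsonOf P)⟩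
    have hnil := hsub _ (inf_lt_left.2 hKW) n hn (norm_inf (A := zpowers (n * g)) le_normalizer_of_normal
      ((zpowers_le.2 hRW).trans le_normalizer) (mem_zpowers _))
    obtain ⟨Q, hQ⟩ := exists_sylow_of_not_dvd_relIndex hP hPi
    have hnpc : HasNormalPComplement q K := by
      refine hasNormalPComplement_of_zjLike hW (zjLike_centerThompsonOf hq2 (Or.inl rfl)) hq2 Q
        (isStronglyClosed_self _) ?_
      rw [hQ, hW.normalizer_subgroupOf hP hPK, ← inf_subgroupOf_left]
      exact hasNormalPComplement_of_equiv hasNormalPComplement_of_isNilpotent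
        (subgroupOfEquivOfLe inf_le_left).symm
    by_cases hL0 : pResidual q K = ⊥
    · exact ⟨K, inferInstance, le_rfl, hK0, Coprime.isSolvable_of_isPGroup (pResidual_eq_bot_iff.mp hL0)⟩
    refine ⟨(pResidual q K).map K.subtype, inferInstance, map_subtype_le _,
      fun h => hL0 (Core.map_subtype_eq_bot_iff.mp h), ?_⟩
    have : Group.IsNilpotent ((pResidual q K).map K.subtype) := by
      refine hsub _ (lt_of_le_of_ne (map_subtype_le _) fun h => ?_) 1 (one_mem _)
        (le_normalizer_of_normal (mem_top _))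
      have h1 := hasNormalPComplement_iff_card_pResidual.mp hnpc
      rw [← Core.card_map_subtype, h] at h1
      exact (Core.coprime_iff_not_dvd.mp h1) hqK
    infer_instance
  obtain ⟨V, hVn, hVK, hV0, hVs⟩ := hV
  obtain ⟨U, hU, hUV⟩ := Core.exists_isMinNormal_le hVn hV0
  obtain ⟨r, hr, hUr⟩ := hU.exists_isPGroup (Core.isSolvable_of_le hUV hVs)
  haveI := Fact.mk hr
  haveI := hU.normal
  haveI := hU.isMulCommutative (Core.isSolvable_of_le hUV hVs)
  have h1 : (pResidual r K).map K.subtype ≤ 𝐂(U) := map_subtype_pResidual_le_iff.2 fun x hx hc => by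
    by_contra e
    obtain ⟨q, hq, y, hy, h1, k, hk⟩ := exists_primePow_not_mem e
    haveI := Fact.mk hq
    obtain ⟨Q, h2, hQK, hQ, hQi⟩ := exists_sylowIn_ge (isPGroup_zpowers_of_pow hk)
      (zpowers_le.2 (zpowers_le.2 hx hy))
    obtain ⟨n, hn, hng⟩ := frattini_argument hQK hQ hQi le_normalizer_of_normal (mem_top g)
    have hqr : q ≠ r := by
      rintro rfl
      exact h1 (mem_of_pow_mem_of_coprime (hk.symm ▸ one_mem _)
        ((hc.coprime_dvd_left (orderOf_dvd_of_mem_zpowers hy)).pow_right k))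
    refine h1 (le_centralizer_iff.1 (fun u hu => mem_of_pow_mem_of_coprime
      (pow_card_mem_cent_of_split hp hng (fun t ht v hv => ?_) hu) ?_) (h2 (mem_zpowers y)))
    · simpa only [mul_assoc] using h _ (mul_mem (mul_mem (hVK (hUV hv)) (hQK ht)) hn)
    · exact (IsPGroup.coprime_card_of_ne r q hqr.symm _ _ hUr hQ).coprime_dvd_left (U.orderOf_dvd_natCard hu)
  obtain ⟨R, -, hRK, hR, hRi⟩ := exists_sylowIn_ge (p := r) IsPGroup.of_bot (bot_le (a := K))
  have hZ0 : 𝐙(K) ≠ ⊥ := fun e => PGroup.inf_centralizer_ne_bot hUr hR le_normalizer_of_normal hU.ne_bot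
    (eq_bot_iff.2 fun u hu => e.le ⟨hVK (hUV hu.1), fun k hk => by
      obtain ⟨t, ht, o, ho, rfl⟩ := exists_mul_pResidual hRK hRi hk
      rw [mul_assoc, ← h1 ho u hu.1, ← mul_assoc, hu.2 t ht, mul_assoc]⟩)
  set Z := 𝐙(K)
  have hq : Group.IsNilpotent (K.map (QuotientGroup.mk' Z)) := by
    haveI : (K.map (QuotientGroup.mk' Z)).Normal := Normal.map inferInstance _ (QuotientGroup.mk'_surjective _)
    refine ih _ _ (g : G ⧸ Z) ?_ (le_normalizer_of_normal (mem_top _)) ?_
    · have h1 := Core.card_map_mk'_mul Z K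
      rw [inf_eq_right.mpr (inf_le_left : Z ≤ K)] at h1
      have h2 : 1 < Nat.card Z := one_lt_card_iff_ne_bot _ |>.mpr hZ0
      have h3 : 0 < Nat.card (K.map (QuotientGroup.mk' Z)) := Nat.card_pos
      nlinarith
    · rintro _ ⟨k, hk, rfl⟩
      exact congrArg (QuotientGroup.mk' Z) (h k hk)
  refine Subgroup.isNilpotent_of_ker_le_center ((QuotientGroup.mk' Z).subgroupMap K) fun x hx => ?_
  rw [MonoidHom.mem_ker, Subtype.ext_iff] at hx
  exact mem_center_iff.2 fun y => Subtype.ext (((QuotientGroup.eq_one_iff _).mp hx).2 y y.2)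

private theorem kegel_aux (hp : p.Prime) (n : ℕ) : ∀ (X : Type u) [Group X] [Finite X] (K : Subgroup X)
    (g : X), Nat.card K = n → g ∈ 𝐍(K) → (∀ k ∈ K, (k * g) ^ p = 1) → Group.IsNilpotent K := by
  induction n using Nat.strong_induction_on with
  | _ n ih =>
  intro X _ _ K g hn hg h
  have hKn : (K.subgroupOf (K ⊔ zpowers g)).Normal :=
    (normal_subgroupOf_iff_le_normalizer le_sup_left).mpr (sup_le le_normalizer (zpowers_le.2 hg))
  have hnil : Group.IsNilpotent (K.subgroupOf (K ⊔ zpowers g)) := by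
    refine kegel_step hp _ (g := ⟨g, mem_sup_right (mem_zpowers g)⟩) ?_
      (fun k hk => Subtype.ext (h k hk)) fun Y _ _ K' g' hlt => ?_
    · refine map_injective (K ⊔ zpowers g).subtype_injective ?_
      rw [Subgroup.map_sup, map_subgroupOf_eq_of_le le_sup_left, MonoidHom.map_zpowers, ← MonoidHom.range_eq_map,
        range_subtype, subtype_apply]
    · rw [Core.card_subgroupOf_of_le le_sup_left, hn] at hlt
      exact ih _ hlt Y K' g' rfl
  exact Group.nilpotent_of_mulEquiv (subgroupOfEquivOfLe (le_sup_left : K ≤ K ⊔ zpowers g))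

/-- Kegel: if all elements of the coset `K g` have order dividing the prime `p`, then `K` is
nilpotent. -/
theorem kegel (hp : p.Prime) {K : Subgroup G} {g : G} (hg : g ∈ 𝐍(K))
    (h : ∀ k ∈ K, (k * g) ^ p = 1) : Group.IsNilpotent K :=
  kegel_aux hp _ G K g rfl hg h

/-- Hughes–Thompson. -/
theorem hughes_thompson (hp : p.Prime) (hG : ¬ IsPGroup p G) {K : Subgroup G} [K.Normal] (hK : K ≠ ⊤)
    (h : ∀ g ∉ K, g ^ p = 1) : Group.IsNilpotent K ∧ K.index = p := by
  haveI := Fact.mk hp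
  obtain ⟨g, -, hg⟩ := SetLike.exists_of_lt (lt_top_iff_ne_top.2 hK)
  have h1 := kegel hp (K := K) (le_normalizer_of_normal (mem_top g)) fun k hk =>
    h _ fun e => hg ((mul_mem_cancel_left hk).1 e)
  have h2 : IsPGroup p (G ⧸ K) := fun x => by
    obtain ⟨x, rfl⟩ := QuotientGroup.mk_surjective x
    by_cases hx : x ∈ K
    · exact ⟨0, by simpa using hx⟩
    · exact ⟨1, by rw [pow_one, ← QuotientGroup.mk_pow, h x hx, QuotientGroup.mk_one]⟩
  refine ⟨h1, ?_⟩
  obtain ⟨n, hn⟩ := h2.exists_card_eq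
  rw [index, hn]
  rcases n with _ | _ | n
  · exact absurd (index_eq_one.1 hn) hK
  · simp
  exfalso
  obtain ⟨E, hE⟩ := Sylow.exists_subgroup_card_pow_prime (G := G ⧸ K) p (n := 2) ⟨p ^ n, by rw [hn]; ring⟩
  haveI := IsPGroup.isMulCommutative_of_card_eq_prime_sq hE
  obtain ⟨y, hy, h3⟩ : ∃ y : G, (orderOf y).Coprime p ∧ y ≠ 1 := by
    by_contra! e
    exact hG (pResidual_eq_bot_iff.1 (eq_bot_iff.2 (pResidual_le_iff.2 e)))
  obtain ⟨q, hq, z, hz, h4, k, hk⟩ := exists_primePow_not_mem (K := ⊥) h3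
  haveI := Fact.mk hq
  have hqp : q ≠ p := by
    rintro rfl
    exact h4 (mem_of_pow_mem_of_coprime (mem_bot.2 hk)
      ((hy.coprime_dvd_left (orderOf_dvd_of_mem_zpowers hz)).pow_right k))
  have hQK : pCore q G ≤ K := fun x hx => by
    obtain ⟨l, hl⟩ := exists_pow_of_mem (Core.pCore_isPGroup q G) hx
    exact pResidual_le_of_isPGroup_quotient K h2 (mem_pResidual_of_coprime
      (PGroup.coprime_orderOf_of_pow_pow_eq_one hq hqp hl))
  have h5 : pCore q G ≠ ⊥ := fun e => h4 (e ▸ Core.le_pCore_of_le_fittingSubgroup ((zpowers_le.2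
    (pResidual_le_of_isPGroup_quotient K h2 (mem_pResidual_of_coprime
      (PGroup.coprime_orderOf_of_pow_pow_eq_one hq hqp hk)))).trans (Core.le_fittingSubgroup inferInstance h1))
    (isPGroup_zpowers_of_pow hk) (mem_zpowers z))
  obtain ⟨U, hU, hUQ⟩ := Core.exists_isMinNormal_le inferInstance h5
  haveI := hU.normal
  have hUq := (Core.pCore_isPGroup q G).to_le hUQ
  have h6 : ∀ u ∈ U, u ^ p = 1 → u = 1 := fun u hu e => by
    obtain ⟨l, hl⟩ := exists_pow_of_mem hUq hu
    exact mem_bot.1 (Inv.mem_of_pow_mem_of_pow_mem (mem_bot.2 e) (mem_bot.2 hl)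
      (((Nat.coprime_primes hp hq).2 hqp.symm).pow_right l))
  rcases relIndex_dvd_or_pow_mem (p := p) (A := U) (H := E.comap (QuotientGroup.mk' K)) (D := K) (Z := ⊥)
    (hU.isElementaryAbelian_of_isPGroup hUq).1 le_normalizer_of_normal
    (le_centralizer_iff.1 (hU.le_centralizer_of_isNilpotent K h1))
    (fun x _ => by
      by_cases hx : x ∈ K
      · exact pow_mem hx p
      · rw [h x hx]; exact one_mem _)
    (fun x hx y hy => (QuotientGroup.eq_one_iff _).1 ((commutatorElement_eq_one_iff_mul_comm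
      (G := G ⧸ K)).2 (PGroup.isMulCommutative_iff.1 ‹IsMulCommutative E› _ hx _ hy)))
    (fun x _ hx u hu => h6 u hu.1 (by
      have h7 := h (u * x) fun e => hx ((mul_mem_cancel_left (hQK (hUQ hu.1))).1 e)
      rwa [Commute.mul_pow (mem_centralizer_singleton_iff.1 hu.2), h x hx, mul_one] at h7)) with h7 | h7
  · have h8 := relIndex_ker (E.comap (QuotientGroup.mk' K)) (QuotientGroup.mk' K)
    rw [QuotientGroup.ker_mk', map_comap_eq_self_of_surjective (QuotientGroup.mk'_surjective K), hE] at h8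
    exact absurd (Nat.le_of_dvd hp.pos (h8 ▸ h7)) (by nlinarith [hp.one_lt])
  · exact hU.ne_bot (eq_bot_iff.2 fun u hu => h6 u hu (h7 u hu))

end Cfsg.Lib.FGS
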