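import Cfsg.Agent.Lib.FGS.Kulakoff

/-!
# Theorems of P. Hall and G. A. Miller on the number of `p`-subgroups
-/

set_option autoImplicit false

namespace Cfsg.Lib.FGS

open Subgroup Cfsg.Lib.BG Cfsg.Lib.Transfer Finset
open scoped Classical

theorem ncard_eq_mul_of_fiber {α β : Type*} [Finite α] [Finite β] {s : Set α} {t : Set β} (f : α → β)
    (hf : ∀ a ∈ s, f a ∈ t) {d : ℕ} (h : ∀ b ∈ t, {a | a ∈ s ∧ f a = b}.ncard = d) : s.ncard = d * t.ncard := by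
  rw [Set.ncard_eq_toFinset_card s, Set.ncard_eq_toFinset_card t, card_eq_sum_card_fiberwise (f := f)
    (t := (Set.toFinite t).toFinset) fun a ha => by simpa using hf a (by simpa using ha), mul_comm, ← smul_eq_mul,
    ← sum_const]
  refine sum_congr rfl fun b hb => ?_
  rw [← h b (by simpa using hb), Set.ncard_eq_toFinset_card]
  congr 1
  ext; simp

variable {G : Type*} [Group G] [Finite G] {p : ℕ}

theorem ncard_orb (A X : Subgroup G) : {Y | ∃ g ∈ A, g ⋆ X = Y}.ncard = 𝐍(X).relIndex A := by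
  open Pointwise in
  letI : MulAction G (Subgroup G) := MulAction.compHom _ (MulAut.conj : G →* MulAut G)
  have h1 : MulAction.stabilizer G X = 𝐍(X) := by
    ext g
    rw [MulAction.mem_stabilizer_iff, mem_normalizer_iff_map_conj_eq]
    rfl
  rw [← h1, relIndex, show (MulAction.stabilizer G X).subgroupOf A = MulAction.stabilizer A X from
    rfl, MulAction.index_stabilizer]
  exact congrArg _ (Set.ext fun Y => ⟨fun ⟨g, hg, e⟩ => ⟨⟨g, hg⟩, e⟩, fun ⟨g, e⟩ => ⟨g, g.2, e⟩⟩)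

theorem ncard_generators {A : Subgroup G} (hA : IsCyclic A) : {x | zpowers x = A}.ncard = (Nat.card A).totient := by
  have := Fintype.ofFinite A
  rw [← IsCyclic.card_orderOf_eq_totient (α := A) (by rw [← Nat.card_eq_fintype_card]), ← Fintype.card_subtype,
    ← Nat.card_eq_fintype_card]
  refine Nat.card_congr ⟨fun g => ⟨⟨g.1, g.2.le (mem_zpowers _)⟩, (orderOf_mk _ _).trans ?_⟩,
    fun x => ⟨x.1.1, eq_of_le_of_card_le (zpowers_le.mpr x.1.2) ?_⟩, fun _ => rfl, fun _ => rfl⟩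
  · rw [← Nat.card_zpowers, g.2]
  · rw [Nat.card_zpowers, orderOf_coe, x.2]

theorem ncard_orderOf_eq (S : Subgroup G) (n : ℕ) :
    {x | x ∈ S ∧ orderOf x = n}.ncard = n.totient * #(fs fun A => A ≤ S ∧ IsCyclic A ∧ Nat.card A = n) := by
  rw [card_fs']
  refine ncard_eq_mul_of_fiber zpowers (fun x hx => by
    exact ⟨zpowers_le.2 hx.1, inferInstance, (Nat.card_zpowers x).trans hx.2⟩) fun A hA => ?_
  rw [← hA.2.2, ← ncard_generators hA.2.1]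
  refine congrArg _ (Set.ext fun x => and_iff_right_of_imp ?_)
  rintro rfl
  exact ⟨hA.1 (mem_zpowers x), (Nat.card_zpowers x).symm⟩

theorem ncard_orderOf_mul {a b : ℕ} (h : a.Coprime b) : {g : G | orderOf g = a * b}.ncard = a.totient *
    {w : Subgroup G × G | (IsCyclic w.1 ∧ Nat.card w.1 = a) ∧ orderOf w.2 = b ∧ w.2 ∈ 𝐂(w.1)}.ncard := by
  have key : ∀ g : G, orderOf g = a * b → orderOf (g ^ b) = a ∧ orderOf (g ^ a) = b := fun g hg => by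
    have := mul_ne_zero_iff.1 (hg ▸ (orderOf_pos g).ne')
    rw [orderOf_pow_of_dvd this.2 (hg ▸ dvd_mul_left b a), orderOf_pow_of_dvd this.1 (hg ▸ dvd_mul_right a b), hg]
    exact ⟨Nat.mul_div_cancel _ (Nat.pos_of_ne_zero this.2), Nat.mul_div_cancel_left _ (Nat.pos_of_ne_zero this.1)⟩
  have hb : (a : ℤ) * a.gcdA b + b * a.gcdB b = 1 := by rw [← Nat.gcd_eq_gcd_ab, h.gcd_eq_one, Nat.cast_one]
  refine ncard_eq_mul_of_fiber (fun g => (zpowers (g ^ b), g ^ a)) (fun g hg => by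
    exact ⟨⟨inferInstance, (Nat.card_zpowers _).trans (key g hg).1⟩, (key g hg).2, by
      rw [cent_zpowers]; exact mem_cent1.2 (Commute.pow_pow_self g a b)⟩) ?_
  rintro ⟨A, y⟩ ⟨⟨h1, h2⟩, h3, h4⟩
  rw [← (ncard_generators h1).trans (congrArg _ h2)]
  refine Set.ncard_congr (fun g _ => g ^ b) (fun g hg => congrArg Prod.fst hg.2) (fun g g' hg hg' e => ?_) fun x hx => ?_
  · have e' : g ^ a = g' ^ a := congrArg Prod.snd (hg.2.trans hg'.2.symm)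
    rw [← zpow_one g, ← zpow_one g', ← hb, zpow_add, zpow_add, zpow_mul, zpow_mul, zpow_mul, zpow_mul]
    simp only [zpow_natCast, e, e']
  · obtain rfl : zpowers x = A := hx
    have hc : Commute x y := mem_cent.1 h4 x (mem_zpowers x)
    rw [Nat.card_zpowers] at h2
    have hxa : x ^ (a : ℤ) = 1 := by rw [zpow_natCast, ← h2, pow_orderOf_eq_one]
    have hyb : y ^ (b : ℤ) = 1 := by rw [zpow_natCast, ← h3, pow_orderOf_eq_one]
    have e1 : (x ^ a.gcdB b * y ^ a.gcdA b) ^ b = x := by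
      rw [(hc.zpow_zpow _ _).mul_pow, ← zpow_natCast, ← zpow_natCast, ← zpow_mul, ← zpow_mul, mul_comm _ (b : ℤ),
        mul_comm _ (b : ℤ), zpow_mul y, hyb, one_zpow, mul_one, eq_sub_of_add_eq' hb, zpow_sub, zpow_mul, hxa]
      simp
    have e2 : (x ^ a.gcdB b * y ^ a.gcdA b) ^ a = y := by
      rw [(hc.zpow_zpow _ _).mul_pow, ← zpow_natCast, ← zpow_natCast, ← zpow_mul, ← zpow_mul, mul_comm _ (a : ℤ),
        mul_comm _ (a : ℤ), zpow_mul x, hxa, one_zpow, one_mul, eq_sub_of_add_eq hb, zpow_sub, zpow_mul, hyb]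
      simp
    refine ⟨_, ⟨Nat.dvd_antisymm (orderOf_dvd_of_pow_eq_one ?_) (h.mul_dvd_of_dvd_of_dvd ?_ ?_), ?_⟩, e1⟩
    · rw [pow_mul, e2, ← h3, pow_orderOf_eq_one]
    · exact ((congrArg orderOf e1).trans h2).symm.dvd.trans (orderOf_pow_dvd b)
    · exact ((congrArg orderOf e2).trans h3).symm.dvd.trans (orderOf_pow_dvd a)
    · rw [e1, e2]

variable [hp : Fact p.Prime] {S R : Subgroup G}

theorem RR.pow_dvd_ncard (h : RR p S R) (h2 : p ≠ 2) (s : ℕ) :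
    p ^ (s + 2) ∣ {x | x ∈ S ∧ orderOf x = p ^ (s + 2)}.ncard := by
  have ho : ∀ x : G, orderOf x = p ^ (s + 2) → orderOf (x ^ p) = p ^ (s + 1) := fun x hx => by
    rw [orderOf_pow_of_dvd hp.out.ne_zero (hx ▸ dvd_pow_self p (by omega)), hx, pow_succ,
      Nat.mul_div_cancel _ hp.out.pos]
  have key : ∀ x ∈ S, orderOf x = p ^ (s + 2) → ∀ y, x⁻¹ * y ∈ zpowers (x ^ p) ⊔ R →
      y ∈ S ∧ zpowers (y ^ p) = zpowers (x ^ p) := fun x hx e y hy => by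
    obtain ⟨_, ⟨i, rfl⟩, r, hr, e1⟩ := (mem_sup_right_norm ((zpowers_le.2 (pow_mem hx p)).trans h.norm)).1 hy
    obtain rfl : y = x ^ (1 + p * i) * r := by
      rw [zpow_add, zpow_mul, zpow_natCast, zpow_one, mul_assoc, e1, mul_inv_cancel_left]
    refine ⟨mul_mem (zpow_mem hx _) (h.le hr), ?_⟩
    rw [h.mul_pow (zpow_mem hx _) hr (Or.inl h2), ← zpow_natCast, ← zpow_mul, mul_comm, zpow_mul, zpow_natCast]
    refine le_antisymm (zpowers_le.2 (zpow_mem_zpowers _ _)) (zpowers_le.2 (mem_zpowers_zpow_iff.2 ?_))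
    rw [ho x e]
    refine ((hp.out.coprime_iff_not_dvd.2 fun h3 => hp.out.not_dvd_one ?_).pow_left _).symm
    exact Int.natCast_dvd_natCast.1 ((dvd_add_left (dvd_mul_right _ i)).1 (Int.natCast_dvd.2 h3))
  refine dvd_ncard_of_classes (fun x => {y | x⁻¹ * y ∈ zpowers (x ^ p) ⊔ R}) (fun x _ => by simp)
    (fun x hx y hy => ⟨(key x hx.1 hx.2 y hy).1, ?_⟩) (fun x hx y hy => ?_) fun x hx => ?_
  · have h3 := congrArg (fun A : Subgroup G => Nat.card A) (key x hx.1 hx.2 y hy).2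
    simp only [Nat.card_zpowers, ho x hx.2] at h3
    refine orderOf_eq_prime_pow (fun h4 => ?_) (by rw [pow_succ', pow_mul, ← h3, pow_orderOf_eq_one])
    rw [pow_succ', pow_mul, ← orderOf_dvd_iff_pow_eq_one, h3, Nat.pow_dvd_pow_iff_le_right hp.out.one_lt] at h4
    omega
  · rw [(key x hx.1 hx.2 y hy).2]
    have hy' : x⁻¹ * y ∈ zpowers (x ^ p) ⊔ R := hy
    exact Set.ext fun z => ⟨fun hz : y⁻¹ * z ∈ _ => by simpa [mul_assoc] using mul_mem hy' hz,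
      fun hz : x⁻¹ * z ∈ _ => by simpa [mul_assoc] using mul_mem (inv_mem hy') hz⟩
  · rw [ncard_mul_left]
    have h3 := Core.card_sup_mul_card_inf ((zpowers_le.2 (pow_mem hx.1 p)).trans h.norm)
    have h4 : zpowers (x ^ p) ⊓ R < R := inf_lt_right.2 fun h4 => h.not_cyclic (cyclic_of_le inferInstance h4)
    obtain ⟨j, -, e⟩ := (Nat.dvd_prime_pow hp.out).1 (h.card ▸ card_dvd h4.le)
    have h5 := card_lt_of_lt h4
    rw [e, h.card, Nat.pow_lt_pow_iff_right hp.out.one_lt] at h5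
    rw [e, Nat.card_zpowers, ho x hx.2, h.card, ← pow_add] at h3
    refine Nat.dvd_of_mul_dvd_mul_right (pow_pos hp.out.pos j) ?_
    rw [h3, ← pow_add]
    exact pow_dvd_pow p (by omega)

/-- Miller's theorem on the number of cyclic subgroups of a `p`-group. -/
theorem dvd_card_cyclic (hS : IsPGroup p S) (hc : ¬ IsCyclic S) (h2 : p ≠ 2) (s : ℕ) :
    p ∣ #(fs fun A => A ≤ S ∧ IsCyclic A ∧ Nat.card A = p ^ (s + 2)) := by
  obtain ⟨R, h⟩ := exists_RR hS hc fun h => h2 h.1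
  have h1 := h.pow_dvd_ncard h2 s
  rw [ncard_orderOf_eq, Nat.totient_prime_pow_succ hp.out, pow_succ, mul_assoc] at h1
  exact ((Nat.Coprime.dvd_mul_left (by simpa using (Nat.coprime_self_sub_right hp.out.one_le).2 (by simp))).1
    (Nat.dvd_of_mul_dvd_mul_left (pow_pos hp.out.pos _) h1))

theorem miller {P : Subgroup G} (hP : Syl p P ⊤) (hc : ¬ IsCyclic P) (h2 : p ≠ 2) (s : ℕ) {m : ℕ} (hm : p.Coprime m) :
    p ^ (s + 2) ∣ {g : G | orderOf g = p ^ (s + 2) * m}.ncard := by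
  rw [ncard_orderOf_mul (hm.pow_left _), Nat.totient_prime_pow_succ hp.out, pow_succ p (s + 1), mul_assoc]
  refine Nat.mul_dvd_mul_left _ (Dvd.dvd.mul_left ?_ _)
  letI : MulAction G (Subgroup G × G) :=
    { smul := fun g w => (g ⋆ w.1, g * w.2 * g⁻¹), one_smul := fun w => Prod.ext (conj_one _)
        (show 1 * w.2 * 1⁻¹ = w.2 by simp)
      mul_smul := fun a b w => Prod.ext (conj_conj a b _).symm
        (show a * b * w.2 * (a * b)⁻¹ = a * (b * w.2 * b⁻¹) * a⁻¹ by group) }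
  rw [← pow_succ, ← Nat.modEq_zero_iff_dvd]
  refine (Perm.ncard_modEq_fixed hP.pgroup (Set.toFinite _) fun u _ w hw => ?_).trans ?_
  · refine ⟨⟨(cyclic_conj u).2 hw.1.1, (card_conj u _).trans hw.1.2⟩, (Inv.orderOf_conj' _ _).trans hw.2.1, ?_⟩
    change u * w.2 * u⁻¹ ∈ 𝐂(u ⋆ w.1)
    rw [← conj_centralizer, conj_mem_conj]; exact hw.2.2
  have h1 := (card_fs_modEq_fixed hP.pgroup (Φ := fun A => A ≤ P ∧ IsCyclic A ∧ Nat.card A = p ^ (s + 2))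
    fun g hg A hA => ⟨conj_le_of_mem hA.1 hg, (cyclic_conj g).2 hA.2.1, (card_conj g _).trans hA.2.2⟩).symm.trans
    (Nat.modEq_zero_iff_dvd.2 (dvd_card_cyclic hP.pgroup hc h2 s))
  rw [card_fs'] at h1
  have h3 := h1.mul_right {y : G | orderOf y = m ∧ y ∈ 𝐂(P)}.ncard
  rw [zero_mul, ← Set.ncard_prod] at h3
  convert h3 using 2
  ext ⟨A, y⟩
  refine ⟨fun ⟨h4, h5⟩ => ?_, fun ⟨h4, h5⟩ => ⟨⟨h4.1.2, h5.1, cent_anti h4.1.1 h5.2⟩, fun u hu => Prod.ext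
    (conj_eq_of_norm (h4.2 hu)) (mul_inv_eq_of_eq_mul (mem_cent.1 h5.2 u hu))⟩⟩
  have h6 : P ≤ 𝐍(A) := fun u hu => norm_of_conj_eq (congrArg Prod.fst (h5 u hu))
  exact ⟨⟨⟨hP.ge_of_norm_p le_top (IsPGroup.of_card h4.1.2) h6, h4.1⟩, h6⟩, h4.2.1,
    mem_cent.2 fun u hu => eq_mul_of_mul_inv_eq (congrArg Prod.snd (h5 u hu))⟩

theorem mul_dvd_sum_fs {P : Subgroup G} (hP : IsPGroup p P) {Φ : Subgroup G → Prop}
    (h : ∀ g ∈ P, ∀ A, Φ A → Φ (g ⋆ A)) (h0 : ∀ A, Φ A → ¬ P ≤ 𝐍(A)) (f : Subgroup G → ℕ)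
    (hf : ∀ g ∈ P, ∀ A, Φ A → f (g ⋆ A) = f A) {d : ℕ} (hd : ∀ A, Φ A → d ∣ f A) : d * p ∣ ∑ A ∈ fs Φ, f A := by
  rw [sum_congr rfl fun A hA => (Nat.mul_div_cancel' (hd A (mem_fs.1 hA))).symm, ← mul_sum]
  exact Nat.mul_dvd_mul_left d (dvd_sum_fs_of_no_fixed hP h h0 _ fun g hg A hA => by rw [hf g hg A hA])

theorem sq_dvd_card_norm {P M : Subgroup G} {n a : ℕ} (hP : Syl p P ⊤) (hn : Nat.card P = p ^ (n + 1)) (ha : a ≤ n)
    (hM : M ∈ hyp p ⊥ P) : p ^ 2 ∣ #(fs fun H => (Nat.card H = p ^ a ∧ ¬ H ≤ P) ∧ M ≤ 𝐍(H)) := by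
  have hM1 := card_of_mem_hyp hn hM
  have norm : ∀ Q, Syl p Q ⊤ → M ≤ Q → Nat.card Q = p * Nat.card M ∧ Q ≤ 𝐍(M) := fun Q hQ h => by
    have h1 : Nat.card Q = p * Nat.card M := by rw [hQ.card_eq hP, hn, hM1, pow_succ']
    have h2 := nil_norm_grow hQ.nil (lt_of_card_pow ((hQ.card_eq hP).trans hn) hM1 h (by omega))
    exact ⟨h1, inf_eq_left.1 ((PGroup.eq_or_eq_of_card_eq_prime_mul hp.out h2.le inf_le_left h1).resolve_left h2.ne')⟩
  have hMP := (mem_hyp.1 hM).1.1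
  have hPM := (norm P hP hMP).2
  have sup : ∀ Q, Syl p Q ⊤ → M ≤ Q → ∀ H ≤ Q, ¬ H ≤ M → H ⊔ M = Q := fun Q hQ h H h1 h2 =>
    (PGroup.eq_or_eq_of_card_eq_prime_mul hp.out le_sup_right (sup_le h1 h) (norm Q hQ h).1).resolve_left
      fun e => h2 (e ▸ le_sup_left)
  have h1 := sum_card_fs (fun Q => (Syl p Q ⊤ ∧ M ≤ Q) ∧ Q ≠ P) (fun H => (Nat.card H = p ^ a ∧ ¬ H ≤ P) ∧ M ≤ 𝐍(H))
    fun Q H => H ≤ Q
  replace h1 := h1.symm
  rw [sum_congr rfl (g := fun _ => 1) fun H hH => ?_, sum_const, smul_eq_mul, mul_one] at h1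
  · rw [h1, sq]
    refine mul_dvd_sum_fs hP.pgroup (fun g hg Q hQ => ⟨⟨hQ.1.1.conj_top g, conj_eq_of_norm (hPM hg) ▸ conj_mono g hQ.1.2⟩,
      fun e => hQ.2 (conj_inj.1 (e.trans (conj_eq_of_mem hg).symm))⟩) (fun Q hQ h => hQ.2 (hQ.1.1.eq_of_le' hP
        (hP.ge_of_norm_p le_top hQ.1.1.pgroup h))) _ (fun g hg Q _ => (card_bij (fun A _ => g ⋆ A) ?_ ?_ ?_).symm)
      fun Q hQ => ?_
    · refine fun A hA => mem_fs.2 ⟨⟨⟨(card_conj g A).trans (mem_fs.1 hA).1.1.1, fun h => (mem_fs.1 hA).1.1.2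
        (conj_le_conj_iff.1 (h.trans (conj_eq_of_mem hg).ge))⟩, ?_⟩, conj_mono g (mem_fs.1 hA).2⟩
      rw [← conj_normalizer]
      exact (conj_eq_of_norm (hPM hg)).ge.trans (conj_mono g (mem_fs.1 hA).1.2)
    · exact fun A _ B _ h => conj_inj.1 h
    · refine fun A hA => ⟨g⁻¹ ⋆ A, mem_fs.2 ⟨⟨⟨(card_conj _ A).trans (mem_fs.1 hA).1.1.1, fun h => (mem_fs.1 hA).1.1.2
        (conj_le_conj_iff.1 (h.trans (conj_eq_of_mem (inv_mem hg)).ge))⟩, ?_⟩,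
        le_conj_iff_inv_conj_le.1 (mem_fs.1 hA).2⟩, conj_inv_conj g A⟩
      rw [← conj_normalizer]
      exact (conj_eq_of_norm (hPM (inv_mem hg))).ge.trans (conj_mono _ (mem_fs.1 hA).1.2)
    obtain ⟨⟨hQ, hMQ⟩, hne⟩ := hQ
    have h2 := card_fs_modEq_fixed hQ.pgroup (Φ := fun H => (H ≤ Q ∧ Nat.card H = p ^ a) ∧ ¬ H ≤ M) fun g hg A hA =>
      ⟨⟨conj_le_of_mem hA.1.1 hg, (card_conj g A).trans hA.1.2⟩, fun h => hA.2
        (conj_le_conj_iff.1 (h.trans (conj_eq_of_norm ((norm Q hQ hMQ).2 hg)).ge))⟩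
    have h3 : nsub M (p ^ a) + #(fs fun H => (H ≤ Q ∧ Nat.card H = p ^ a) ∧ ¬ H ≤ M) = nsub Q (p ^ a) := by
      rw [nsub, nsub, ← card_filter_add_card_filter_not (s := fs fun A => A ≤ Q ∧ Nat.card A = p ^ a) (· ≤ M)]
      congr 2 <;> ext H <;> simp only [mem_fs, mem_filter]
      exact ⟨fun h => ⟨⟨h.1.trans hMQ, h.2⟩, h.1⟩, fun h => ⟨h.2, h.1.2⟩⟩
    have h4 := nsub_modEq_one ((hQ.card_eq hP).trans hn) (ha.trans n.le_succ)
    rw [← h3] at h4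
    have h5 := h2.symm.trans (Nat.ModEq.add_left_cancel (nsub_modEq_one hM1 ha) (c := _) (d := 0) h4)
    rw [Nat.modEq_zero_iff_dvd] at h5
    convert h5 using 2
    refine fs_congr fun H => ⟨fun h => ⟨⟨⟨h.2, h.1.1.1⟩, fun h6 => h.1.1.2 (h6.trans hMP)⟩, ?_⟩,
      fun h => ⟨⟨⟨h.1.1.2, fun h6 => hne ?_⟩, hMQ.trans h.2⟩, h.1.1.1⟩⟩
    · rw [← sup Q hQ hMQ H h.2 fun h6 => h.1.1.2 (h6.trans hMP)]
      exact sup_le_norm_left h.1.2
    · rw [← sup Q hQ hMQ H h.1.1.1 h.1.2, sup P hP hMP H h6 h.1.2]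
  obtain ⟨⟨h2, h3⟩, h4⟩ := mem_fs.1 hH
  obtain ⟨Q, hQ, h5⟩ := Syl.exists_ge (pgroup_sup (IsPGroup.of_card h2) (IsPGroup.of_card hM1) h4) le_top
  refine card_eq_one.2 ⟨Q, eq_singleton_iff_unique_mem.2 ⟨mem_fs.2 ⟨⟨⟨hQ, le_sup_right.trans h5⟩,
    fun e => h3 (le_sup_left.trans (h5.trans e.le))⟩, le_sup_left.trans h5⟩, fun Q' hQ' => ?_⟩⟩
  obtain ⟨⟨⟨h6, h7⟩, -⟩, h8⟩ := mem_fs.1 hQ'
  rw [← sup Q' h6 h7 H h8 fun h => h3 (h.trans hMP),
    sup Q hQ (le_sup_right.trans h5) H (le_sup_left.trans h5) fun h => h3 (h.trans hMP)]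

theorem nsub_modEq_sylow {P : Subgroup G} {n a : ℕ} (hP : Syl p P ⊤) (hn : Nat.card P = p ^ (n + 1)) (ha : a ≤ n) :
    nsub (⊤ : Subgroup G) (p ^ a) ≡ nsub P (p ^ a) [MOD p ^ 2] := by
  have h1 := sum_card_fs (fun M => (M ≤ P ∧ Nat.card P = p * Nat.card M) ∧ ⊥ ≤ M)
    (fun H => Nat.card H = p ^ a ∧ ¬ H ≤ P) fun M H => M ≤ 𝐍(H)
  have h2 := h1 ▸ dvd_sum fun M hM => sq_dvd_card_norm hP hn ha hM
  have hlt : ∀ H : Subgroup G, Nat.card H = p ^ a ∧ ¬ H ≤ P → P ⊓ 𝐍(H) < P := fun H hH =>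
    inf_lt_left.2 fun h => hH.2 (hP.ge_of_norm_p le_top (IsPGroup.of_card hH.1) h)
  rw [← sum_filter_add_sum_filter_not _ fun H => ∃ M ∈ hyp p ⊥ P, M ≤ 𝐍(H), sum_congr rfl (g := fun _ => 1)
    fun H hH => ?_, sum_const, smul_eq_mul, mul_one, sum_eq_zero fun H hH => ?_, add_zero] at h2
  · have h3 : p ^ 2 ∣ #((fs fun H : Subgroup G => Nat.card H = p ^ a ∧ ¬ H ≤ P).filter
        fun H => ¬ ∃ M ∈ hyp p ⊥ P, M ≤ 𝐍(H)) := by
      rw [← Set.ncard_coe_finset]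
      refine dvd_ncard_of_classes (fun H => {Y | ∃ g ∈ P, g ⋆ H = Y}) (fun H _ => ⟨1, one_mem _, conj_one H⟩)
        ?_ ?_ fun H hH => ?_
      · rintro H hH _ ⟨g, hg, rfl⟩
        obtain ⟨h3, h4⟩ := mem_filter.1 hH
        refine mem_filter.2 ⟨mem_fs.2 ⟨(card_conj g H).trans (mem_fs.1 h3).1, fun h => (mem_fs.1 h3).2
          (conj_le_conj_iff.1 (h.trans (conj_eq_of_mem hg).ge))⟩, fun ⟨M, hM, h⟩ => h4 ⟨g⁻¹ ⋆ M, mem_hyp.2
            ⟨⟨conj_le_of_mem (mem_hyp.1 hM).1.1 (inv_mem hg), by rw [card_conj, (mem_hyp.1 hM).1.2]⟩, bot_le⟩, ?_⟩⟩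
        rwa [← le_conj_iff_inv_conj_le, conj_normalizer]
      · rintro H - _ ⟨g, hg, rfl⟩
        exact Set.ext fun Y => ⟨fun ⟨k, hk, e⟩ => ⟨k * g, mul_mem hk hg, by rw [← conj_conj, e]⟩,
          fun ⟨k, hk, e⟩ => ⟨k * g⁻¹, mul_mem hk (inv_mem hg), by rw [conj_conj, inv_mul_cancel_right, e]⟩⟩
      obtain ⟨h3, h4⟩ := mem_filter.1 hH
      have h5 := Core.card_inf_mul_relIndex 𝐍(H) P
      obtain ⟨j, -, e⟩ := (Nat.dvd_prime_pow hp.out).1 (hn ▸ BG.relIndex_dvd_card 𝐍(H) P)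
      rw [ncard_orb, e]
      refine pow_dvd_pow p (by_contra fun h => ?_)
      rw [e, inf_comm] at h5
      obtain rfl | rfl : j = 0 ∨ j = 1 := by omega
      · exact (card_lt_of_lt (hlt H (mem_fs.1 h3))).ne (by simpa using h5)
      · exact h4 ⟨_, mem_hyp.2 ⟨⟨inf_le_left, by rw [← h5, pow_one, mul_comm]⟩, bot_le⟩, inf_le_right⟩
    have h4 := dvd_add h2 h3
    rw [card_filter_add_card_filter_not] at h4
    rw [nsub, ← card_filter_add_card_filter_not (· ≤ P)]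
    rw [← add_zero (nsub P _)]
    refine Nat.ModEq.add (congrArg (· % p ^ 2) (congrArg card ?_))
      (Nat.modEq_zero_iff_dvd.2 (h4.trans (dvd_of_eq (congrArg card ?_))))
    · ext; simp [and_comm]
    · ext; simp
  · exact card_eq_zero.2 (eq_empty_of_forall_notMem fun M hM => (mem_filter.1 hH).2 ⟨M, mem_hyp.2 (mem_fs.1 hM).1,
      (mem_fs.1 hM).2⟩)
  · obtain ⟨h3, M, hM, h4⟩ := mem_filter.1 hH
    have h5 : ∀ M ∈ hyp p ⊥ P, M ≤ 𝐍(H) → P ⊓ 𝐍(H) = M := fun M hM h =>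
      (PGroup.eq_or_eq_of_card_eq_prime_mul hp.out (le_inf (mem_hyp.1 hM).1.1 h) inf_le_left
        (mem_hyp.1 hM).1.2).resolve_right (hlt H (mem_fs.1 h3)).ne
    exact card_eq_one.2 ⟨M, eq_singleton_iff_unique_mem.2 ⟨mem_fs.2 ⟨mem_hyp.1 hM, h4⟩, fun M' hM' =>
      (h5 M' (mem_hyp.2 (mem_fs.1 hM').1) (mem_fs.1 hM').2).symm.trans (h5 M hM h4)⟩⟩

end Cfsg.Lib.FGS
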