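import Cfsg.Agent.Lib.FGS.Regular
import Cfsg.Agent.Lib.FGS.CycSylow
import Cfsg.Agent.Lib.PGroup.Metacyclic

/-!
# Metacyclic `p`-groups, `p` odd (Héthelyi–Külshammer)
-/

set_option autoImplicit false

namespace Cfsg.Lib.FGS

open Subgroup Cfsg.Lib.BG Cfsg.Lib.RegP Cfsg.Lib.PGroup
open scoped commutatorElement

variable {G : Type*} [Group G] [Finite G] {p : ℕ} [hp : Fact p.Prime]

theorem le_zpowers_pow {a : G} {A : Subgroup G} (h : A < zpowers a) (ha : IsPGroup p (zpowers a)) :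
    A ≤ zpowers (a ^ p) := fun x hx => by
  obtain ⟨k, rfl⟩ := h.le hx
  by_cases hk : (p : ℤ) ∣ k
  · obtain ⟨j, rfl⟩ := hk
    exact ⟨j, by simp [zpow_mul]⟩
  refine absurd (zpowers_le.2 (zpowers_le.2 hx (mem_zpowers_zpow_iff.2 ?_))) h.not_ge
  obtain ⟨n, hn⟩ := ha.exists_card_eq
  rw [← Nat.card_zpowers, hn]
  exact ((hp.out.coprime_iff_not_dvd.2 fun h => hk (Int.natCast_dvd.2 h)).pow_left _).symm

theorem reg_of_isCyclic (hp2 : p ≠ 2) (hG : IsPGroup p G) (hc : IsCyclic ↥⁅(⊤ : Subgroup G), (⊤ : Subgroup G)⁆) :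
    Reg p G := by
  refine ⟨hG, fun a b => ⟨_, hall_petresco ?_ (fun x hx => by simpa using pow_mem_powerClosure (p := p) (n := 1) hx)
    (left_mem a b) (right_mem a b), (mul_inv_cancel_left _ _).symm⟩⟩
  generalize closure {a, b} = H
  refine (Subgroup.lowerCentralSeries_antitone H (show 2 ≤ p - 1 by have := hp.out.two_le; omega)).trans ?_
  change ⁅⁅H, H⁆, H⁆ ≤ _
  by_cases h : ⁅H, H⁆ = ⊥
  · simp [h]
  obtain ⟨c, hc, e⟩ := cyclic_iff.1 (cyclic_of_le hc (der_mono (le_top (a := H))))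
  have := commutator_lt (hG.to_subgroup _) (hG.to_subgroup H) (norm_der (le_norm H)) h
  rw [← e] at this ⊢
  exact (le_zpowers_pow this (hG.to_subgroup _)).trans
    (zpowers_le.2 (by simpa using pow_mem_powerClosure (p := p) (n := 1) (mem_zpowers c)))

theorem pow_le_relIndex (hG : IsPGroup p G) {K H : Subgroup G} {y : G} (hy : y ∈ H) {n : ℕ}
    (h : ∀ j, y ^ p ^ j ∈ K → n ≤ j) : p ^ n ≤ K.relIndex H := by
  refine le_trans ?_ (relIndex_le_of_le_right (zpowers_le.2 hy) index_ne_zero_of_finite)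
  obtain ⟨j, hj⟩ := (hG.to_subgroup (zpowers y)).index (K.subgroupOf _)
  rw [relIndex, hj]
  exact Nat.pow_le_pow_right hp.out.pos (h j (hj ▸ pow_index_mem (K.subgroupOf (zpowers y)) ⟨y, mem_zpowers y⟩))

theorem card_sup_zpowers_le {M : Subgroup G} {x : G} (hx : x ∈ 𝐍(M)) (h : x ^ p ∈ M) :
    Nat.card ↥(M ⊔ zpowers x) ≤ p * Nat.card M := by
  by_cases hM : x ∈ M
  · rw [sup_eq_left.2 (zpowers_le.2 hM)]; exact Nat.le_mul_of_pos_left _ hp.out.pos
  · exact (card_sup_zpowers hx hM h).le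

/-- A metacyclic `p`-group, `p` odd. -/
structure MP (p : ℕ) (G : Type*) [Group G] : Prop where
  odd : p ≠ 2
  pg : IsPGroup p G
  mc : IsMetacyclic G

namespace MP

variable (h : MP p G)
include h

omit hp [Finite G] in
theorem sub (H : Subgroup G) : IsMetacyclic H := isMetacyclic_of_injective H.subtype H.subtype_injective h.mc

omit hp in
theorem cyc (H : Subgroup G) : IsCyclic ↥⁅H, H⁆ := isCyclic_commutator_of_isMetacyclic (h.sub H)

theorem reg : Reg p G := reg_of_isCyclic h.odd h.pg (h.cyc ⊤)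

omit hp in
theorem norm {A : Subgroup G} (hA : A ≤ ⁅(⊤ : Subgroup G), (⊤ : Subgroup G)⁆) (H : Subgroup G) : H ≤ 𝐍(A) :=
  le_top.trans ((norm_der (le_norm ⊤)).trans (norm_le_of_le_cyclic (h.cyc ⊤) hA))

omit hp in
theorem der_eq {a b : G} {H : Subgroup G} (e : closure {a, b} = H) : ⁅H, H⁆ = zpowers ⁅a, b⁆ :=
  e ▸ le_antisymm (comm_pair_le (h.norm (zpowers_le.2 (commutator_mem_commutator trivial trivial)) _) (mem_zpowers _))
    (zpowers_le.2 (commutator_mem_commutator (left_mem a b) (right_mem a b)))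

theorem mem_pow {H : Subgroup G} {k : ℕ} {y : G} : y ∈ powerClosure p k H ↔ ∃ x ∈ H, y = x ^ p ^ k :=
  ⟨h.reg.exists_pow_mul_pow k H y, by rintro ⟨x, hx, rfl⟩; exact pow_mem_powerClosure hx⟩

theorem pow_pow (H : Subgroup G) (k l : ℕ) : powerClosure p l (powerClosure p k H) = powerClosure p (k + l) H := by
  ext y
  simp only [h.mem_pow]
  exact ⟨by rintro ⟨_, ⟨x, hx, rfl⟩, rfl⟩; exact ⟨x, hx, by rw [← pow_mul, ← pow_add]⟩,
    by rintro ⟨x, hx, rfl⟩; exact ⟨_, ⟨x, hx, rfl⟩, by rw [← pow_mul, ← pow_add]⟩⟩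

theorem gen (H : Subgroup G) : ∃ a b : G, closure {a, b} = H ∧ ⁅a, b⁆ ∈ zpowers (a ^ p) := by
  obtain ⟨a, b, h1, h2⟩ := isMetacyclic_subgroup_iff.1 (h.sub H)
  refine ⟨a, b, by rw [← h2, Set.insert_eq, Subgroup.closure_union, zpowers_eq_closure, zpowers_eq_closure], ?_⟩
  by_cases ha : zpowers a = ⊥
  · simp [zpowers_eq_bot.1 ha]
  exact le_zpowers_pow (commutator_lt (h.pg.to_subgroup _) (h.pg.to_subgroup _) (zpowers_le.2 h1) ha)
    (h.pg.to_subgroup _) (commutator_mem_commutator (mem_zpowers a) (mem_zpowers b))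

theorem der_le (H : Subgroup G) : ⁅H, H⁆ ≤ powerClosure p 1 H := by
  obtain ⟨a, b, e, h1⟩ := h.gen H
  rw [h.der_eq e]
  exact zpowers_le.2 (zpowers_le.2 (by simpa using pow_mem_powerClosure (p := p) (n := 1) (e ▸ left_mem a b)) h1)

theorem phi_eq (H : Subgroup G) : 𝚽(H) = powerClosure p 1 H := by
  rw [map_subtype_frattini_eq (h.pg.to_subgroup H), sup_eq_right.2 (h.der_le H)]

theorem norm_ge {H K : Subgroup G} (h1 : powerClosure p 1 H ≤ K) (h2 : K ≤ H) : H ≤ 𝐍(K) :=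
  norm_of_comm_le ((comm_le_der h2 le_rfl).trans ((h.der_le H).trans h1))

theorem card_le (H : Subgroup G) : Nat.card H ≤ p ^ 2 * Nat.card (powerClosure p 1 H) := by
  obtain ⟨a, b, e, -⟩ := h.gen H
  have ha : a ∈ H := e ▸ left_mem a b
  have hb : b ∈ H := e ▸ right_mem a b
  have h1 := card_sup_zpowers_le (h.norm_ge le_rfl (powerClosure_le 1 H) ha)
    (by simpa using pow_mem_powerClosure (p := p) (n := 1) ha)
  have h2 := card_sup_zpowers_le (h.norm_ge le_sup_left (sup_le (powerClosure_le 1 H) (zpowers_le.2 ha)) hb)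
    (mem_sup_left (by simpa using pow_mem_powerClosure (p := p) (n := 1) hb))
  refine (card_le_of_le (e.ge.trans (pair_le (mem_sup_left (mem_sup_right (mem_zpowers a)))
    (mem_sup_right (mem_zpowers b))))).trans (h2.trans ?_)
  rw [sq, mul_assoc]
  exact Nat.mul_le_mul_left p h1

theorem card_le_pow (H : Subgroup G) (k : ℕ) : Nat.card H ≤ p ^ (2 * k) * Nat.card (powerClosure p k H) := by
  induction k with
  | zero => simp [powerClosure_zero]
  | succ k ih =>
    rw [mul_add, pow_add, mul_assoc, ← h.pow_pow]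
    exact ih.trans (Nat.mul_le_mul_left _ (h.card_le _))

theorem closure_eq {H : Subgroup G} {x y : G} (hx : x ∈ H) (hy : y ∈ H) (h1 : x ∉ powerClosure p 1 H)
    (h2 : y ∉ powerClosure p 1 H ⊔ zpowers x) : closure {x, y} = H := by
  have h3 := card_sup_zpowers (h.norm_ge le_rfl (powerClosure_le 1 H) hx) h1
    (by simpa using pow_mem_powerClosure (p := p) (n := 1) hx)
  have h5 := sup_le (powerClosure_le (p := p) 1 H) (zpowers_le.2 hx)
  have h4 := card_sup_zpowers (h.norm_ge le_sup_left h5 hy) h2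
    (mem_sup_left (by simpa using pow_mem_powerClosure (p := p) (n := 1) hy))
  refine eq_of_sup_map_subtype_frattini (pair_le hx hy) ?_
  rw [h.phi_eq]
  refine (eq_of_le_of_card_le (sup_le h5 (zpowers_le.2 hy)) (by
    rw [h4, h3, ← mul_assoc, ← sq]; exact h.card_le H)).ge.trans ?_
  exact sup_le (sup_le le_sup_right ((zpowers_le.2 (left_mem x y)).trans le_sup_left))
    ((zpowers_le.2 (right_mem x y)).trans le_sup_left)

theorem sup_lt {H : Subgroup G} (hc : ¬ IsCyclic H) {x : G} (hx : x ∈ H) : powerClosure p 1 H ⊔ zpowers x < H :=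
  lt_of_le_of_ne (sup_le (powerClosure_le 1 H) (zpowers_le.2 hx)) fun e => hc (by
    rw [← eq_of_sup_map_subtype_frattini (zpowers_le.2 hx) (by rw [h.phi_eq, sup_comm, e])]; infer_instance)

theorem exists_closure_eq {H : Subgroup G} (hc : ¬ IsCyclic H) {x : G} (hx : x ∈ H) (h1 : x ∉ powerClosure p 1 H) :
    ∃ y, closure {x, y} = H := by
  obtain ⟨y, hy, h2⟩ := SetLike.exists_of_lt (h.sup_lt hc hx)
  exact ⟨y, h.closure_eq hx hy h1 h2⟩

theorem commute_iff (a b : G) (i j : ℕ) : Commute (a ^ p ^ i) (b ^ p ^ j) ↔ ⁅a, b⁆ ^ p ^ (i + j) = 1 := by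
  rw [Commute.symm_iff, h.reg.commute_pow_iff, ← commutatorElement_inv, inv_pow, inv_eq_one, ← h.reg.commute_pow_iff,
    ← pow_mul, ← pow_add, h.reg.commute_pow_iff]

theorem comm_pow_iff (a b : G) (i j : ℕ) : ⁅a ^ p ^ i, b⁆ ^ p ^ j = 1 ↔ ⁅a, b⁆ ^ p ^ (i + j) = 1 := by
  rw [← h.reg.commute_pow_iff, ← pow_mul, ← pow_add, h.reg.commute_pow_iff]

omit h hp [Finite G] in
theorem pow_card_eq_one_of_mem {A : Subgroup G} {x : G} (hx : x ∈ A) : x ^ Nat.card A = 1 :=
  congrArg Subtype.val (pow_card_eq_one' (x := (⟨x, hx⟩ : A)))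

theorem card_le_of_pow {M : Subgroup G} {m n : ℕ} (hm : Nat.card ↥⁅M, M⁆ = p ^ m) (hn : ⁅M, M⁆ ≤ h.reg.om n) : m ≤ n := by
  obtain ⟨c, hc, e⟩ := cyclic_iff.1 (h.cyc M)
  rw [← Nat.pow_dvd_pow_iff_le_right hp.out.one_lt, ← hm, ← e, Nat.card_zpowers]
  exact orderOf_dvd_of_pow_eq_one (h.reg.mem_om.1 (hn hc))

theorem card_der_max {H M : Subgroup G} (hM : M ≤ H) (hc : Nat.card H = p * Nat.card M) (hH : ¬ IsMulCommutative H) :
    Nat.card ↥⁅H, H⁆ = p * Nat.card ↥⁅M, M⁆ := by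
  have hnc : ¬ IsCyclic H := fun e => hH (abelian_of_cyclic e)
  have hP := h.pg.to_subgroup H
  have hΦ : powerClosure p 1 H ≤ M := by
    have hN := le_normalizer_of_card_eq_mul hP hM hc
    refine powerClosure_le_iff.2 fun x hx => ?_
    have h1 := BG.card_mul_relIndex hM
    rw [hc, mul_comm p] at h1
    haveI := (normal_subgroupOf_iff_le_normalizer hM).2 hN
    rw [pow_one, ← Nat.eq_of_mul_eq_mul_left Nat.card_pos h1]
    exact pow_index_mem (M.subgroupOf H) ⟨x, hx⟩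
  have hlt : M < H := lt_of_le_of_ne hM fun e => by
    rw [e] at hc; nlinarith [hp.out.one_lt, Nat.card_pos (α := H)]
  obtain ⟨y, hy, hyM⟩ := SetLike.exists_of_lt hlt
  obtain ⟨x, hx, hx1⟩ : ∃ x ∈ M, x ∉ powerClosure p 1 H := by
    by_contra! h1
    refine (h.sup_lt hnc hy).ne ((eq_or_eq_of_card_eq_prime_mul hp.out (le_sup_left.trans' h1)
      (h.sup_lt hnc hy).le hc).resolve_left fun e => hyM (e ▸ mem_sup_right (mem_zpowers y)))
  have e := h.closure_eq (hM hx) hy hx1 fun h1 => hyM (sup_le hΦ (zpowers_le.2 hx) h1)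
  have hMe : M = powerClosure p 1 H ⊔ zpowers x := by
    refine (eq_of_le_of_card_le (sup_le hΦ (zpowers_le.2 hx)) (Nat.le_of_mul_le_mul_left ?_ hp.out.pos)).symm
    rw [← hc, card_sup_zpowers (h.norm_ge le_rfl (powerClosure_le 1 H) (hM hx)) hx1
      (by simpa using pow_mem_powerClosure (p := p) (n := 1) (hM hx)), ← mul_assoc, ← sq]
    exact h.card_le H
  obtain ⟨n, hn⟩ := (h.pg.to_subgroup ⁅H, H⁆).exists_card_eq
  obtain ⟨m, hm⟩ := (h.pg.to_subgroup ⁅M, M⁆).exists_card_eq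
  have ho : ∀ k, ⁅x, y⁆ ^ p ^ k = 1 ↔ n ≤ k := fun k => by
    rw [← orderOf_dvd_iff_pow_eq_one, ← Nat.card_zpowers, ← h.der_eq e, hn, Nat.pow_dvd_pow_iff_le_right hp.out.one_lt]
  obtain ⟨n, rfl⟩ : ∃ k, n = k + 1 := ⟨n - 1, by
    by_contra h1
    obtain rfl : n = 0 := by omega
    exact hH (abelian_iff_der.2 (Subgroup.card_eq_one.1 hn))⟩
  rw [hn, hm, ← pow_succ']
  congr 1
  refine le_antisymm ((ho _).1 ?_) (Nat.succ_le_succ ?_)
  · rw [← commutatorElement_inv, inv_pow, inv_eq_one, add_comm, ← h.comm_pow_iff, ← hm]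
    exact pow_card_eq_one_of_mem (commutator_mem_commutator (hΦ (pow_mem_powerClosure hy)) hx)
  refine h.card_le_of_pow hm ?_
  have h1 : ∀ a ∈ powerClosure p 1 H, ∀ b ∈ H, ⁅a, b⁆ ∈ h.reg.om n := fun a ha b hb => by
    obtain ⟨a, ha', rfl⟩ := h.mem_pow.1 ha
    rw [Reg.mem_om, h.comm_pow_iff, add_comm, ← hn]
    exact pow_card_eq_one_of_mem (commutator_mem_commutator ha' hb)
  rw [hMe, zpowers_eq_closure, ← Subgroup.closure_eq (powerClosure p 1 H), ← Subgroup.closure_union]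
  refine comm_closure_le le_normalizer_of_normal ?_
  rintro a (ha | rfl) b (hb | rfl)
  · exact h1 a ha b (powerClosure_le 1 H hb)
  · exact h1 a ha b (hM hx)
  · rw [← commutatorElement_inv]; exact inv_mem (h1 b hb a (hM hx))
  · simp

theorem card_der (H : Subgroup G) : ∀ L ≤ H, (IsMulCommutative L → Nat.card L * Nat.card ↥⁅H, H⁆ ≤ Nat.card H) ∧
    (¬ IsMulCommutative L → Nat.card ↥⁅L, L⁆ * Nat.card H = Nat.card ↥⁅H, H⁆ * Nat.card L) := by
  induction H using WellFoundedLT.induction with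
  | ind H ih =>
  intro L hL
  by_cases hH : IsMulCommutative H
  · exact ⟨fun _ => by simpa [abelian_iff_der.1 hH] using card_le_of_le hL, fun h1 => (h1 (abelian_of_le hH hL)).elim⟩
  rcases hL.eq_or_lt with rfl | hL
  · exact ⟨fun h1 => (hH h1).elim, fun _ => rfl⟩
  obtain ⟨M, h1, h2, -, h3⟩ := exists_card_mul_eq_of_lt (h.pg.to_subgroup H) hL
  obtain ⟨h4, h5⟩ := ih M (lt_of_le_of_ne h2 fun e => by
    rw [e] at h3; nlinarith [hp.out.one_lt, Nat.card_pos (α := H)]) L h1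
  rw [h.card_der_max h2 h3 hH, h3]
  exact ⟨fun h6 => by nlinarith [h4 h6], fun h6 => by linear_combination p * h5 h6⟩

theorem comm_iff (L : Subgroup G) : IsMulCommutative L ↔ Nat.card L ≤ (_root_.commutator G).index := by
  have h1 := (_root_.commutator G).card_mul_index
  obtain ⟨h2, h3⟩ := h.card_der ⊤ L le_top
  rw [card_top, ← h1] at h2 h3
  change _ → _ * Nat.card (_root_.commutator G) ≤ _ at h2
  change _ → _ = Nat.card (_root_.commutator G) * _ at h3
  have h4 := Nat.card_pos (α := _root_.commutator G)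
  refine ⟨fun h5 => Nat.le_of_mul_le_mul_left (mul_comm (Nat.card L) _ ▸ h2 h5) h4, fun h5 => by_contra fun h6 => ?_⟩
  have h7 : 1 < Nat.card ↥⁅L, L⁆ := (one_lt_card_iff_ne_bot _).2 fun e => h6 (abelian_iff_der.2 e)
  have h8 := h3 h6
  have h9 := Nat.pos_of_ne_zero (index_ne_zero_of_finite (H := _root_.commutator G))
  nlinarith [Nat.mul_le_mul_left (Nat.card (_root_.commutator G)) h5, Nat.mul_pos h4 h9]

theorem index_der {L : Subgroup G} (hL : ¬ IsMulCommutative L) :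
    Nat.card ↥⁅L, L⁆ * (_root_.commutator G).index = Nat.card L := by
  have h1 := (h.card_der ⊤ L le_top).2 hL
  rw [card_top, ← (_root_.commutator G).card_mul_index, mul_left_comm] at h1
  exact Nat.eq_of_mul_eq_mul_left Nat.card_pos h1

theorem relIndex_cent_le {K : Subgroup G} {g : G} {k : ℕ} (hk : ∀ x ∈ K, ⁅x, g⁆ ^ p ^ k = 1) :
    𝐂[g].relIndex K ≤ p ^ k := by
  refine (relIndex_centralizer_le_card (N := ⁅(⊤ : Subgroup G), (⊤ : Subgroup G)⁆ ⊓ h.reg.om k) fun x hx =>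
    ⟨commutator_mem_commutator trivial trivial, h.reg.mem_om.2 (hk x hx)⟩).trans ?_
  obtain ⟨c, hc, e⟩ := cyclic_iff.1 (cyclic_of_le (h.cyc ⊤) (inf_le_left (b := h.reg.om k)))
  rw [← e, Nat.card_zpowers]
  exact Nat.le_of_dvd (pow_pos hp.out.pos _) (orderOf_dvd_of_pow_eq_one (h.reg.mem_om.1 hc.2))

theorem measure_mono {R T : Subgroup G} (hRT : R ≤ T) :
    Nat.card R * Nat.card 𝐂(R) ≤ Nat.card T * Nat.card 𝐂(T) := by
  induction R using WellFoundedGT.induction with
  | ind R ih =>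
  rcases hRT.eq_or_lt with rfl | hlt
  · rfl
  obtain ⟨x, hx, h1, h2, h3⟩ := exists_mem_normalizer_of_lt (h.pg.to_subgroup T) hlt
  refine le_trans ?_ (ih (R ⊔ zpowers x) (left_lt_sup.2 fun e => h1 (e (mem_zpowers x))) (sup_le hRT (zpowers_le.2 hx)))
  rw [card_sup_zpowers h3 h1 h2, cent_sup, cent_zpowers, ← card_inf_mul_relIndex 𝐂[x] 𝐂(R), inf_comm]
  have := h.relIndex_cent_le (K := 𝐂(R)) (g := x) (k := 1) fun c hc => by
    rw [← zero_add 1, ← h.commute_iff, pow_zero, pow_one, pow_one]; exact (mem_cent.1 hc _ h2).symm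
  rw [pow_one] at this
  calc _ ≤ Nat.card R * (Nat.card ↥(𝐂(R) ⊓ 𝐂[x]) * p) := by gcongr
    _ = _ := by ring

theorem measure_top {R : Subgroup G} : Nat.card R * Nat.card 𝐂(R) ≤ Nat.card G * Nat.card (center G) := by
  simpa [centralizer_univ] using h.measure_mono (le_top (a := R))

theorem measure_eq {R : Subgroup G} (hR : center G ≤ R) :
    Nat.card R * Nat.card 𝐂(R) = Nat.card G * Nat.card (center G) := by
  refine le_antisymm h.measure_top (le_trans (le_of_eq ?_) (h.measure_mono hR))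
  rw [centralizer_eq_top_iff_subset.2 le_rfl, card_top, mul_comm]

variable {n : ℕ} (hn : Nat.card (_root_.commutator G) = p ^ n)
include hn

theorem index_cent_le (y : G) {t : ℕ} (ht : t ≤ n) : 𝐂[y ^ p ^ t].index ≤ p ^ (n - t) := by
  rw [← relIndex_top_right]
  refine h.relIndex_cent_le fun x _ => ?_
  rw [← h.reg.commute_pow_iff, h.commute_iff, Nat.sub_add_cancel ht, ← hn]
  exact pow_card_eq_one_of_mem (commutator_mem_commutator trivial trivial)

theorem le_of_commute {x y : G} (e : closure {x, y} = ⊤) {i j : ℕ} (hc : Commute (x ^ p ^ i) (y ^ p ^ j)) : n ≤ i + j := by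
  rwa [h.commute_iff, ← orderOf_dvd_iff_pow_eq_one, ← Nat.card_zpowers, ← h.der_eq e, ← _root_.commutator_def, hn,
    Nat.pow_dvd_pow_iff_le_right hp.out.one_lt] at hc

omit h in
theorem not_cyclic (h0 : n ≠ 0) : ¬ IsCyclic (⊤ : Subgroup G) := fun hc => by
  rw [_root_.commutator_def, abelian_iff_der.1 (abelian_of_cyclic hc), Subgroup.card_bot, eq_comm,
    Nat.pow_eq_one] at hn
  exact hn.elim hp.out.ne_one h0

theorem index_cent (h0 : n ≠ 0) {y : G} (hy : y ∉ powerClosure p 1 ⊤) {t : ℕ} (ht : t ≤ n) :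
    𝐂[y ^ p ^ t].index = p ^ (n - t) := by
  refine le_antisymm (h.index_cent_le hn y ht) ?_
  obtain ⟨x, e⟩ := h.exists_closure_eq (not_cyclic hn h0) trivial hy
  rw [← relIndex_top_right]
  exact pow_le_relIndex h.pg (mem_top x) fun j hj => by
    have := h.le_of_commute hn e (mem_cent1.1 hj).symm
    omega

theorem mem_pow_iff {s : ℕ} (hs : s ≤ n) {g : G} : g ∈ powerClosure p s ⊤ ↔ 𝐂[g].index ≤ p ^ (n - s) := by
  refine ⟨fun hg => ?_, fun hg => ?_⟩
  · obtain ⟨y, -, rfl⟩ := h.mem_pow.1 hg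
    exact h.index_cent_le hn y hs
  induction s with
  | zero => simp [powerClosure_zero]
  | succ s ih =>
    obtain ⟨y, -, rfl⟩ := h.mem_pow.1 (ih (by omega) (hg.trans (Nat.pow_le_pow_right hp.out.pos (by omega))))
    rw [add_comm, ← h.pow_pow]
    refine pow_mem_powerClosure (by_contra fun hy => ?_)
    rw [h.index_cent hn (by omega) hy (by omega), Nat.pow_le_pow_iff_right hp.out.one_lt] at hg
    omega

theorem pow_eq_center : powerClosure p n ⊤ = center G := by
  ext g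
  rw [h.mem_pow_iff hn le_rfl, Nat.sub_self, pow_zero, Nat.le_one_iff_eq_zero_or_eq_one,
    or_iff_right index_ne_zero_of_finite, index_eq_one, centralizer_eq_top_iff_subset]
  simp

theorem index_center : (center G).index = p ^ (2 * n) := by
  refine le_antisymm ?_ ?_
  · have := h.card_le_pow ⊤ n
    rw [h.pow_eq_center hn, card_top, ← (center G).index_mul_card] at this
    exact Nat.le_of_mul_le_mul_right this Nat.card_pos
  obtain ⟨x, y, e, -⟩ := h.gen ⊤
  have h1 : p ^ n ≤ 𝐂[x].relIndex ⊤ := pow_le_relIndex h.pg (mem_top y) fun j hj => by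
    simpa using h.le_of_commute hn e (i := 0) (by rw [pow_zero, pow_one]; exact (mem_cent1.1 hj).symm)
  have h2 : p ^ n ≤ 𝐂[y].relIndex 𝐂[x] := pow_le_relIndex h.pg (self_mem_cent1 x) fun j hj => by
    simpa using h.le_of_commute hn e (j := 0) (by rw [pow_zero, pow_one]; exact mem_cent1.1 hj)
  refine le_trans ?_ (Nat.le_of_dvd (Nat.pos_of_ne_zero index_ne_zero_of_finite) (index_dvd_of_le
    (le_inf (center_le_centralizer {y}) (center_le_centralizer {x}))))
  rw [← relIndex_mul_index inf_le_right, inf_relIndex_right, two_mul, pow_add]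
  exact Nat.mul_le_mul h2 (relIndex_top_right 𝐂[x] ▸ h1)

theorem card_pow {i : ℕ} (hi : i ≤ n) : Nat.card (powerClosure p (n - i) (⊤ : Subgroup G)) =
    Nat.card (center G) * p ^ (2 * i) := by
  have h1 := h.card_le_pow ⊤ (n - i)
  have h2 := h.card_le_pow (powerClosure p (n - i) ⊤) i
  rw [h.pow_pow, Nat.sub_add_cancel hi, h.pow_eq_center hn, mul_comm] at h2
  rw [card_top, ← (center G).index_mul_card, h.index_center hn, show 2 * n = 2 * (n - i) + 2 * i by omega, pow_add,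
    mul_assoc, mul_comm (p ^ (2 * i))] at h1
  exact le_antisymm h2 (Nat.le_of_mul_le_mul_left h1 (pow_pos hp.out.pos _))

omit hn in
theorem index_center' : (center G).index = Nat.card (_root_.commutator G) ^ 2 := by
  obtain ⟨n, hn⟩ := (h.pg.to_subgroup (_root_.commutator G)).exists_card_eq
  rw [h.index_center hn, hn, ← pow_mul, mul_comm]

omit hn in
theorem card_mul_card_center : Nat.card G * Nat.card (center G) = (_root_.commutator G).index ^ 2 := by
  have h1 := (center G).index_mul_card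
  have h2 := (_root_.commutator G).card_mul_index
  rw [h.index_center'] at h1
  refine Nat.eq_of_mul_eq_mul_left (pow_pos (Nat.card_pos (α := _root_.commutator G)) 2) ?_
  rw [← mul_pow, h2, mul_left_comm, h1, sq]

omit hn in
theorem max_iff (L : Subgroup G) :
    Maximal (fun K : Subgroup G => IsMulCommutative K) L ↔ Nat.card L = (_root_.commutator G).index := by
  refine ⟨fun hL => by_contra fun h1 => ?_, fun e => ⟨(h.comm_iff L).2 e.le, fun K hK h1 =>
    (eq_of_le_of_card_le h1 (e ▸ (h.comm_iff K).1 hK)).ge⟩⟩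
  have h2 := lt_of_le_of_ne ((h.comm_iff L).1 hL.1) h1
  obtain ⟨k, hk⟩ := h.pg.index (_root_.commutator G)
  obtain ⟨K, h3, -, h4⟩ := exists_between_card_eq_pow (h.pg.to_subgroup ⊤) (le_top (a := L)) (hk ▸ h2.le) (by
    rw [← hk, card_top]; exact Nat.le_of_dvd Nat.card_pos (index_dvd_card _))
  rw [le_antisymm h3 (hL.2 ((h.comm_iff K).2 (by rw [h4, hk])) h3), h4, hk] at h2
  exact lt_irrefl _ h2

end MP

end Cfsg.Lib.FGS
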