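import Cfsg.Agent.S4081
import Cfsg.Agent.Lib.Loc.PClosed
import Cfsg.Agent.Lib.Coprime.Sylow
import Cfsg.Agent.Lib.Solv.Schmidt
import Cfsg.Agent.Lib.BG.Hall

/-!
Irreducible action of an element of prime order on an elementary abelian group, and the
non-simple minimal non-`p`-closed groups.
-/

set_option autoImplicit false

namespace Cfsg.Lib.FGS

open Subgroup Cfsg.Lib.BG Cfsg.Lib.Transfer Polynomial Module

/-- An irreducible nontrivial module for an endomorphism of prime order `r` over a finite field has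
dimension the order of `|F|` modulo `r`. -/
theorem finrank_eq_orderOf_of_irred {F V : Type*} [Field F] [Finite F] [AddCommGroup V] [Module F V]
    [Module.Finite F V] {f : End F V} {r : ℕ} (hr : r.Prime) (h1 : f ^ r = 1) (h2 : f ≠ 1)
    (h : ∀ W : Submodule F V, (∀ v ∈ W, f v ∈ W) → W = ⊥ ∨ W = ⊤) :
    finrank F V = orderOf (Nat.card F : ZMod r) := by
  haveI : Nontrivial (End F V) := ⟨⟨f, 1, h2⟩⟩
  haveI : Nontrivial V := by
    by_contra hV
    rw [not_nontrivial_iff_subsingleton] at hV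
    exact h2 (Subsingleton.elim _ _)
  have hi : IsIntegral F f := LinearMap.isIntegral f
  have hc : ∀ (Q : F[X]) (v : V), f (aeval f Q v) = aeval f Q (f v) := fun Q v => by
    have : aeval f (X * Q) = aeval f (Q * X) := by rw [mul_comm]
    simpa using LinearMap.congr_fun this v
  obtain ⟨P, hPm, hP, R, hR⟩ := exists_monic_irreducible_factor _ (minpoly.not_isUnit F f)
  have hRm : R.Monic := hPm.of_mul_monic_left (hR ▸ minpoly.monic hi)
  have hR0 : aeval f R ≠ 0 := minpoly.aeval_ne_zero_of_dvdNotUnit_minpoly hi hRm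
    ⟨hRm.ne_zero, P, hP.not_isUnit, by rw [hR, mul_comm]⟩
  have hP0 : aeval f P = 0 := by
    rcases h (LinearMap.ker (aeval f P)) (fun v hv => by
      rw [LinearMap.mem_ker] at hv ⊢
      rw [← hc, hv, map_zero]) with e | e
    · refine absurd (LinearMap.ext fun v => ?_) hR0
      have : aeval f R v ∈ LinearMap.ker (aeval f P) := by
        rw [LinearMap.mem_ker, ← End.mul_apply, ← map_mul, ← hR, minpoly.aeval]; rfl
      rwa [e, Submodule.mem_bot] at this
    · exact LinearMap.ker_eq_top.1 e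
  have hμ : P = minpoly F f := minpoly.eq_of_irreducible_of_monic hP hP0 hPm
  rw [← GLC.natDegree_of_dvd_X_pow_prime hPm hP hr (hμ ▸ minpoly.dvd F f (by simp [h1]))
    (fun e => h2 (by simpa [e, sub_eq_zero] using hP0))]
  refine le_antisymm ?_ ?_
  · obtain ⟨v, hv⟩ := exists_ne (0 : V)
    let φ : F[X] →ₗ[F] V := (LinearMap.applyₗ v).comp (aeval f).toLinearMap
    have hφ : ∀ Q, φ Q = aeval f Q v := fun _ => rfl
    have hs : LinearMap.range φ = ⊤ := by
      refine (h _ ?_).resolve_left fun e => hv ?_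
      · rintro _ ⟨Q, rfl⟩
        exact ⟨X * Q, by simp [hφ]⟩
      · have : v ∈ LinearMap.range φ := ⟨1, by simp [hφ]⟩
        rwa [e, Submodule.mem_bot] at this
    have := LinearMap.finrank_le_finrank_of_surjective (f := φ.comp (degreeLT F P.natDegree).subtype) fun w => by
      obtain ⟨Q, rfl⟩ := LinearMap.range_eq_top.1 hs w
      refine ⟨⟨Q %ₘ P, mem_degreeLT.2 ?_⟩, ?_⟩
      · rw [← degree_eq_natDegree hPm.ne_zero]; exact degree_modByMonic_lt Q hPm
      · change aeval f (Q %ₘ P) v = aeval f Q v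
        rw [aeval_modByMonic_eq_self_of_root hP0]
    rwa [(degreeLTEquiv F P.natDegree).finrank_eq, finrank_fin_fun] at this
  · rw [hμ, ← f.charpoly_natDegree]
    exact natDegree_le_of_dvd (LinearMap.minpoly_dvd_charpoly f) f.charpoly_monic.ne_zero

variable {G : Type*} [Group G] [Finite G] {p : ℕ} [hp : Fact p.Prime]

theorem card_eq_pow_orderOf {q : ℕ} (hq : q.Prime) {A : Subgroup G} [A.Normal]
    (hA : IsElementaryAbelian q A) {x : G} (hx : x ^ p = 1) (hc : x ∉ 𝐂(A))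
    (h : ∀ B ≤ A, x ∈ 𝐍(B) → B = ⊥ ∨ B = A) : Nat.card A = q ^ orderOf (q : ZMod p) := by
  haveI := Fact.mk hq
  obtain ⟨c⟩ := PLocal.nonempty_elemAbCoord hA
  obtain ⟨f, hf⟩ := Cfsg.Agent.S4081.exists_conj c x
  have hf1 : ∀ u, c.e (f u) = x * c.e u * x⁻¹ := fun u => by simpa using hf 1 u
  have h1 := finrank_eq_orderOf_of_irred (f := f) hp.out
    (LinearMap.ext fun u => c.inj (by rw [hf, hx]; simp)) (fun e => hc (mem_centralizer_iff.2 fun a ha => by
      obtain ⟨u, rfl⟩ := (c.mem_iff a).1 ha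
      have := hf1 u
      rw [e] at this
      exact (mul_inv_eq_iff_eq_mul.1 this.symm).symm)) fun W hW => by
      let B : Subgroup G :=
        { carrier := c.e '' W
          one_mem' := ⟨0, W.zero_mem, c.map_zero⟩
          mul_mem' := by
            rintro _ _ ⟨u, hu, rfl⟩ ⟨w, hw, rfl⟩
            exact ⟨u + w, W.add_mem hu hw, c.map_add u w⟩
          inv_mem' := by
            rintro _ ⟨u, hu, rfl⟩
            exact ⟨-u, W.neg_mem hu, c.map_neg u⟩ }
      refine (h B (by rintro _ ⟨u, -, rfl⟩; exact c.mem u) (mem_normalizer_of_conj_le (conj_le_iff.2 ?_))).imp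
        (fun e => eq_bot_iff.2 fun u hu => ?_) fun e => eq_top_iff.2 fun u _ => ?_
      · rintro _ ⟨u, hu, rfl⟩
        exact ⟨f u, hW u hu, hf1 u⟩
      · have : c.e u ∈ B := ⟨u, hu, rfl⟩
        rw [e, Subgroup.mem_bot] at this
        exact c.eq_one_iff.1 this
      · obtain ⟨w, hw, e'⟩ : c.e u ∈ B := by rw [e]; exact c.mem u
        exact c.inj e' ▸ hw
  rw [finrank_fin_fun, Nat.card_zmod] at h1
  rw [← h1, ← Nat.card_congr (Equiv.ofBijective (fun u => (⟨c.e u, c.mem u⟩ : A))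
    ⟨fun u w e => c.inj (congrArg Subtype.val e), fun a => ((c.mem_iff a).1 a.2).imp fun _ e => Subtype.ext e⟩)]
  simp

theorem cent_of_isPClosed {H T K : Subgroup G} (hH : IsPClosed p H) (hT : T ≤ H) (hTp : IsPGroup p T)
    (hK : K ≤ H) (hn : H ≤ 𝐍(K)) (hc : (Nat.card K).Coprime p) : T ≤ 𝐂(K) := by
  refine (Loc.isPClosed_iff.1 hH T hT hTp).trans (Core.le_centralizer_of_coprime
    ((Core.pCoreOf_le p H).trans hn) (hK.trans (Core.le_normalizer_pCoreOf p H)) ?_)
  obtain ⟨k, hk⟩ := (Core.pCoreOf_isPGroup p H).exists_card_eq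
  exact hk ▸ hc.symm.pow_left k

theorem isPClosed_of_sylow_normal (P : Sylow p G) (h : (P : Subgroup G).Normal) : IsPClosed p G := fun Q => by
  haveI := Sylow.unique_of_normal P h
  exact Subsingleton.elim P Q ▸ h

theorem min_not_isPClosed (hnc : ¬ IsPClosed p G) (hsub : ∀ H : Subgroup G, H ≠ ⊤ → IsPClosed p H)
    (hquo : ∀ (N : Subgroup G) [N.Normal], N ≠ ⊥ → IsPClosed p (G ⧸ N)) (hns : ¬ IsSimpleGroup G) :
    ∃ q : ℕ, q.Prime ∧ q ≠ p ∧ Nat.card G = p * q ^ orderOf (q : ZMod p) ∧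
      ∃ A : Subgroup G, A.Normal ∧ Nat.card A = q ^ orderOf (q : ZMod p) ∧ IsElementaryAbelian q A ∧
        ∀ B : Subgroup G, B.Normal → B ≤ A → B = ⊥ ∨ B = A := by
  obtain ⟨P⟩ : Nonempty (Sylow p G) := inferInstance
  have hP : ¬ (P : Subgroup G).Normal := fun h => hnc (isPClosed_of_sylow_normal P h)
  have hP1 : (P : Subgroup G) ≠ ⊥ := fun e => hP (e ▸ inferInstance)
  haveI : Nontrivial G := by
    obtain ⟨x, hx⟩ := ne_bot_iff_exists_ne_one.1 hP1
    exact ⟨⟨x, 1, fun e => hx (Subtype.ext e)⟩⟩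
  obtain ⟨N₀, hN₀, h0, h1⟩ : ∃ N : Subgroup G, N.Normal ∧ N ≠ ⊥ ∧ N ≠ ⊤ := by
    by_contra! h
    exact hns ⟨fun N hN => or_iff_not_imp_left.2 (h N hN)⟩
  obtain ⟨N, hN, hNN⟩ := Core.exists_isMinNormal_le hN₀ h0
  haveI := hN.normal
  have hNt : N ≠ ⊤ := fun e => h1 (top_le_iff.1 (e ▸ hNN))
  have hO : pCore p G = ⊥ := by
    by_contra e
    refine hnc (Loc.isPClosed_top_iff.1 (Loc.isPClosed_of_map (f := QuotientGroup.mk' (pCore p G))
      (by rw [QuotientGroup.ker_mk']; exact Core.pCore_isPGroup p G) ?_))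
    rw [map_top_of_surjective _ (QuotientGroup.mk'_surjective _)]
    exact Loc.isPClosed_top_iff.2 (hquo _ e)
  have hcl : ∀ K : Subgroup G, K.Normal → K ≠ ⊤ → ∀ T ≤ K, IsPGroup p T → T = ⊥ := fun K _ hK T h1 h2 =>
    le_bot_iff.1 (hO ▸ (Loc.isPClosed_iff.1 (hsub K hK) T h1 h2).trans (Core.pCoreOf_le_pCore K))
  have hPN : (P : Subgroup G) ⊔ N = ⊤ := by
    by_contra e
    refine hP1 (hcl _ ?_ e P le_sup_left P.2)
    have := (hquo N hN.ne_bot (P.mapSurjective (QuotientGroup.mk'_surjective N))).comap (QuotientGroup.mk' N)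
    rwa [Sylow.coe_mapSurjective, comap_map_eq, QuotientGroup.ker_mk'] at this
  have hcop : (Nat.card N).Coprime p :=
    card_coprime_of_normal_inf_sylow_eq_bot N P (hcl N ‹_› hNt _ inf_le_left P.2.to_inf_right)
  have hcent : ∀ T K : Subgroup G, IsPGroup p T → K ≤ N → T ≤ 𝐍(K) → T ⊔ K ≠ ⊤ → T ≤ 𝐂(K) :=
    fun T K h1 h2 h3 h4 => cent_of_isPClosed (hsub _ h4) le_sup_left h1 le_sup_right (sup_le h3 le_normalizer)
      (hcop.coprime_dvd_left (card_dvd_of_le h2))
  obtain ⟨q, hq, hNq⟩ : ∃ q : ℕ, q.Prime ∧ IsPGroup q N := by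
    by_contra! hq
    obtain ⟨k, hk⟩ := P.2.exists_card_eq
    haveI := P.2.isNilpotent
    have : N ≤ 𝐂((P : Subgroup G)) := Coprime.le_of_forall_invariant_pgroup_le (A := P) le_normalizer_of_normal
      (hk ▸ hcop.symm.pow_left k) (Or.inl inferInstance) fun q Q h1 h2 h3 _ h5 => by
        by_cases e : (P : Subgroup G) ⊔ Q = ⊤
        · rcases hN.min_invariant Q (e ▸ sup_le h5 le_normalizer) h2 with rfl | rfl
          exacts [bot_le, absurd h3 (hq q h1)]
        · exact le_centralizer_iff.1 (hcent P Q P.2 h2 h5 e)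
    exact hP (normalizer_eq_top_iff.1 (top_le_iff.1 (hPN ▸ sup_le le_normalizer
      (this.trans (centralizer_le_normalizer _)))))
  haveI := Fact.mk hq
  have hA := hN.isElementaryAbelian_of_isPGroup hNq
  have hqp : q ≠ p := by
    rintro rfl
    exact hN.ne_bot (hcl N ‹_› hNt N le_rfl hNq)
  have hC : (P : Subgroup G) ⊓ 𝐂(N) = ⊥ := by
    refine le_bot_iff.1 (hO ▸ Core.le_pCore (normalizer_eq_top_iff.1 (top_le_iff.1 (hPN ▸ sup_le ?_ ?_)))
      P.2.to_inf_left)
    · exact (le_inf le_normalizer le_normalizer_of_normal).trans inf_normalizer_le_normalizer_inf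
    · exact (le_centralizer_iff.1 inf_le_right).trans (centralizer_le_normalizer _)
  obtain ⟨x, hxP, hx⟩ := Core.exists_mem_orderOf_eq_prime hp.out
    (P.2.card_eq_or_dvd.resolve_left (mt card_eq_one.1 hP1))
  have hxC : x ∉ 𝐂(N) := fun h => by
    have : x ∈ (P : Subgroup G) ⊓ 𝐂(N) := ⟨hxP, h⟩
    rw [hC, Subgroup.mem_bot] at this
    rw [this, orderOf_one] at hx
    exact hp.out.one_lt.ne hx
  have hxN : zpowers x ⊔ N = ⊤ := by
    by_contra e
    exact hxC (hcent _ N (P.2.to_le (zpowers_le.2 hxP)) le_rfl le_normalizer_of_normal e (mem_zpowers x))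
  have hcard := card_eq_pow_orderOf hq hA (hx ▸ pow_orderOf_eq_one x) hxC fun B hB h =>
    hN.min_invariant B (hxN ▸ sup_le (zpowers_le.2 h)
      ((le_centralizer_iff.1 (hB.trans (le_centralizer_iff_isMulCommutative.2 hA.1))).trans
        (centralizer_le_normalizer _))) hB
  refine ⟨q, hq, hqp, ?_, N, ‹_›, hcard, hA, fun B h1 h2 => hN.min_invariant B le_normalizer_of_normal h2⟩
  rw [← (Core.isComplement'_of_inf_eq_bot (N := N) (M := zpowers x) (disjoint_iff.1 (disjoint_of_coprime_natCard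
    (by rwa [Nat.card_zpowers, hx]))) (by rwa [sup_comm])).card_mul_card, hcard, Nat.card_zpowers, hx, mul_comm]

omit [Finite G] hp in
theorem pow_mem_of_min_exp (hnc : ¬ ∃ H : Subgroup G, (H : Set G) = {g : G | g ^ p = 1})
    (hsub : ∀ K : Subgroup G, K ≠ ⊤ → ∃ H : Subgroup K, (H : Set K) = {g : K | g ^ p = 1})
    (hquo : ∀ (N : Subgroup G) [N.Normal], N ≠ ⊥ →
      ∃ H : Subgroup (G ⧸ N), (H : Set (G ⧸ N)) = {g : G ⧸ N | g ^ p = 1})
    (N : Subgroup G) [N.Normal] (hN : N ≠ ⊥) (g : G) : g ^ p ∈ N := by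
  obtain ⟨H, hH⟩ := hquo N hN
  have e : ∀ g : G, g ∈ H.comap (QuotientGroup.mk' N) ↔ g ^ p ∈ N := fun g => by
    rw [mem_comap, ← SetLike.mem_coe, hH, ← QuotientGroup.eq_one_iff]; rfl
  by_cases h : H.comap (QuotientGroup.mk' N) = ⊤
  · exact (e g).1 (h ▸ mem_top g)
  obtain ⟨L, hL⟩ := hsub _ h
  refine absurd ⟨L.map (Subgroup.subtype _), Set.ext fun x => ⟨?_, fun hx => ?_⟩⟩ hnc
  · rintro ⟨y, hy, rfl⟩
    exact congrArg Subtype.val (hL ▸ hy : y ∈ {g : H.comap (QuotientGroup.mk' N) | g ^ p = 1})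
  · exact ⟨⟨x, (e x).2 (by rw [show x ^ p = 1 from hx]; exact one_mem N)⟩, by rw [hL]; exact Subtype.ext hx, rfl⟩

end Cfsg.Lib.FGS
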