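import Cfsg.Agent.Lib.FGS.Kegel
import Cfsg.Agent.Lib.Frobenius.CN
import Cfsg.Agent.Lib.Small.Four

/-!
# Groups with a partition, part 1: normal partitions with nilpotent components
-/

set_option autoImplicit false

namespace Cfsg.Lib.FGS.Part

open Subgroup Cfsg.Lib Cfsg.Lib.BG Cfsg.Lib.Transfer Cfsg.Lib.Core Cfsg.Lib.Small

variable {G : Type*} [Group G] {X : G → Subgroup G} {p : ℕ} {a b g w y : G} {N : Subgroup G}

/-- A conjugation invariant partition: `X g` is the component containing `g ≠ 1`. -/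
structure PT (X : G → Subgroup G) : Prop where
  mem : ∀ g, g ∈ X g
  eq : ∀ {g h : G}, g ≠ 1 → h ≠ 1 → h ∈ X g → X h = X g
  conj : ∀ c g : G, X (c * g * c⁻¹) = c ⋆ X g

/-- A conjugation invariant partition with nilpotent components. -/
structure PN (X : G → Subgroup G) : Prop extends PT X where
  nil : ∀ g, g ≠ 1 → Group.IsNilpotent (X g)

theorem mul_pow_mul_inv_mem (hg : g ∈ 𝐍(N)) (ha : a ∈ N) (k : ℕ) : (a * g) ^ k * (g ^ k)⁻¹ ∈ N := by
  induction k with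
  | zero => simp
  | succ k ih =>
    have := mul_mem ih (conj_mem_of_norm (pow_mem hg k) ha)
    convert this using 1
    rw [pow_succ, pow_succ]; group

theorem mul_pow_hom (hN : IsMulCommutative N) (hg : g ∈ 𝐍(N)) (ha : a ∈ N) (hb : b ∈ N) (k : ℕ) :
    (a * b * g) ^ k * (g ^ k)⁻¹ = (a * g) ^ k * (g ^ k)⁻¹ * ((b * g) ^ k * (g ^ k)⁻¹) := by
  induction k with
  | zero => simp
  | succ k ih =>
    have e := setLike_mul_comm (s := N) (mul_pow_mul_inv_mem hg hb k)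
      (conj_mem_of_norm (pow_mem hg k) ha)
    calc _ = (a * b * g) ^ k * (g ^ k)⁻¹ * (g ^ k * a * (g ^ k)⁻¹) * (g ^ k * b * (g ^ k)⁻¹) := by
          rw [pow_succ, pow_succ]; group
      _ = (a * g) ^ k * (g ^ k)⁻¹ * ((b * g) ^ k * (g ^ k)⁻¹ * (g ^ k * a * (g ^ k)⁻¹)) *
          (g ^ k * b * (g ^ k)⁻¹) := by rw [ih]; group
      _ = _ := by rw [e, pow_succ, pow_succ, pow_succ]; group

theorem exists_pow_prime_mem [Finite G] {K : Subgroup G} (h : g ∉ K) :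
    ∃ r : ℕ, r.Prime ∧ ∃ y ∈ zpowers g, y ∉ K ∧ y ^ r ∈ K ∧ ∃ k, y ^ r ^ k = 1 := by
  obtain ⟨r, hr, y, hy, h1, k, hk⟩ := exists_primePow_not_mem h
  have h2 : ∃ j, y ^ r ^ j ∈ K := ⟨k, hk ▸ one_mem K⟩
  classical
  have h3 := Nat.find_spec h2
  obtain ⟨j, hj⟩ : ∃ j, Nat.find h2 = j + 1 := Nat.exists_eq_succ_of_ne_zero fun e => h1 (by
    simpa [e] using h3)
  refine ⟨r, hr, y ^ r ^ j, pow_mem hy _, Nat.find_min h2 (by omega), ?_, k, ?_⟩
  · rwa [← pow_mul, ← pow_succ, ← hj]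
  · rw [← pow_mul, mul_comm, pow_mul, hk, one_pow]

namespace PT

variable (h : PT X)
include h

theorem comap {H : Type*} [Group H] {f : H →* G} (hf : Function.Injective f) :
    PT fun x => (X (f x)).comap f :=
  ⟨fun _ => h.mem _, fun hg hk e => by
    simp only [h.eq ((map_ne_one_iff f hf).2 hg) ((map_ne_one_iff f hf).2 hk) e], fun c g => by
    ext x
    rw [mem_comap, mem_conj, mem_comap, map_mul, map_mul, map_inv, h.conj, mem_conj, map_mul, map_mul,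
      map_inv]⟩

theorem mem_of_pow {n : ℕ} (ha : a ≠ 1) (hn : a ^ n = 1) (hb : b ^ n ≠ 1) (e : a * b = b * a) :
    b ∈ X a := by
  have h1 : (a * b) ^ n = b ^ n := by rw [Commute.mul_pow e, hn, one_mul]
  have h2 : b ≠ 1 := fun e => hb (by rw [e, one_pow])
  have h3 : a * b ≠ 1 := fun e => hb (by rw [← h1, e, one_pow])
  have h4 := (h.eq h3 hb (h1 ▸ pow_mem (h.mem _) n)).symm.trans (h.eq h2 hb (pow_mem (h.mem _) n))
  rw [h.eq h2 ha ((mul_mem_cancel_right (h.mem b)).1 (h4 ▸ h.mem _))]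
  exact h.mem b

theorem mem_of_coprime [Finite G] (ha : a ≠ 1) (hc : (orderOf b).Coprime (orderOf a))
    (e : a * b = b * a) : b ∈ X a := by
  by_cases hb : b = 1
  · exact hb ▸ one_mem _
  exact h.mem_of_pow ha (pow_orderOf_eq_one a) (fun e => hb (orderOf_eq_one_iff.1
    (Nat.Coprime.eq_one_of_dvd hc (orderOf_dvd_of_pow_eq_one e)))) e

theorem mem_norm (ha : a ≠ 1) (e : g * a * g⁻¹ ∈ X a) : g ∈ 𝐍(X a) :=
  conj_eq_self_iff.1 ((h.conj g a).symm.trans (h.eq ha (by simpa using ha) e))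

theorem eq_one (ha : a ≠ 1) (hb : b ≠ 1) (e : X a ≠ X b) (h1 : g ∈ X a) (h2 : g ∈ X b) : g = 1 :=
  by_contra fun h3 => e ((h.eq ha h3 h1).symm.trans (h.eq hb h3 h2))

theorem pow_eq_one {n : ℕ} (ha : a ≠ 1) (hy : y ∉ X a) (h1 : y ^ n ∈ X a) : y ^ n = 1 :=
  by_contra fun e => hy (by
    rw [← h.eq ha e h1, h.eq (fun e' : y = 1 => hy (e' ▸ one_mem _)) e (pow_mem (h.mem y) n)]
    exact h.mem y)

theorem mul_pow_eq_one {n : ℕ} (ha : a ≠ 1) (hy : y ∉ X a) (hn : y ∈ 𝐍(X a)) (h1 : y ^ n ∈ X a)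
    (hb : b ∈ X a) : (b * y) ^ n = 1 :=
  h.pow_eq_one ha (fun e => hy ((mul_mem_cancel_left hb).1 e))
    ((mul_mem_cancel_right (inv_mem h1)).1 (mul_pow_mul_inv_mem hn hb n))

/-- Components which are not self-normalizing are nilpotent. -/
theorem nil_of_ne [Finite G] (ha : a ≠ 1) (hn : ¬ 𝐍(X a) ≤ X a) : Group.IsNilpotent (X a) := by
  obtain ⟨g, hg, h1⟩ := SetLike.not_le_iff_exists.1 hn
  obtain ⟨r, hr, y, hy, h2, h3, -⟩ := exists_pow_prime_mem h1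
  have h4 := zpowers_le.2 hg hy
  exact kegel hr h4 fun _ => h.mul_pow_eq_one ha h2 h4 h3

theorem frob_or [Finite G] (hp : ∀ g, g ≠ 1 → X g ≠ ⊤) :
    (∃ H : Subgroup G, IsFrobeniusComplement H) ∨ PN X := by
  by_cases hn : ∀ a, a ≠ 1 → ¬ 𝐍(X a) ≤ X a
  · exact Or.inr ⟨h, fun a ha => h.nil_of_ne ha (hn a ha)⟩
  push Not at hn
  obtain ⟨a, ha, hn⟩ := hn
  refine Or.inl ⟨X a, (Frobenius.isFrobeniusComplement_iff _).2 ⟨fun e => ha (mem_bot.1 (e ▸ h.mem a)),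
    hp a ha, fun g hg k hk e => by_contra fun k1 => hg (hn ?_)⟩⟩
  rw [← h.eq ha k1 hk] at e ⊢
  exact h.mem_norm k1 e

/-- An element of order greater than `p` normalizing an elementary abelian `p`-group `N` which is not
contained in a component. -/
theorem two_of (hp : p.Prime) (hN : IsElementaryAbelian p N) (hg : g ∈ 𝐍(N)) (hw : w ∈ N)
    (w1 : w ≠ 1) (e : w * g = g * w) (h1 : g ^ p ≠ 1) (h2 : ¬ N ≤ X w) :
    p = 2 ∧ ∀ a ∈ N, ∀ b ∈ N, a ∉ X w → b ∉ X w → a * b ∈ X w := by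
  have h3 := h.mem_of_pow w1 (hN.2 w hw) h1 e
  haveI := hN.1
  have h4 : ∀ a ∈ N, a ∉ X w → (a * g) ^ p = 1 := fun a ha h5 => by_contra fun h6 =>
    h5 ((mul_mem_cancel_right h3).1 (h.mem_of_pow w1 (hN.2 w hw) h6 (by
      rw [← mul_assoc, setLike_mul_comm (s := N) hw ha, mul_assoc, e, mul_assoc])))
  have h5 : ∀ a ∈ N, ∀ b ∈ N, a ∉ X w → b ∉ X w → a * b ∈ X w := fun a ha b hb h6 h7 =>
    by_contra fun h8 => h1 (by
      have := mul_pow_hom hN.1 hg ha hb p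
      rw [h4 a ha h6, h4 b hb h7, h4 _ (mul_mem ha hb) h8] at this
      simpa using this)
  refine ⟨by_contra fun h6 => ?_, h5⟩
  obtain ⟨a, ha, h7⟩ := SetLike.not_le_iff_exists.1 h2
  obtain ⟨k, hk⟩ := hp.odd_of_ne_two h6
  have h8 := hN.2 a ha
  rw [hk, pow_succ, pow_mul, mul_eq_one_iff_eq_inv', pow_two] at h8
  exact h7 (h8 ▸ inv_mem (pow_mem (h5 a ha a ha h7 h7) k))

theorem four_of [Finite G] (hN : IsElementaryAbelian 2 N) (hw : w ∈ N) (w1 : w ≠ 1) (h2 : ¬ N ≤ X w)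
    (h3 : ∀ a ∈ N, ∀ b ∈ N, a ∉ X w → b ∉ X w → a * b ∈ X w) (ha : a ∈ 𝐍(N))
    (hf : N ⊓ 𝐂[a] = ⊥) : IsKleinFour N := by
  have sq : ∀ x ∈ N, x * x = 1 := fun x hx => by rw [← pow_two, hN.2 x hx]
  by_cases e : X (a * w * a⁻¹) = X w
  · exfalso
    let f : N → N := fun n => ⟨(n : G)⁻¹ * (a * n * a⁻¹), mul_mem (inv_mem n.2) (conj_mem_of_norm ha n.2)⟩
    have h4 : Function.Injective f := fun n m e => by
      have e : (n : G)⁻¹ * (a * n * a⁻¹) = (m : G)⁻¹ * (a * m * a⁻¹) := congrArg Subtype.val e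
      refine Subtype.ext (mul_inv_eq_one.1 (mem_bot.1 (hf.le ⟨N.mul_mem m.2 (N.inv_mem n.2),
        mem_cent1.2 ?_⟩))).symm
      calc _ = m * ((n : G)⁻¹ * (a * n * a⁻¹)) * (a * (n : G)⁻¹) := by group
        _ = _ := by rw [e]; group
    refine h2 fun n hn => ?_
    obtain ⟨m, hm⟩ := Finite.surjective_of_injective h4 ⟨n, hn⟩
    have h5 : a * m * a⁻¹ ∈ X w ↔ (m : G) ∈ X w := by
      rw [← conj_mem_conj (g := a) (x := m), ← h.conj, e]
    rw [← show _ = n from congrArg Subtype.val hm]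
    by_cases h6 : (m : G) ∈ X w
    · exact mul_mem (inv_mem h6) (h5.2 h6)
    · exact h3 _ (inv_mem m.2) _ (conj_mem_of_norm ha m.2) (fun e => h6 (inv_mem_iff.1 e))
        fun e => h6 (h5.1 e)
  have w2 : a * w * a⁻¹ ≠ 1 := by simpa using w1
  have h4 : ∀ n ∈ N, n ∈ X w → n = 1 ∨ n = w := fun n hn h5 => or_iff_not_imp_left.2 fun n1 => by
    have h6 : ∀ m ∈ X w, m ≠ 1 → a⁻¹ * m * a ∉ X w := fun m hm m1 h6 =>
      m1 (h.eq_one w2 w1 e (by rw [h.conj, mem_conj]; exact h6) hm)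
    have h7 := h3 _ (conj_mem_of_norm' ha hn) _ (conj_mem_of_norm' ha hw) (h6 n h5 n1) (h6 w (h.mem w) w1)
    have h8 : n * w = 1 := by_contra fun h8 => h6 _ (mul_mem h5 (h.mem w)) h8 (by
      convert h7 using 1; group)
    rw [eq_inv_of_mul_eq_one_left h8, inv_eq_of_mul_eq_one_left (sq w hw)]
  obtain ⟨s, hs, h5⟩ := SetLike.not_le_iff_exists.1 h2
  haveI := hN.1
  have hF : FourGen w s := ⟨w1, fun e => h5 (e ▸ one_mem _), fun e => h5 (e ▸ h.mem w), sq w hw,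
    sq s hs, setLike_mul_comm (s := N) hw hs⟩
  rw [show N = hF.four from le_antisymm (fun n hn => hF.mem_four.2 ?_) (hF.four_le_iff.2 ⟨hw, hs⟩)]
  · exact hF.isKleinFour
  by_cases h6 : n ∈ X w
  · exact (h4 n hn h6).imp_right Or.inl
  rcases h4 _ (mul_mem hn hs) (h3 n hn s hs h6 h5) with e | e
  · exact Or.inr (Or.inr (Or.inl (by rw [eq_inv_of_mul_eq_one_left e, hF.inv_eq'])))
  · exact Or.inr (Or.inr (Or.inr (by rw [← e, mul_assoc, sq s hs, mul_one])))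

end PT

theorem exists_pt {S : Set (Subgroup G)} (hS2 : ∃ H ∈ S, ∃ K ∈ S, H ≠ K)
    (hS1 : ∀ H ∈ S, H ≠ ⊥) (hpart : ∀ g : G, g ≠ 1 → ∃! H : Subgroup G, H ∈ S ∧ g ∈ H) :
    ∃ X : G → Subgroup G, PT X ∧ ∀ g, g ≠ 1 → X g ≠ ⊤ := by
  have h1 : ∀ g : G, ∃ H : Subgroup G, g ∈ H ∧ (g ≠ 1 → H ∈ S) := fun g => by
    by_cases hg : g = 1
    · exact ⟨⊤, trivial, fun e => absurd hg e⟩
    · obtain ⟨H, h, -⟩ := hpart g hg
      exact ⟨H, h.2, fun _ => h.1⟩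
  choose Y hY hS using h1
  refine ⟨fun g => ⨅ c, c⁻¹ ⋆ Y (c * g * c⁻¹), ⟨fun g => mem_iInf.2 fun c => mem_conj.2 (by
    simpa using hY (c * g * c⁻¹)), fun {g k} hg hk e => iInf_congr fun c => ?_, fun c g => ?_⟩,
    fun g hg e => ?_⟩
  · have h2 : c * k * c⁻¹ ≠ 1 := by simpa using hk
    rw [(hpart _ h2).unique ⟨hS _ h2, hY _⟩ ⟨hS (c * g * c⁻¹) (by simpa using hg), by
      simpa using mem_conj.1 (mem_iInf.1 e c)⟩]
  · ext x
    simp only [mem_iInf, mem_conj, inv_inv]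
    refine ⟨fun h d => ?_, fun h d => ?_⟩
    · simpa [mul_assoc] using h (d * c⁻¹)
    · simpa [mul_assoc] using h (d * c)
  · have h2 : Y g = ⊤ := eq_top_iff.2 fun x _ => by
      simpa using mem_conj.1 (mem_iInf.1 (e.ge (mem_top x)) 1)
    have h3 : ∀ H ∈ S, H = ⊤ := fun H hH => by
      obtain ⟨⟨x, hx⟩, x1⟩ := ne_bot_iff_exists_ne_one.1 (hS1 H hH)
      exact (hpart x fun e => x1 (Subtype.ext e)).unique ⟨hH, hx⟩ ⟨h2 ▸ hS g hg, trivial⟩
    obtain ⟨H, hH, K, hK, h4⟩ := hS2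
    exact h4 ((h3 H hH).trans (h3 K hK).symm)

theorem coprime_of_pow {k : ℕ} (hw : w ^ p ^ k = 1) (ha : (orderOf a).Coprime p) :
    (orderOf a).Coprime (orderOf w) :=
  (Nat.Coprime.pow_right k ha).coprime_dvd_right (orderOf_dvd_of_pow_eq_one hw)

theorem pow_of_mem (hN : IsPGroup p N) (ha : a ∈ N) : ∃ k, a ^ p ^ k = 1 :=
  (hN ⟨a, ha⟩).imp fun _ e => congrArg Subtype.val e

namespace PN

variable [Finite G] (h : PN X)
include h

theorem comap {H : Type*} [Group H] {f : H →* G} (hf : Function.Injective f) :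
    PN fun x => (X (f x)).comap f :=
  ⟨h.toPT.comap hf, fun g hg => by
    haveI := h.nil _ ((map_ne_one_iff f hf).2 hg)
    exact isNilpotent_of_injective (f.subgroupComap (X (f g)))
      fun a b e => Subtype.ext (hf (congrArg Subtype.val e))⟩

theorem comm (hg : g ≠ 1) (ha : a ∈ X g) (hb : b ∈ X g) (hc : (orderOf a).Coprime (orderOf b)) :
    a * b = b * a :=
  Frobenius.commute_of_mem_nil (h.nil g hg) ha hb hc

theorem le_of_cent (hN : IsPGroup p N) (ha : a ∈ 𝐍(N)) (a1 : a ≠ 1) (hc : (orderOf a).Coprime p)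
    (w1 : w ≠ 1) {k : ℕ} (hw : w ^ p ^ k = 1) (h1 : w ∈ 𝐂(N)) (e : w * a = a * w) : N ≤ X w := by
  intro n hn
  refine (mul_mem_cancel_right (h.mem_of_coprime w1 (coprime_of_pow hw hc) e)).1
    (h.mem_of_pow w1 hw (fun h2 => a1 ?_) (by
      rw [← mul_assoc, ← mem_cent.1 h1 n hn, mul_assoc, e, mul_assoc]))
  have h3 := mul_pow_mul_inv_mem ha hn (p ^ k)
  rw [h2, one_mul, inv_mem_iff] at h3
  obtain ⟨j, hj⟩ := pow_of_mem hN h3
  rw [← pow_mul, ← pow_add] at hj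
  exact eq_one_of_pow_pow_eq_one_of_coprime hj hc

theorem cent_of (hN : IsPGroup p N) (ha : a ∈ 𝐍(N)) (hc : (orderOf a).Coprime p)
    (w1 : w ≠ 1) {k : ℕ} (hw : w ^ p ^ k = 1) (h1 : w ∈ 𝐂(N)) (e : w * a = a * w) : a ∈ 𝐂(N) := by
  by_cases a1 : a = 1
  · exact a1 ▸ one_mem _
  refine mem_cent.2 fun n hn => ?_
  obtain ⟨j, hj⟩ := pow_of_mem hN hn
  exact (h.comm w1 (h.mem_of_coprime w1 (coprime_of_pow hw hc) e)
    (h.le_of_cent hN ha a1 hc w1 hw h1 e hn) (coprime_of_pow hj hc)).symm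

/-- A `p'`-element commuting with a `p`-element has fixed points. -/
theorem ne_bot [Fact p.Prime] (hN : IsPGroup p N) (h0 : N ≠ ⊥) (ha : a ∈ 𝐍(N))
    (hc : (orderOf a).Coprime p) (hy : y ∈ 𝐍(N)) (y1 : y ≠ 1) {k : ℕ} (hk : y ^ p ^ k = 1)
    (e : y * a = a * y) : N ⊓ 𝐂[a] ≠ ⊥ := by
  have h1 := PGroup.inf_centralizer_ne_bot hN (Inv.isPGroup_zpowers hk) (zpowers_le.2 hy) h0
  rw [cent_zpowers] at h1
  have h2 : a ∈ 𝐂(N ⊓ 𝐂[y]) := h.cent_of (hN.to_le inf_le_left)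
    (norm_inf (zpowers_le.2 ha) (norm_cent1 (zpowers_le.2 (mem_cent1.2 e.symm))) (mem_zpowers a))
    hc y1 hk (le_cent1_iff.1 inf_le_right) e
  exact fun e => h1 (eq_bot_iff.2 (e ▸ le_inf inf_le_left (le_cent1_iff.2 h2)))

end PN

end Cfsg.Lib.FGS.Part
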