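import Cfsg.Agent.Lib.FGS.Part1
import Cfsg.Agent.Lib.PF.Main
import Cfsg.Agent.Lib.Inv.FourGroup
import Cfsg.Agent.Lib.Perm.Zass2

/-!
# Groups with a partition, part 2: groups with a nilpotent normal subgroup (Baer)
-/

set_option autoImplicit false

namespace Cfsg.Lib.FGS.Part

open Subgroup Cfsg.Lib Cfsg.Lib.BG Cfsg.Lib.Transfer Cfsg.Lib.Core Cfsg.Lib.Small

variable {G : Type*} [Group G] [Finite G] {X : G → Subgroup G} {p : ℕ} {a b g w y : G} {N : Subgroup G}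

theorem not_dvd_index (hp : p.Prime) (hN : IsMinNormal N) (he : IsElementaryAbelian p N)
    (h : ∀ g, g ∉ 𝐂(N) → g ^ p = 1 ∨ ((orderOf g).Coprime p ∧ N ⊓ 𝐂[g] = ⊥)) :
    ¬ p ∣ 𝐂(N).index := fun hd => by
  haveI := Fact.mk hp
  haveI := hN.normal
  haveI := he.1
  set π := QuotientGroup.mk' 𝐂(N)
  have hπ : ∀ {g}, π g = 1 ↔ g ∈ 𝐂(N) := QuotientGroup.eq_one_iff _
  have k1 : ∀ g, p ∣ orderOf (π g) → g ^ p = 1 := fun g hg => (h g fun e => hp.one_lt.ne'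
    (Nat.dvd_one.1 (by rwa [hπ.2 e, orderOf_one] at hg))).resolve_right fun e => hp.one_lt.ne'
      (Nat.Coprime.eq_one_of_dvd e.1.symm (hg.trans (orderOf_map_dvd π g)))
  obtain ⟨y, hy⟩ := exists_prime_orderOf_dvd_card' (G := G ⧸ 𝐂(N)) p hd
  obtain ⟨y, rfl⟩ := QuotientGroup.mk'_surjective _ y
  have y1 : π y ≠ 1 := fun e => hp.one_lt.ne' (by rw [← hy, e, orderOf_one])
  have yp : π y ^ p = 1 := hy ▸ pow_orderOf_eq_one _
  have nm : ∀ g, g ∈ 𝐍(N) := fun g => le_normalizer_of_normal (mem_top g)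
  by_cases p2 : p = 2
  · subst p2
    refine y1 (hπ.2 (mem_cent.2 fun n hn => ?_))
    have h1 := k1 (n * y) (by rw [map_mul, hπ.2 (le_centralizer N hn), one_mul, hy])
    have h2 := k1 y hy.symm.dvd
    have h3 := he.2 n hn
    rw [pow_two] at h1 h2 h3
    calc n * y = (n * y)⁻¹ := eq_inv_of_mul_eq_one_left h1
      _ = _ := by rw [mul_inv_rev, inv_eq_of_mul_eq_one_left h2, inv_eq_of_mul_eq_one_left h3]
  have ho : Odd (Nat.card (G ⧸ 𝐂(N))) := Nat.not_even_iff_odd.1 fun e => by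
    obtain ⟨t, ht⟩ := exists_prime_orderOf_dvd_card' (G := G ⧸ 𝐂(N)) 2 e.two_dvd
    obtain ⟨t, rfl⟩ := QuotientGroup.mk'_surjective _ t
    have h1 : π t ^ p ≠ 1 := fun e => p2 ((Nat.prime_dvd_prime_iff_eq Nat.prime_two hp).1
      (ht ▸ orderOf_dvd_of_pow_eq_one e)).symm
    have h2 := ((h t fun e => h1 (by rw [hπ.2 e, one_pow])).resolve_left fun e => h1 (by
      rw [← map_pow, e, map_one])).2
    have h3 : t * t ∈ 𝐂(N) := hπ.1 (by rw [map_mul, ← pow_two, ← ht, pow_orderOf_eq_one])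
    have h4 : ∀ n ∈ N, t * n * t⁻¹ = n⁻¹ := fun n hn => eq_inv_of_mul_eq_one_right (mem_bot.1
      (h2.le ⟨N.mul_mem hn (conj_mem_of_norm (nm t) hn), mem_cent1.2 (by
        calc _ = t * n * (t⁻¹ * (n * (t * t)) * t⁻¹) := by
              rw [setLike_mul_comm (s := N) hn (conj_mem_of_norm (nm t) hn)]; group
          _ = _ := by rw [mem_cent.1 h3 n hn]; group)⟩))
    have h5 : Commute (π t) (π y) := by
      rw [commute_iff_eq, ← mul_inv_eq_one, ← map_mul, ← map_mul, ← map_inv, ← map_mul, hπ]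
      refine mem_cent.2 fun n hn => ?_
      calc _ = n⁻¹⁻¹ * (t * y * (y * t)⁻¹) := by rw [inv_inv]
        _ = t * y * t⁻¹ * (t * (y⁻¹ * n * y)⁻¹ * t⁻¹) * y⁻¹ := by rw [← h4 _ (inv_mem hn)]; group
        _ = _ := by rw [h4 _ (inv_mem (conj_mem_of_norm' (nm y) hn))]; group
    refine h1 ?_
    have h6 := k1 (t * y) (by
      rw [map_mul, h5.orderOf_mul_eq_mul_orderOf_of_coprime (by
        rw [ht, hy]; exact (Nat.coprime_primes Nat.prime_two hp).2 (Ne.symm p2)), hy]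
      exact dvd_mul_left _ _)
    have h7 := congrArg π h6
    rwa [map_pow, map_mul, h5.mul_pow, yp, mul_one, map_one] at h7
  haveI := PF.isSolvable_of_odd _ ho
  haveI : Nontrivial (G ⧸ 𝐂(N)) := ⟨⟨_, _, y1⟩⟩
  obtain ⟨R, r, hR, hr, hR'⟩ := exists_isMinNormal_elementary (G := G ⧸ 𝐂(N))
  haveI := hR.normal
  refine hR.ne_bot (eq_bot_iff.2 fun x hx => ?_)
  obtain ⟨x, rfl⟩ := QuotientGroup.mk'_surjective _ x
  refine hπ.2 (cent_symm (B := R.comap π) ?_ hx)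
  by_cases e : r = p
  · subst e
    obtain ⟨P, h1, h2, -⟩ := PLocal.exists_isPGroup_map_eq (QuotientGroup.mk'_surjective _)
      (isPGroup_of_isElementaryAbelian hR')
    have h3 := PGroup.inf_centralizer_ne_bot (isPGroup_of_isElementaryAbelian he) h1
      (fun g _ => nm g) hN.ne_bot
    refine ((hN.inf_eq_bot_or_le 𝐂(R.comap π)).resolve_left fun e => h3 (eq_bot_iff.2 (e ▸ ?_)))
    rw [← h2, QuotientGroup.comap_map_mk', cent_sup]
    exact le_inf inf_le_left (le_inf (inf_le_left.trans (cent_symm le_rfl)) inf_le_right)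
  refine hN.le_centralizer_of_isNilpotent _ (kegel hp (g := y) (le_normalizer_of_normal (mem_top y))
    fun k hk => k1 _ ?_)
  have h1 := mul_pow_mul_inv_mem (le_normalizer_of_normal (mem_top (π y))) hk (orderOf (π (k * y)))
  rw [← map_mul, pow_orderOf_eq_one, one_mul, inv_mem_iff] at h1
  have h2 := hR'.2 _ h1
  rw [← pow_mul] at h2
  exact ((hp.dvd_mul.1 (hy ▸ orderOf_dvd_of_pow_eq_one h2)).resolve_right fun e' =>
    e ((Nat.prime_dvd_prime_iff_eq hp hr).1 e').symm)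

theorem frob_of {K : Subgroup G} [K.Normal] (hp : p.Prime) (hK : IsPGroup p K) (h0 : K ≠ ⊥)
    (h1 : K ≠ ⊤) (hi : ¬ p ∣ K.index)
    (hf : ∀ a, a ∉ K → (orderOf a).Coprime p → K ⊓ 𝐂[a] = ⊥) :
    ∃ H : Subgroup G, IsFrobeniusComplement H := by
  haveI := Fact.mk hp
  have h2 := (hp.coprime_iff_not_dvd.2 hi)
  obtain ⟨n, hn⟩ := hK.exists_card_eq
  obtain ⟨H, hH⟩ := exists_right_complement'_of_coprime (N := K) (hn ▸ h2.pow_left n)
  refine ⟨H, Frobenius.isFrobeniusComplement_of_fpf hH.sup_eq_top h0 (fun e => h1 ?_)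
    fun a ha a1 => hf a (fun e => a1 (disjoint_def.1 hH.disjoint e ha)) ?_⟩
  · simpa [e] using hH.sup_eq_top
  · exact h2.symm.coprime_dvd_left (hH.symm.index_eq_card ▸ orderOf_dvd_natCard _ ha)

omit [Finite G] in
theorem hughes_of {Y : Subgroup G} (hY : Y ≠ ⊤) (h : ∀ g, g ^ p ≠ 1 → g ∈ Y) :
    closure {g : G | g ^ p ≠ 1} ≠ ⊤ := fun e => hY (eq_top_iff.2 (e ▸ (closure_le _).2 h))

theorem exists_fix [Fact p.Prime] (hN : IsPGroup p N) (h0 : N ≠ ⊥) (hg : g ∈ 𝐍(N)) {k : ℕ}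
    (hk : g ^ p ^ k = 1) : ∃ w ∈ N, w ≠ 1 ∧ w * g = g * w := by
  have h1 := PGroup.inf_centralizer_ne_bot hN (Inv.isPGroup_zpowers hk) (zpowers_le.2 hg) h0
  rw [cent_zpowers] at h1
  obtain ⟨⟨w, hw⟩, w1⟩ := ne_bot_iff_exists_ne_one.1 h1
  exact ⟨w, hw.1, fun e => w1 (Subtype.ext e), mem_cent1.1 hw.2⟩

omit [Finite G] in
theorem comm_of_mem (ha : a ∈ zpowers g) (hb : b ∈ zpowers g) : a * b = b * a :=
  setLike_mul_comm (s := zpowers g) ha hb

omit [Finite G] in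
theorem coprime_of_mem (ha : a ∈ zpowers g) (hg : (orderOf g).Coprime p) : (orderOf a).Coprime p :=
  hg.coprime_dvd_left (orderOf_dvd_of_mem_zpowers ha)

/-- The groups with a partition and a non-trivial nilpotent normal subgroup. -/
def Baer (G : Type*) [Group G] : Prop :=
  Nonempty (G ≃* Equiv.Perm (Fin 4)) ∨ (∃ p : ℕ, p.Prime ∧ closure {g : G | g ^ p ≠ 1} ≠ ⊤) ∨
    ∃ H : Subgroup G, IsFrobeniusComplement H

namespace PN

variable (h : PN X) (ht : ∀ g, g ≠ 1 → X g ≠ ⊤) (hp : p.Prime) (hN : IsMinNormal N)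
  (he : IsElementaryAbelian p N)
include h ht hp hN he

theorem caseB (hB : ∀ w ∈ N, w ≠ 1 → ¬ N ≤ X w) : Baer G := by
  haveI := Fact.mk hp
  haveI := hN.normal
  haveI := he.1
  have pN := isPGroup_of_isElementaryAbelian he
  have nm : ∀ g, g ∈ 𝐍(N) := fun g => le_normalizer_of_normal (mem_top g)
  have f1 : ∀ a, a ≠ 1 → (orderOf a).Coprime p → N ⊓ 𝐂[a] = ⊥ := fun a a1 ha => eq_bot_iff.2
    fun w hw => by_contra fun w1 => hB w hw.1 w1 (h.le_of_cent pN (nm a) a1 ha w1 (k := 1)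
      (by rw [pow_one, he.2 w hw.1]) (le_centralizer N hw.1) (mem_cent1.1 hw.2))
  have f2 : ∀ g : G, (∃ k, g ^ p ^ k = 1) ∨ (orderOf g).Coprime p := fun g => by
    obtain ⟨u, hu, v, hv, ⟨k, hk⟩, h1, rfl⟩ := exists_p_part_mul_p'_part (p := p) g
    by_cases v1 : v = 1
    · exact Or.inl ⟨k, by rwa [v1, mul_one]⟩
    by_cases u1 : u = 1
    · exact Or.inr (by rwa [u1, one_mul])
    exact (h.ne_bot pN hN.ne_bot (nm v) h1 (nm u) u1 hk (comm_of_mem hu hv) (f1 v v1 h1)).elim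
  have f3 : ∀ a, a ≠ 1 → (orderOf a).Coprime p → a ∉ 𝐂(N) := fun a a1 ha e =>
    hN.ne_bot (eq_bot_iff.2 (f1 a a1 ha ▸ le_inf le_rfl (le_cent1_iff.2 e)))
  have pC : IsPGroup p 𝐂(N) := fun c => (f2 c).elim (fun e => e.imp fun _ => Subtype.ext)
    fun e => ⟨0, by_contra fun c1 => f3 c (fun e => c1 (by simpa using e)) e c.2⟩
  have f4 : ∀ a, a ≠ 1 → (orderOf a).Coprime p → 𝐂(N) ⊓ 𝐂[a] = ⊥ := fun a a1 ha => eq_bot_iff.2
    fun y hy => by_contra fun y1 => by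
      obtain ⟨k, hk⟩ := pow_of_mem pC hy.1
      exact h.ne_bot pN hN.ne_bot (nm a) ha (nm y) y1 hk (mem_cent1.1 hy.2) (f1 a a1 ha)
  by_cases hG : IsPGroup p G
  · haveI := hG.isNilpotent
    obtain ⟨⟨w, hw⟩, w1⟩ := ne_bot_iff_exists_ne_one.1 hN.ne_bot
    have w1 : w ≠ 1 := fun e => w1 (Subtype.ext e)
    exact Or.inr (Or.inl ⟨p, hp, hughes_of (ht w w1) fun g hg => h.mem_of_pow w1 (he.2 w hw) hg
      (mem_center_iff.1 (hN.le_center_of_isNilpotent hw) g).symm⟩)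
  obtain ⟨a, ha, a1⟩ : ∃ a : G, (orderOf a).Coprime p ∧ a ≠ 1 := by
    by_contra! e
    exact hG (pResidual_eq_bot_iff.1 (eq_bot_iff.2 (pResidual_le_iff.2 e)))
  by_cases h1 : ∀ (g : G) k, g ^ p ^ k = 1 → g ^ p = 1
  · exact Or.inr (Or.inr (frob_of hp pC (fun e => hN.ne_bot (eq_bot_iff.2 (e ▸ le_centralizer N)))
      (fun e => f3 a a1 ha (e ▸ mem_top a)) (not_dvd_index hp hN he fun g hg => (f2 g).imp
        (fun ⟨k, e⟩ => h1 g k e) fun e => ⟨e, f1 g (fun e' => hg (e' ▸ one_mem _)) e⟩)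
      fun a ha => f4 a fun e => ha (e ▸ one_mem _)))
  push Not at h1
  obtain ⟨g, k, hk, hg⟩ := h1
  obtain ⟨w, hw, w1, e⟩ := exists_fix pN hN.ne_bot (nm g) hk
  obtain rfl := (h.two_of hp he (nm g) hw w1 e hg (hB w hw w1)).1
  have hC : IsElementaryAbelian 2 𝐂(N) := PGroup.elemAb_two_iff.2 fun c hc => by_contra fun c2 => by
    have c1 : c ≠ 1 := fun e => c2 (by rw [e, one_pow])
    have h2 : ∀ n ∈ N, n ≠ 1 → X c = X n := fun n hn n1 =>
      h.eq n1 c1 (h.mem_of_pow n1 (he.2 n hn) c2 (mem_cent.1 hc n hn))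
    refine hB w hw w1 fun n hn => by_contra fun h3 => h3 ?_
    rw [← h2 w hw w1, h2 n hn fun e => h3 (e ▸ one_mem _)]
    exact h.mem n
  have nC : ∀ g, g ∈ 𝐍(𝐂(N)) := fun g => le_normalizer_of_normal (mem_top g)
  have h2 : ¬ 𝐂(N) ≤ X w := fun e => hB w hw w1 ((le_centralizer N).trans e)
  have h3 := h.four_of hC (le_centralizer N hw) w1 h2
    (h.two_of hp hC (nC g) (le_centralizer N hw) w1 e hg h2).2 (nC a) (f4 a a1 ha)
  haveI := hC.1
  have h4 : 𝐂(𝐂(N)) = 𝐂(N) := le_antisymm (cent_anti (le_centralizer N)) (le_centralizer _)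
  have h5 := Inv.k4_relIndex_dvd_six h3
  rw [h4, normalizer_eq_top, relIndex_top_right] at h5
  have h6 := (Inv.three_dvd_relIndex_iff (N := ⊤) (fun g _ => nC g) (by rwa [relIndex_top_right])).2
    ⟨a, trivial, Nat.coprime_two_right.1 ha, f3 a a1 ha⟩
  have h7 : 2 ∣ 𝐂(N).index := by_contra fun e => hg (hC.2 g ((QuotientGroup.eq_one_iff g).1
    (eq_one_of_pow_pow_eq_one_of_coprime (by rw [← QuotientGroup.mk_pow, hk, QuotientGroup.mk_one])
      ((hp.coprime_iff_not_dvd.2 e).symm.coprime_dvd_left (orderOf_dvd_natCard _)))))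
  rw [relIndex_top_right] at h6
  obtain ⟨e⟩ := equiv_perm_four_of_le_normalizer (N := ⊤) h3 h4 (fun g _ => nC g) (by
    rw [card_top, ← card_mul_index 𝐂(N), h3.card_four, Nat.dvd_antisymm h5
      (Nat.Coprime.mul_dvd_of_dvd_of_dvd (by norm_num) h7 h6)])
  exact Or.inl ⟨topEquiv.symm.trans e⟩

theorem caseA (hw : w ∈ N) (w1 : w ≠ 1) (hA : N ≤ X w) (hi : p ∣ (X w).index) : Baer G := by
  haveI := Fact.mk hp
  haveI := hN.normal
  haveI := he.1
  have pN := isPGroup_of_isElementaryAbelian he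
  have nm : ∀ g, g ∈ 𝐍(N) := fun g => le_normalizer_of_normal (mem_top g)
  have nY : ∀ g, g ∈ 𝐍(X w) := fun g => h.mem_norm w1 (hA (conj_mem_of_norm (nm g) hw))
  haveI : (X w).Normal := normalizer_eq_top_iff.1 (eq_top_iff.2 fun g _ => nY g)
  have hY : X w ≤ 𝐂(N) := cent_symm (hN.le_centralizer_of_isNilpotent _ (h.nil w w1))
  have a2 : ∀ a, a ∉ X w → (orderOf a).Coprime p → N ⊓ 𝐂[a] = ⊥ := fun a a1 ha => eq_bot_iff.2
    fun v hv => by_contra fun v1 => a1 (h.eq w1 v1 (hA hv.1) ▸ h.mem_of_coprime v1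
      (coprime_of_pow (k := 1) (by rw [pow_one, he.2 v hv.1]) ha) (mem_cent1.1 hv.2))
  have a3 : ∀ g, g ∉ X w → g ^ p = 1 ∨ ((orderOf g).Coprime p ∧ N ⊓ 𝐂[g] = ⊥) := fun g hg => by
    have g1 : g ≠ 1 := fun e => hg (e ▸ one_mem _)
    obtain ⟨u, hu, v, hv, ⟨k, hk⟩, h1, e⟩ := exists_p_part_mul_p'_part (p := p) g
    by_cases v1 : v = 1
    · rw [v1, mul_one] at e
      obtain ⟨x, hx, x1, e'⟩ := exists_fix pN hN.ne_bot (nm g) (e ▸ hk)
      exact Or.inl (by_contra fun h2 => hg (h.eq w1 x1 (hA hx) ▸ h.mem_of_pow x1 (he.2 x hx) h2 e'))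
    by_cases u1 : u = 1
    · rw [u1, one_mul] at e
      exact Or.inr ⟨e ▸ h1, a2 g hg (e ▸ h1)⟩
    refine (h.ne_bot pN hN.ne_bot (nm v) h1 (nm u) u1 hk (comm_of_mem hu hv) (a2 v (fun h2 => hg ?_)
      h1)).elim
    rw [← h.eq w1 v1 h2, h.eq g1 v1 (zpowers_le.2 (h.mem g) hv)]
    exact h.mem g
  have f3 : ∀ a, N ⊓ 𝐂[a] = ⊥ → a ∉ 𝐂(N) := fun a ha e =>
    hN.ne_bot (eq_bot_iff.2 (ha ▸ le_inf le_rfl (le_cent1_iff.2 e)))
  have h1 := not_dvd_index hp hN he fun g hg => a3 g fun e => hg (hY e)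
  by_cases h2 : ∀ g, g ^ p ≠ 1 → g ∈ X w
  · exact Or.inr (Or.inl ⟨p, hp, hughes_of (ht w w1) h2⟩)
  push Not at h2
  obtain ⟨a, h2, ha⟩ := h2
  obtain ⟨r, hr, b, hb, h3, h4, -⟩ := exists_pow_prime_mem ha
  have h5 := coprime_of_mem hb ((a3 a ha).resolve_left h2).1
  have h6 := f3 b (a2 b h3 h5)
  have h7 : Group.IsNilpotent 𝐂(N) := kegel hr (g := b) (le_normalizer_of_normal (mem_top b))
    fun c hc => by
      have nC := le_normalizer_of_normal (H := 𝐂(N)) (mem_top b)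
      have h7 : c * b ∉ X w := fun e => h6 ((mul_mem_cancel_left hc).1 (hY e))
      refine h.pow_eq_one w1 h7 (by_contra fun h8 => f3 _ (a2 _ h8 (coprime_of_mem
        (pow_mem (mem_zpowers _) r) ((a3 _ h7).resolve_left fun e => h6 ?_).1))
        ((mul_mem_cancel_right (inv_mem (hY h4))).1 (mul_pow_mul_inv_mem nC hc r)))
      have h9 := mul_pow_mul_inv_mem nC hc p
      rw [e, one_mul, inv_mem_iff] at h9
      exact (mem_zpowers_pow_iff.2 h5.symm).elim fun k e => e ▸ zpow_mem h9 k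
  obtain ⟨y, hy, h8⟩ := SetLike.exists_of_lt (hY.lt_of_ne fun e => h1 (e ▸ hi))
  have h9 := (a3 y h8).resolve_right fun e => f3 y e.2 hy
  have y1 : y ≠ 1 := fun e => h8 (e ▸ one_mem _)
  have pC : IsPGroup p 𝐂(N) := fun c => by
    obtain ⟨u, -, v, hv, ⟨k, hk⟩, h10, e⟩ := exists_p_part_mul_p'_part (p := p) (c : G)
    have hv := zpowers_le.2 c.2 hv
    refine ⟨k, Subtype.ext ?_⟩
    obtain rfl : v = 1 := by_contra fun v1 => h8 (by
      rw [← h.eq w1 v1 (by_contra fun e => f3 v (a2 v e h10) hv), h.eq y1 v1 (h.mem_of_coprime y1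
        (coprime_of_pow (k := 1) (by rwa [pow_one]) h10) (Frobenius.commute_of_mem_nil h7 hy hv
          (coprime_of_pow (k := 1) (by rwa [pow_one]) h10).symm))]
      exact h.mem y)
    rw [mul_one] at e
    rw [coe_pow, e, hk, coe_one]
  refine Or.inr (Or.inr (frob_of hp pC (fun e => y1 (mem_bot.1 (e ▸ hy))) (fun e => h6 (e ▸ mem_top b))
    h1 fun a ha hc => eq_bot_iff.2 fun x hx => by_contra fun x1 => ?_))
  obtain ⟨k, hk⟩ := pow_of_mem pC hx.1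
  exact h.ne_bot pN hN.ne_bot (nm a) hc (nm x) x1 hk (mem_cent1.1 hx.2) (a2 a (fun e => ha (hY e)) hc)

theorem baer : Baer G := by
  by_cases hB : ∀ w ∈ N, w ≠ 1 → ¬ N ≤ X w
  · exact h.caseB ht hp hN he hB
  push Not at hB
  obtain ⟨w, hw, w1, hA⟩ := hB
  haveI := hN.normal
  haveI : (X w).Normal := normalizer_eq_top_iff.1 (eq_top_iff.2 fun g _ =>
    h.mem_norm w1 (hA (Normal.conj_mem ‹_› w hw g)))
  by_cases hc : (Nat.card (X w)).Coprime (X w).index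
  · obtain ⟨H, hH⟩ := exists_right_complement'_of_coprime hc
    refine Or.inr (Or.inr ⟨H, Frobenius.isFrobeniusComplement_of_fpf hH.sup_eq_top
      (fun e => w1 (mem_bot.1 (e ▸ h.mem w))) (fun e => ht w w1 ?_) fun a ha a1 =>
        eq_bot_iff.2 fun x hx => by_contra fun x1 => a1 (disjoint_def.1 hH.disjoint ?_ ha)⟩)
    · simpa [e] using hH.sup_eq_top
    · exact h.eq w1 x1 hx.1 ▸ h.mem_of_coprime x1 ((hc.symm.coprime_dvd_left (hH.symm.index_eq_card ▸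
        orderOf_dvd_natCard _ ha)).coprime_dvd_right (orderOf_dvd_natCard _ hx.1)) (mem_cent1.1 hx.2)
  obtain ⟨q, hq, h1, h2⟩ := Nat.Prime.not_coprime_iff_dvd.1 hc
  haveI := Fact.mk hq
  obtain ⟨x, hx, h3⟩ := Core.exists_mem_orderOf_eq_prime hq h1
  have h4 : x ∈ pCore q G := le_pCore_of_le_fittingSubgroup (zpowers_le.2 (le_fittingSubgroup
    inferInstance (h.nil w w1) hx)) (Inv.isPGroup_zpowers (k := 1) (by
      rw [pow_one, ← h3, pow_orderOf_eq_one])) (mem_zpowers x)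
  obtain ⟨M, hM, h5⟩ := exists_isMinNormal_le (N := pCore q G ⊓ X w) inferInstance fun e =>
    hq.one_lt.ne' (by rw [← h3, mem_bot.1 (e.le ⟨h4, hx⟩), orderOf_one])
  obtain ⟨⟨v, hv⟩, v1⟩ := ne_bot_iff_exists_ne_one.1 hM.ne_bot
  have v1 : v ≠ 1 := fun e => v1 (Subtype.ext e)
  have h6 := h.eq w1 v1 (h5 hv).2
  exact h.caseA ht hq hM (hM.isElementaryAbelian_of_isPGroup ((pCore_isPGroup q G).to_le
    (h5.trans inf_le_left))) hv v1 (h6 ▸ h5.trans inf_le_right) (h6 ▸ h2)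

end PN

end Cfsg.Lib.FGS.Part
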