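import Cfsg.Agent.Lib.FGS.Part2
import Cfsg.Agent.Lib.Perm.Zass7
import Cfsg.Agent.Lib.Perm.Sharp3
import Cfsg.Agent.Lib.Small.SylZass

/-!
# Groups with a partition, part 3: extensions of simple Zassenhaus groups
-/

set_option autoImplicit false

namespace Cfsg.Lib.FGS.Part

open Subgroup MulAction Cfsg.Lib Cfsg.Lib.BG Cfsg.Lib.Transfer Cfsg.Lib.Core Cfsg.Lib.Small Cfsg.Lib.Perm
open scoped MatrixGroups

variable {G Ω : Type*} [Group G] [MulAction G Ω] {X : G → Subgroup G} {p : ℕ} {d g t u w : G}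
  {S : Subgroup G} {a b c : Ω}

theorem stab2_ne_bot_of_simple [IsSimpleGroup G] (h : ZT G Ω) (hab : a ≠ b) : stab2 G a b ≠ ⊥ :=
  fun e => by
  haveI := h.finite
  haveI := h.finite_pts
  haveI := h.nonempty
  haveI := h.pretransitive
  obtain ⟨N, hN, -, h1, h2⟩ := exists_frobenius_kernel (G := G) (Ω := Ω) fun g c d hcd hc hd => by
    have := h.card_stab2_eq hcd hab
    rw [e, card_bot, card_eq_one] at this
    exact mem_bot.1 (this.le ⟨hc, hd⟩)
  rcases hN.eq_bot_or_eq_top with rfl | rfl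
  · obtain ⟨⟨g, hg⟩, e⟩ := h1.exists_smul_eq a b
    obtain rfl : g = 1 := hg
    exact hab ((one_smul G a).symm.trans e)
  · obtain ⟨⟨u, hu⟩, u1⟩ := ne_bot_iff_exists_ne_one.1 (h.zker_ne_bot a)
    have := mem_bot.1 ((h2 a).le (show (⟨u, trivial⟩ : (⊤ : Subgroup G)) ∈ _ from zker_fix (G := G) hu))
    exact u1 (Subtype.ext (congrArg (fun x : (⊤ : Subgroup G) => (x : G)) this))

theorem zker_of_simple [IsSimpleGroup G] (h : ZT G Ω) (hab : a ≠ b) :
    (∃ p : ℕ, p.Prime ∧ IsPGroup p (zker G a) ∧ ∀ u ∈ zker G a, u ^ p = 1 → u ∈ 𝐂(zker G a)) ∧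
      (Odd (Nat.card (zker G a)) → Nat.card (zker G a) - 1 ≤ 2 * Nat.card (stab2 G a b)) := by
  haveI := h.finite
  have h1 : Nat.card (zker G a) - 1 ≤ 2 * Nat.card (stab2 G a b) →
      ∃ p : ℕ, p.Prime ∧ IsPGroup p (zker G a) ∧ ∀ u ∈ zker G a, u ^ p = 1 → u ∈ 𝐂(zker G a) :=
    fun e => by
      obtain ⟨p, hp, h1⟩ := h.elab_of_large hab e
      haveI := h1.1
      exact ⟨p, hp, isPGroup_of_isElementaryAbelian h1, fun u hu _ => le_centralizer _ hu⟩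
  rcases Nat.even_or_odd (Nat.card (stab2 G a b)) with e | e
  · exact ⟨h1 (h.large_of_even hab e), fun _ => h.large_of_even hab e⟩
  have h2 := ZO.of_simple h hab e (stab2_ne_bot_of_simple h hab)
  rcases h2.feit hab fun N hN e => hN.eq_bot_or_eq_top.resolve_left fun e' =>
    h.zker_ne_bot a (eq_bot_iff.2 (e' ▸ e)) with e | ⟨e, -⟩
  · exact ⟨h1 e, fun _ => e⟩
  refine ⟨⟨2, Nat.prime_two, e, fun u hu h3 => ?_⟩, fun ho => absurd (h.even_of_pgroup e)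
    (Nat.not_even_iff_odd.2 ho)⟩
  by_cases u1 : u = 1
  · exact u1 ▸ one_mem _
  exact h2.inv_central (orderOf_eq_prime h3 u1) hu

/-- The Frobenius kernel of a point stabilizer of `S`. -/
abbrev UU (S : Subgroup G) (a : Ω) : Subgroup G := (zker S a).map S.subtype

section Z

variable [S.Normal] (hZ : ZT S Ω)
include hZ

omit [S.Normal] in
theorem mem_UU : u ∈ UU S a ↔ u ∈ S ∧ (u = 1 ∨ (u • a = a ∧ ∀ c : Ω, u • c = c → c = a)) :=
  ⟨by rintro ⟨u, hu, rfl⟩; exact ⟨u.2, (hZ.mem_zker.1 hu).imp_left (congrArg Subtype.val)⟩,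
    fun ⟨h1, h2⟩ => ⟨⟨u, h1⟩, hZ.mem_zker.2 (h2.imp_left Subtype.ext), rfl⟩⟩

theorem conj_mem_UU (hg : g • a = a) (hu : u ∈ UU S a) : g * u * g⁻¹ ∈ UU S a := by
  obtain ⟨h1, h2⟩ := (mem_UU hZ).1 hu
  refine (mem_UU hZ).2 ⟨Normal.conj_mem ‹_› u h1 g, h2.imp (by rintro rfl; simp) fun h => ⟨?_,
    fun c e => ?_⟩⟩
  · rw [mul_smul, mul_smul, inv_smul_eq_iff.2 hg.symm, h.1, hg]
  · rw [mul_smul, mul_smul, smul_eq_iff_eq_inv_smul] at e
    rw [← hg, ← h.2 _ e, smul_inv_smul]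

theorem norm_UU [Finite G] (hg : g • a = a) : g ∈ 𝐍(UU S a) :=
  mem_normalizer_of_conj_le (conj_le_iff.2 fun _ => conj_mem_UU hZ hg)

omit [S.Normal] in
theorem UU_smul (hb : b ≠ a) (hc : c ≠ a) : ∃ u ∈ UU S a, u • b = c := by
  obtain ⟨u, hu, e⟩ := hZ.exists_zker_smul hb hc
  exact ⟨u, mem_map_of_mem _ hu, e⟩

omit [S.Normal] in
theorem UU_fix (hu : u ∈ UU S a) : u • a = a := by
  obtain ⟨u, hu, rfl⟩ := hu
  exact zker_fix (G := S) hu

omit [S.Normal] in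
theorem UU_one (hu : u ∈ UU S a) (hb : b ≠ a) (e : u • b = b) : u = 1 :=
  ((mem_UU hZ).1 hu).2.resolve_right fun h => hb (h.2 b e)

omit [S.Normal] in
theorem UU_cent (hu : u ∈ UU S a) (u1 : u ≠ 1) (hg : g ∈ S) (e : u * g = g * u) : g ∈ UU S a := by
  obtain ⟨u, hu, rfl⟩ := hu
  exact mem_map_of_mem S.subtype (hZ.mem_zker_of_comm (g := ⟨g, hg⟩) hu
    (fun e => u1 (congrArg Subtype.val e)) (Subtype.ext e.symm))

omit [S.Normal] in
theorem UU_ne_bot : UU S a ≠ ⊥ := fun e =>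
  hZ.zker_ne_bot a ((map_eq_bot_iff_of_injective _ S.subtype_injective).1 e)

variable (hC : 𝐂(S) = ⊥)
include hC

theorem eq_one_of_fix (h : ∀ c : Ω, g • c = c) : g = 1 := by
  haveI := hZ.faithful
  refine mem_bot.1 (hC.le (mem_cent.2 fun s hs => ?_))
  have := eq_of_smul_eq_smul (M := S) (α := Ω) (m₁ := ⟨s, hs⟩)
    (m₂ := ⟨g * s * g⁻¹, Normal.conj_mem ‹_› s hs g⟩) fun c => by
      change s • c = (g * s * g⁻¹) • c
      rw [mul_smul, mul_smul, inv_smul_eq_iff.2 (h c).symm, h]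
  exact (mul_inv_eq_iff_eq_mul.1 (congrArg Subtype.val this).symm).symm

theorem eq_one_of_cent (pU : IsPGroup p (UU S a)) (hg : g • a = a) (hc : (orderOf g).Coprime p)
    (h : g ∈ 𝐂(UU S a)) : g = 1 := by
  refine eq_one_of_fix hZ hC fun c => by_contra fun e => ?_
  have hc' : c ≠ a := fun e' => e (e' ▸ hg)
  obtain ⟨u, hu, e'⟩ := UU_smul hZ hc' (c := g • c) fun e => hc' (smul_left_cancel g (e.trans hg.symm))
  have h1 : ∀ n : ℕ, u ^ n • c = g ^ n • c := fun n => by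
    induction n with
    | zero => simp
    | succ n ih => rw [pow_succ, mul_smul, e', ← mul_smul, mem_cent.1 h _ (pow_mem hu n), mul_smul, ih,
        ← mul_smul, pow_succ']
  have h2 := UU_one hZ (pow_mem hu (orderOf g)) hc' (by rw [h1, pow_orderOf_eq_one, one_smul])
  obtain ⟨k, hk⟩ := pow_of_mem pU hu
  rw [orderOf_eq_one_iff.1 (Nat.Coprime.eq_one_of_dvd (coprime_of_pow hk hc).symm
    (orderOf_dvd_of_pow_eq_one h2)), one_smul] at e'
  exact e e'.symm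

variable [Finite G] (h : PN X) (hp : p.Prime) (pU : IsPGroup p (UU S a))
  (hz : ∀ u ∈ UU S a, u ^ p = 1 → u ∈ 𝐂(UU S a))
include h hp pU hz

omit hZ hC h pU hz [S.Normal] [Finite G] in
theorem exists_order_p {k : ℕ} (u1 : u ≠ 1) (hk : u ^ p ^ k = 1) :
    ∃ j, u ^ j ≠ 1 ∧ (u ^ j) ^ p = 1 := by
  induction k with
  | zero => exact absurd (by simpa using hk) u1
  | succ k ih =>
    by_cases e : u ^ p ^ k = 1
    · exact ih e
    · exact ⟨_, e, by rwa [← pow_mul, ← pow_succ]⟩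

theorem fpf (hg : g • a = a) (g1 : g ≠ 1) (hc : (orderOf g).Coprime p) : UU S a ⊓ 𝐂[g] = ⊥ :=
  eq_bot_iff.2 fun u hu => by_contra fun u1 => by
    obtain ⟨k, hk⟩ := pow_of_mem pU hu.1
    obtain ⟨j, h1, h2⟩ := exists_order_p hp u1 hk
    exact g1 (eq_one_of_cent hZ hC pU hg hc (h.cent_of pU (norm_UU hZ hg) hc h1 (k := 1)
      (by rwa [pow_one]) (hz _ (pow_mem hu.1 j) h2) (mem_cent1.1 (pow_mem hu.2 j))))

theorem mixed (hg : g • a = a) : (∃ k, g ^ p ^ k = 1) ∨ (orderOf g).Coprime p := by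
  haveI := Fact.mk hp
  obtain ⟨u, hu, v, hv, ⟨k, hk⟩, h1, e⟩ := exists_p_part_mul_p'_part (p := p) g
  have h2 := zpowers_le.2 (mem_stabilizer_iff.2 hg)
  by_cases v1 : v = 1
  · exact Or.inl ⟨k, by rwa [e, v1, mul_one]⟩
  by_cases u1 : u = 1
  · exact Or.inr (by rwa [e, u1, one_mul])
  exact (h.ne_bot pU (UU_ne_bot hZ) (norm_UU hZ (h2 hv)) h1 (norm_UU hZ (h2 hu)) u1 hk
    (comm_of_mem hu hv) (fpf hZ hC h hp pU hz (h2 hv) v1 h1)).elim

omit h hz hC in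
theorem mem_of_pow {k : ℕ} (hg : g • a = a) (hS : g ∈ S) (hk : g ^ p ^ k = 1) : g ∈ UU S a := by
  haveI := Fact.mk hp
  obtain ⟨w, hw, w1, e⟩ := exists_fix pU (UU_ne_bot hZ) (norm_UU hZ hg) hk
  exact UU_cent hZ hw w1 hS e

theorem eq_one_of_stab2 (h4 : ¬ IsKleinFour (UU S a)) (hab : a ≠ b) (hd : d ∈ stab2 G a b)
    (dS : d ∈ S) (d1 : d ≠ 1) (ht : t ∈ stab2 G a b) (tp : t ^ p = 1) : t = 1 := by_contra fun t1 => by
  haveI := Fact.mk hp
  have cp : ∀ g ∈ stab2 G a b, g ∈ S → (orderOf g).Coprime p := fun g hg hS =>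
    (mixed hZ hC h hp pU hz hg.1).elim (fun ⟨k, hk⟩ => by
      simp [UU_one hZ (mem_of_pow hZ hp pU hg.1 hS hk) hab.symm hg.2]) id
  have tS : t ∉ S := fun e => t1 (eq_one_of_pow_pow_eq_one_of_coprime (k := 1) (by rwa [pow_one])
    (cp t ht e))
  have fd := fpf hZ hC h hp pU hz hd.1 d1 (cp d hd dS)
  have nt : t ∈ 𝐍(S ⊓ stabilizer G a) := norm_inf (zpowers_le.2 (le_normalizer_of_normal (mem_top t)))
    (zpowers_le.2 (le_normalizer ht.1)) (mem_zpowers t)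
  obtain ⟨ρ, hρ, h1⟩ : ∃ ρ ∈ S ⊓ stabilizer G a, (ρ * t) ^ p ≠ 1 := by
    by_contra! e
    refine UU_ne_bot hZ (eq_bot_iff.2 (fd ▸ le_inf le_rfl fun u hu => mem_cent1.2 ?_))
    obtain ⟨k, hk⟩ := pow_of_mem pU hu
    exact (Frobenius.commute_of_mem_nil (kegel hp nt e) ⟨dS, hd.1⟩ ⟨map_subtype_le _ hu, UU_fix hZ hu⟩
      (coprime_of_pow hk (cp d hd dS))).symm
  have pe : ∀ σ ∈ S ⊓ stabilizer G a, ∃ k, (σ * t) ^ p ^ k = 1 := fun σ hσ =>
    (mixed hZ hC h hp pU hz (mul_mem hσ.2 ht.1)).resolve_right fun e => tS (by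
      have h2 := (mem_inf.1 (mul_pow_mul_inv_mem nt hσ p)).1
      rw [tp, inv_one, mul_one] at h2
      obtain ⟨k, e⟩ := mem_zpowers_pow_iff.2 e.symm
      exact (S.mul_mem_cancel_left hσ.1).1 (e ▸ zpow_mem h2 k))
  have ga : (ρ * t) • a = a := mul_mem hρ.2 ht.1
  obtain ⟨k, hk⟩ := pe ρ hρ
  obtain ⟨w, hw, w1, e⟩ := exists_fix pU (UU_ne_bot hZ) (norm_UU hZ ga) hk
  obtain ⟨k, hk⟩ := pow_of_mem pU hw
  obtain ⟨j, w1, wp⟩ := exists_order_p hp w1 hk
  replace hw := pow_mem hw j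
  replace e : w ^ j * (ρ * t) = ρ * t * w ^ j := (Commute.pow_left e j).eq
  generalize w ^ j = w at w1 wp hw e
  by_cases hU : UU S a ≤ X w
  · obtain ⟨u, hu, e'⟩ := UU_smul hZ hab.symm (c := (ρ * t) • b)
      fun e => hab (smul_left_cancel (ρ * t) (ga.trans e.symm))
    have uS : u⁻¹ * ρ ∈ S ⊓ stabilizer G a :=
      mul_mem (inv_mem ⟨map_subtype_le _ hu, UU_fix hZ hu⟩) hρ
    have h2 : u⁻¹ * ρ * t ∈ stab2 G a b := ⟨mul_mem uS.2 ht.1, by
      change _ • b = b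
      rw [mul_assoc, mul_smul, ← e', inv_smul_smul]⟩
    have h3 : u⁻¹ * ρ * t ∈ X w := by
      rw [mul_assoc]; exact mul_mem (inv_mem (hU hu)) (h.mem_of_pow w1 wp h1 e)
    obtain ⟨k, hk⟩ := pe _ uS
    have s1 : u⁻¹ * ρ * t ≠ 1 := fun e => tS ((S.mul_mem_cancel_left uS.1).1 (e ▸ one_mem _))
    generalize u⁻¹ * ρ * t = s at h2 h3 hk s1
    have h5 : s * d * s⁻¹ * d⁻¹ ∈ stab2 G a b :=
      mul_mem (mul_mem (mul_mem h2 hd) (inv_mem h2)) (inv_mem hd)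
    have h6 : s * d * s⁻¹ * d⁻¹ ∈ S := mul_mem (Normal.conj_mem ‹_› d dS s) (inv_mem dS)
    have h7 : s * d * s⁻¹ * d⁻¹ ∈ X w := by
      have := mul_mem h3 (conj_mem_of_norm (h.mem_norm w1 (hU (conj_mem_UU hZ hd.1 hw))) (inv_mem h3))
      simpa [mul_assoc] using this
    have h8 : s * d * s⁻¹ * d⁻¹ = 1 := by_contra fun c1 => w1 (mem_bot.1
      ((fpf hZ hC h hp pU hz h5.1 c1 (cp _ h5 h6)).le ⟨hw, mem_cent1.2 (h.comm w1 (h.mem w) h7
        (coprime_of_pow (k := 1) (by rwa [pow_one]) (cp _ h5 h6)).symm)⟩))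
    exact h.ne_bot pU (UU_ne_bot hZ) (norm_UU hZ hd.1) (cp d hd dS) (norm_UU hZ h2.1) s1 hk
      (mul_inv_eq_iff_eq_mul.1 (mul_inv_eq_one.1 h8)) fd
  have h2 : ∀ u ∈ UU S a, u ^ p = 1 := fun u hu => by_contra fun up => hU fun v hv => by
    have u1 : u ≠ 1 := fun e => up (by rw [e, one_pow])
    by_cases vp : v ^ p = 1
    · by_cases v1 : v = 1
      · exact v1 ▸ one_mem _
      rw [← h.eq w1 u1 (h.mem_of_pow w1 wp up (mem_cent.1 (hz w hw wp) u hu).symm),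
        h.eq v1 u1 (h.mem_of_pow v1 vp up (mem_cent.1 (hz v hv vp) u hu).symm)]
      exact h.mem v
    · exact h.mem_of_pow w1 wp vp (mem_cent.1 (hz w hw wp) v hv).symm
  have he : IsElementaryAbelian p (UU S a) :=
    ⟨abelian_iff.2 fun u hu => hz u hu (h2 u hu), h2⟩
  obtain ⟨rfl, h3⟩ := h.two_of hp he (norm_UU hZ ga) hw w1 e h1 hU
  exact h4 (h.four_of he hw w1 hU h3 (norm_UU hZ hd.1) fd)

end Z

theorem PN.zt [Finite G] (h : PN X) [S.Normal] [IsSimpleGroup S] (hZ : ZT S Ω) (hC : 𝐂(S) = ⊥)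
    (h5 : Nat.card Ω ≠ 5) : ZT G Ω := by
  refine ⟨fun a b c d hab hcd => ?_, fun g a b c hab hbc hac ha hb hc => by_contra fun g1 => ?_,
    hZ.card⟩
  · obtain ⟨s, h⟩ := hZ.two a b c d hab hcd
    exact ⟨s, h⟩
  obtain ⟨⟨p, hp, h1, h2⟩, -⟩ := zker_of_simple hZ hab
  have pU : IsPGroup p (UU S a) := h1.map _
  have hz : ∀ u ∈ UU S a, u ^ p = 1 → u ∈ 𝐂(UU S a) := by
    rintro _ ⟨u, hu, rfl⟩ e
    refine mem_cent.2 ?_
    rintro _ ⟨v, hv, rfl⟩
    exact congrArg Subtype.val (mem_cent.1 (h2 u hu (Subtype.ext e)) v hv)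
  rcases mixed hZ hC h hp pU hz ha with ⟨k, hk⟩ | e
  · obtain ⟨j, h3, h4⟩ := exists_order_p hp g1 hk
    obtain ⟨⟨d, hd⟩, d1⟩ := ne_bot_iff_exists_ne_one.1 (stab2_ne_bot_of_simple hZ hab)
    refine h3 (eq_one_of_stab2 hZ hC h hp pU hz (fun e => h5 ?_) hab (d := (d : G)) hd d.2
      (fun e => d1 (Subtype.ext (Subtype.ext e))) ((stab2 G a b).pow_mem ⟨ha, hb⟩ j) h4)
    rw [← hZ.card_zker a, ← card_map_of_injective (f := S.subtype) S.subtype_injective, e.card_four]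
  obtain ⟨u, hu, e'⟩ := UU_smul hZ hab.symm hac.symm
  refine hbc ?_
  rw [← e', mem_bot.1 ((fpf hZ hC h hp pU hz ha g1 e).le ⟨hu, mem_cent1.2 ?_⟩), one_smul]
  have h3 := UU_one hZ (mul_mem (inv_mem hu) (conj_mem_UU hZ ha hu)) hab.symm (by
    rw [mul_smul, mul_smul, mul_smul, inv_smul_eq_iff.2 hb.symm, e', hc, ← e', inv_smul_smul])
  exact (mul_inv_eq_iff_eq_mul.1 (inv_mul_eq_one.1 h3).symm).symm

/-- In a sharply triply transitive group with a partition the two-point stabilizer is inverted. -/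
theorem PN.inverts [Finite G] (h : PN X) (hZ : ZT G Ω) (hab : a ≠ b) (ho : Odd (Nat.card (zker G a)))
    (he : Even (Nat.card (stab2 G a b))) (hca : c ≠ a) (hcb : c ≠ b) (h1 : w • a = b) (h2 : w • b = a)
    (h3 : w • c = c) : w * w = 1 ∧ ∀ k ∈ stab2 G a b, w * k * w⁻¹ = k⁻¹ := by
  obtain ⟨z, hz⟩ := hZ.exists_invTwo hab he hca hcb h1 h2 h3
  refine ⟨hz.sq, fun k hk => by_contra fun hn => ?_⟩
  have z1 := Inv.ne_one_of_orderOf hz.ord
  have z2 : z ^ 2 = 1 := hz.ord ▸ pow_orderOf_eq_one z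
  have w1 : w ≠ 1 := fun e => hab (by rw [← h1, e, one_smul])
  have wo : orderOf w = 2 := orderOf_eq_prime (by rw [pow_two, hz.sq]) w1
  have wi : w⁻¹ = w := inv_eq_of_mul_eq_one_left hz.sq
  have h4 : stab2 G a b ≤ X z := fun l hl => by
    by_cases e : l ^ 2 = 1
    · rcases hz.uniq l hl (by rwa [← pow_two]) with rfl | rfl
      exacts [one_mem _, h.mem _]
    · exact h.mem_of_pow z1 z2 e (mem_cent1.1 (hz.z_comm hl)).symm
  have h5 : z * w = w * z := by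
    rw [← mul_inv_eq_iff_eq_mul.1 (hZ.involution_unique hab (conj_mem_of_norm hz.norm hz.mem)
      (by rw [Inv.orderOf_conj', hz.ord]) hz.mem hz.ord)]
  have h6 : w ∈ X z := (mul_mem_cancel_right (h4 hk)).1 (h.mem_of_pow z1 z2 (fun e => hn (by
    rw [wi, eq_inv_iff_mul_eq_one, ← e, pow_two, mul_assoc]))
      (by rw [← mul_assoc, h5, mul_assoc, ← mem_cent1.1 (hz.z_comm hk), mul_assoc]))
  obtain ⟨s, hs⟩ : ∃ s, s * z * s⁻¹ = w := by
    by_cases e : w ∈ zker G c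
    · exact absurd ((wo ▸ orderOf_dvd_natCard _ e).trans (hZ.card_zker_eq c a).dvd)
        ho.not_two_dvd_nat
    have := mt (fun e => hZ.mem_zker.2 (Or.inr ⟨h3, e⟩)) e
    push Not at this
    obtain ⟨d, h7, h8⟩ := this
    obtain ⟨s, rfl, rfl⟩ := hZ.two a b c d hab h8.symm
    exact ⟨s, hZ.involution_unique h8.symm (conj_mem_stab2_smul s hz.mem)
      (by rw [Inv.orderOf_conj', hz.ord]) ⟨h3, h7⟩ wo⟩
  have h7 := h.mem_norm z1 (hs ▸ h6)
  haveI := h.nil z z1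
  haveI : Fact (Nat.Prime 2) := ⟨Nat.prime_two⟩
  obtain ⟨t, ht, t1, t2⟩ : ∃ t ∈ X z ⊓ 𝐂(X z), t ≠ 1 ∧ t ^ 2 = 1 := by
    have h8 := PGroup.inf_centralizer_ne_bot_of_nilpotent (S := X z) (N := pCoreOf 2 (X z))
      (map_subtype_le _) (le_normalizer.trans (normalizer_le_normalizer_pCoreOf 2 _)) fun e =>
        z1 (mem_bot.1 (e ▸ le_pCoreOf_of_isNilpotent ‹_› (zpowers_le.2 (h.mem z))
          (Inv.isPGroup_zpowers (k := 1) z2) (mem_zpowers z)))
    obtain ⟨⟨t, ht⟩, t1⟩ := ne_bot_iff_exists_ne_one.1 h8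
    obtain ⟨k, hk⟩ := pow_of_mem ((pCore_isPGroup 2 (X z)).map _) ht.1
    obtain ⟨j, h9⟩ := exists_order_p Nat.prime_two (fun e => t1 (Subtype.ext e)) hk
    exact ⟨_, pow_mem (mem_inf.2 ⟨map_subtype_le _ ht.1, ht.2⟩) j, h9⟩
  have h8 : w * k = k * w := by
    rw [pow_two] at t2
    rcases mem_pairStab.1 (hZ.mem_pairStab_of_conj hab (g := t) hz.mem z1 (by
      rw [← mem_cent.1 ht.2 z (h.mem z), mul_inv_cancel_right]; exact hz.mem)) with e | e
    · obtain rfl := (hz.uniq t e t2).resolve_left t1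
      exact (mem_cent.1 (hs ▸ conj_mem_of_norm (norm_cent (zpowers_le.2 h7) (mem_zpowers s)) ht.2) k
        (h4 hk)).symm
    have h9 := swap_mul_swap h1 h2 e.1 e.2
    have h10 := mem_cent.1 ht.2 w h6
    have h11 : w = w * t * t := by rw [mul_assoc, t2, mul_one]
    have h12 : Commute t k := (mem_cent.1 ht.2 k (h4 hk)).symm
    rcases hz.uniq _ h9 (by
      rw [← Commute.mul_mul_mul_comm h10, hz.sq, t2, one_mul]) with e | e <;>
      rw [h11, e]
    · rw [one_mul, h12.eq]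
    · exact (Commute.mul_left (mem_cent1.1 (hz.z_comm hk)).symm h12).eq
  exact hn (by rw [h8, mul_inv_cancel_right, eq_inv_iff_mul_eq_one, hz.cent k hk h8])

theorem PN.zass [Finite G] (h : PN X) [S.Normal] [IsSimpleGroup S] (hZ : ZT S Ω) (hC : 𝐂(S) = ⊥)
    (h5 : Nat.card Ω ≠ 5) : S = ⊤ ∨ ∃ (F : Type) (_ : Field F) (_ : Fintype F), 5 ≤ Fintype.card F ∧
      Odd (Fintype.card F) ∧ Nonempty (G ≃* PGL(2, F)) := by
  have hG := h.zt hZ hC h5
  obtain ⟨a⟩ := hG.nonempty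
  obtain ⟨b, hab⟩ := hG.exists_ne a
  replace hab := hab.symm
  have h1 : ∀ c : Ω, Nat.card (zker S c) = Nat.card (zker G c) := fun c =>
    Nat.succ_injective ((hZ.card_zker c).trans (hG.card_zker c).symm)
  rcases Nat.even_or_odd (Nat.card (zker G a)) with e | e
  · refine Or.inl (hG.eq_top_of_even hab e fun c => ?_)
    rw [← hG.eq_zker_of_card (F := UU S c) (fun u hu => UU_fix hZ hu) (by
      rw [card_map_of_injective S.subtype_injective, hZ.card_zker]) fun u hu u1 =>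
        (((mem_UU hZ).1 hu).2.resolve_left u1).2]
    exact map_subtype_le _
  refine or_iff_not_imp_left.2 fun hS => ?_
  have h2 := (zker_of_simple hZ hab).2 (h1 a ▸ e)
  have h3 := card_mul_index S
  have h4 := hG.two_le_card_zker a
  rw [hZ.card_eq hab, hG.card_eq hab, h1, mul_assoc, mul_assoc, mul_right_inj' (by omega),
    mul_right_inj' (by omega)] at h3
  have h6 : 2 ≤ S.index := by have := mt index_eq_one.1 hS; have := S.index_ne_zero_of_finite; omega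
  have h7 := Nat.le_of_dvd (by omega) (hG.card_stab2_dvd hab)
  have h8 := (one_lt_card_iff_ne_bot _).2 (stab2_ne_bot_of_simple hZ hab)
  have h9 := Nat.mul_le_mul_left (Nat.card (stab2 S a b)) h6
  rw [h1] at h2
  have hd : Nat.card (stab2 G a b) + 1 = Nat.card (zker G a) := by omega
  obtain ⟨K, _, _, hK⟩ := hG.exists_field hab (by omega)
  obtain ⟨c, hca, hcb⟩ := hG.exists_third a b
  obtain ⟨w, h10, h11, h12⟩ := three_iff.1 ((hG.card_stab2_iff hab).1 hd) a b c b a c hab hca.symm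
    hcb.symm hab.symm hcb.symm hca.symm
  obtain ⟨h13, h14⟩ := h.inverts hG hab e (Nat.odd_add_one.1 (hd ▸ e) |> Nat.not_odd_iff_even.1)
    hca hcb h10 h11 h12
  rw [← hK, Nat.card_eq_fintype_card] at e
  exact ⟨K, _, inferInstance, by rw [← Nat.card_eq_fintype_card]; omega, e,
    hG.nonempty_equiv_PGL hab h10 h11 h13 h14 hd K hK⟩

/-- The action of a simple Zassenhaus group on the points is the action on a class of Sylow subgroups. -/
theorem exists_zt_sylow [IsSimpleGroup G] (h : ZT G Ω) :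
    ∃ (p : ℕ) (_ : Fact p.Prime), ZT G (Sylow p G) ∧ Nat.card (Sylow p G) = Nat.card Ω := by
  haveI := h.finite
  haveI := h.pretransitive
  obtain ⟨a⟩ := h.nonempty
  obtain ⟨b, hab⟩ := h.exists_ne a
  obtain ⟨⟨p, hp, h1, -⟩, -⟩ := zker_of_simple h hab.symm
  haveI := Fact.mk hp
  have h2 := h.two_le_card_zker a
  have h3 : p ∣ Nat.card (zker G a) := h1.card_eq_or_dvd.resolve_left (by omega)
  have h4 := card_mul_index (zker G a)
  rw [h.card_eq hab.symm, mul_left_comm, mul_right_inj' (by omega)] at h4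
  have h5 : ¬ p ∣ (zker G a).index := fun e => hp.one_lt.ne' (Nat.dvd_one.1 (by
    rcases hp.dvd_mul.1 (h4 ▸ e) with e | e
    · exact (Nat.dvd_add_right h3).1 e
    · have := Nat.dvd_sub h3 (e.trans (h.card_stab2_dvd hab.symm))
      rwa [Nat.sub_sub_self (by omega)] at this))
  have h6 : Nat.card (Sylow p G) = Nat.card Ω := by
    rw [(h1.toSylow h5).card_eq_index_normalizer, ← index_stabilizer_of_transitive G a,
      ← h.normalizer_zker]
    rfl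
  exact ⟨p, ‹_›, zt_sylow (P := h1.toSylow h5) (fun x hx x1 g e => h.mem_zker_of_comm hx x1 e)
    (h6.trans (h.card_zker a).symm) (h.zker_ne_bot a), h6⟩

theorem PN.zass' [Finite G] (h : PN X) [S.Normal] [IsSimpleGroup S] {T Ω : Type*} [Group T]
    [MulAction T Ω] (hZ : ZT T Ω) (e : S ≃* T) (hC : 𝐂(S) = ⊥) (h5 : Nat.card Ω ≠ 5) :
    S = ⊤ ∨ ∃ (F : Type) (_ : Field F) (_ : Fintype F), 5 ≤ Fintype.card F ∧
      Odd (Fintype.card F) ∧ Nonempty (G ≃* PGL(2, F)) := by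
  letI : MulAction S Ω := MulAction.compHom Ω e.toMonoidHom
  obtain ⟨p, _, h1, h2⟩ := exists_zt_sylow (G := S) (Ω := Ω) ⟨fun a b c d h1 h2 => by
    obtain ⟨g, h⟩ := hZ.two a b c d h1 h2
    obtain ⟨g, rfl⟩ := e.surjective g
    exact ⟨g, h⟩, fun g a b c h1 h2 h3 h4 h5 h6 =>
      (map_eq_one_iff e e.injective).1 (hZ.three _ a b c h1 h2 h3 h4 h5 h6), hZ.card⟩
  letI : MulAction G (Sylow p S) := MulAction.compHom _ (MulAut.conjNormal (H := S))
  exact h.zass (Ω := Sylow p S) ⟨h1.two, h1.three, h1.card⟩ hC (h2 ▸ h5)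

end Cfsg.Lib.FGS.Part
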