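import Cfsg.Agent.Lib.FGS.ClassSize2
import Cfsg.Agent.Lib.FGS.Classes
import Cfsg.Agent.Lib.FGS.FrobCount
import Cfsg.Agent.Lib.Small.Fix

/-!
# Simple groups `G = H C(z)` with `H` an abelian subgroup that is the centralizer of each of its nonidentity elements
-/

set_option autoImplicit false

namespace Cfsg.Lib.FGS

open Subgroup Cfsg.Lib Cfsg.Lib.BG Cfsg.Lib.Char Cfsg.Lib.Small Finset
open scoped commutatorElement ComplexConjugate

variable {G : Type*} [Group G] [Finite G] {H : Subgroup G}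

/-- `H` is the centralizer of each of its nonidentity elements. -/
def CC (H : Subgroup G) : Prop := ∀ h ∈ H, h ≠ 1 → 𝐂[h] = H

namespace CC

omit [Finite G] in
theorem comm (hC : CC H) : IsMulCommutative H := ⟨⟨fun a b => Subtype.ext (by
  by_cases h : (b : G) = 1
  · simp [h]
  · exact mem_cent1.1 ((hC b b.2 h).ge a.2))⟩⟩

theorem mem_norm (hC : CC H) {h y : G} (hh : h ∈ H) (h1 : h ≠ 1) (hy : y * h * y⁻¹ ∈ H) : y ∈ 𝐍(H) := by
  refine mem_normalizer_fintype fun x hx => ?_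
  rw [← hC _ hy (by simpa [mul_inv_eq_iff_eq_mul] using h1)]
  have := mem_cent1.1 ((hC h hh h1).ge hx)
  rw [SetLike.mem_coe, mem_cent1]
  calc y * x * y⁻¹ * (y * h * y⁻¹) = y * (x * h) * y⁻¹ := by group
    _ = _ := by rw [this]; group

theorem ti_sum [Fintype G] [DecidablePred (· ∈ H)] [DecidableEq G] (hC : CC H) (f : G → ℝ) (h0 : ∀ g, 0 ≤ f g)
    (hf : ∀ x g, f (x * g * x⁻¹) = f g) :
    Nat.card G * ∑ h with h ∈ H ∧ h ≠ 1, f h ≤ Nat.card 𝐍(H) * ∑ g with g ≠ 1, f g := by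
  classical
  have e1 : ∀ x : G, ∑ h with h ∈ H ∧ h ≠ 1, f h = ∑ g with g ≠ 1, if x * g * x⁻¹ ∈ H then f g else 0 := fun x => by
    rw [← sum_filter, filter_filter]
    refine (sum_bij' (fun g _ => x * g * x⁻¹) (fun g _ => x⁻¹ * g * x) ?_ ?_ ?_ ?_ ?_).symm
    · intro g hg
      simp only [mem_filter, mem_univ, true_and] at hg ⊢
      exact ⟨hg.2, by simpa [mul_inv_eq_iff_eq_mul] using hg.1⟩
    · intro g hg
      simp only [mem_filter, mem_univ, true_and] at hg ⊢
      exact ⟨fun e => hg.2 (by simpa [mul_assoc, inv_mul_eq_one] using e), by simpa [mul_assoc] using hg.1⟩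
    · intro g _; group
    · intro g _; group
    · intro g _; exact (hf x g).symm
  calc _ = ∑ x : G, ∑ h with h ∈ H ∧ h ≠ 1, f h := by rw [sum_const, card_univ, nsmul_eq_mul, Nat.card_eq_fintype_card]
    _ = ∑ g with g ≠ 1, ∑ x : G, if x * g * x⁻¹ ∈ H then f g else 0 := by rw [sum_congr rfl fun x _ => e1 x, sum_comm]
    _ ≤ _ := by
      rw [mul_sum]
      refine sum_le_sum fun g hg => ?_
      rw [← sum_filter, sum_const, nsmul_eq_mul]
      refine mul_le_mul_of_nonneg_right (Nat.cast_le.2 ?_) (h0 g)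
      rcases (univ.filter fun x : G => x * g * x⁻¹ ∈ H).eq_empty_or_nonempty with e | ⟨x, hx⟩
      · simp [e]
      rw [← ncard_mul_right x 𝐍(H), ← Set.ncard_coe_finset]
      refine Set.ncard_le_ncard fun y hy => hC.mem_norm (mem_filter.1 hx).2
        (by simpa [mul_inv_eq_iff_eq_mul] using hg) ?_
      simpa [mul_assoc] using hy

theorem dvd_sub_one (hC : CC H) {K : Subgroup G} (hK : K ≤ H) (hN : 𝐍(H) ≤ 𝐍(K)) :
    H.relIndex 𝐍(H) ∣ Nat.card K - 1 := by
  have : ((K : Set G) \ {1}).ncard = Nat.card K - 1 := by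
    rw [Set.ncard_sdiff_singleton_of_mem K.one_mem]; rfl
  rw [← this]
  refine dvd_ncard_of_classes (hcl 𝐍(H)) (fun x _ => ⟨1, one_mem _, by simp⟩) ?_ ?_ fun x hx => ?_
  · rintro x hx _ ⟨g, hg, rfl⟩
    exact ⟨(mem_normalizer_iff.1 (hN hg) x).1 hx.1, by simpa [mul_inv_eq_iff_eq_mul] using hx.2⟩
  · rintro x - _ ⟨g, hg, rfl⟩
    ext y
    constructor
    · rintro ⟨k, hk, rfl⟩; exact ⟨k * g, mul_mem hk hg, by group⟩
    · rintro ⟨k, hk, rfl⟩; exact ⟨k * g⁻¹, mul_mem hk (inv_mem hg), by group⟩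
  · rw [ncard_hcl, hC x (hK hx.1) hx.2]

theorem exists_comm_eq (hC : CC H) {w x : G} (hw : w ∈ 𝐍(H)) (h1 : w ∉ H) (hx : x ∈ H) :
    ∃ h ∈ H, h * w * h⁻¹ = x * w := by
  let f : H → H := fun h => ⟨h * (w * (h : G)⁻¹ * w⁻¹), mul_mem h.2 ((mem_normalizer_iff.1 hw _).1 (inv_mem h.2))⟩
  have hf : Function.Injective f := fun a b e => by
    by_contra n
    have e' : (a : G) * (w * (a : G)⁻¹ * w⁻¹) = b * (w * (b : G)⁻¹ * w⁻¹) := congrArg Subtype.val e
    refine h1 ((hC ((b : G)⁻¹ * a) (mul_mem (inv_mem b.2) a.2) fun k => n (Subtype.ext (inv_mul_eq_one.1 k).symm)).le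
      (mem_cent1.2 ?_))
    calc w * ((b : G)⁻¹ * a) = (b : G)⁻¹ * (b * (w * (b : G)⁻¹ * w⁻¹)) * w * a := by group
      _ = _ := by rw [← e']; group
  obtain ⟨h, e⟩ := Finite.surjective_of_injective hf ⟨x, hx⟩
  have e' : (h : G) * (w * (h : G)⁻¹ * w⁻¹) = x := congrArg Subtype.val e
  exact ⟨h, h.2, by rw [← e']; group⟩

theorem dvd_degree (hC : CC H) {χ : G → ℂ} (hχ : IsCharacter G χ) (h0 : fixDim χ H = 0) :
    H.relIndex 𝐍(H) ∣ charDegree χ := by
  have c : (Nat.card H).Coprime (H.relIndex 𝐍(H)) := by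
    have := Nat.card_pos (α := H)
    refine Nat.Coprime.coprime_dvd_right (hC.dvd_sub_one le_rfl le_rfl) ?_
    rw [← Nat.coprime_self_add_left, show Nat.card H - 1 + Nat.card H = 1 + (Nat.card H - 1) * 2 by omega]
    simp
  obtain ⟨M, hM⟩ := exists_right_complement'_of_coprime (N := H.subgroupOf 𝐍(H))
    (by rwa [Nat.card_congr (subgroupOfEquivOfLe le_normalizer).toEquiv])
  have := card_mul_fixDim_of_const (A := M.map (𝐍(H)).subtype) hχ (c := 0) (by
    rintro _ ⟨w, hw, rfl⟩ n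
    have k : (w : G) ∉ H := fun e => n (congrArg Subtype.val (disjoint_def.1 hM.disjoint e hw))
    rw [coe_subtype, ← avg_of_const (A := H) (χ := χ), avg_eq_zero hχ h0 w.2, Int.cast_zero]
    intro x hx
    obtain ⟨h, -, e⟩ := hC.exists_comm_eq w.2 k hx
    rw [← e, hχ.isClassFunction.conj_apply])
  rw [card_map_of_injective (subtype_injective _), ← hM.symm.index_eq_card] at this
  rw [mul_zero, add_zero] at this
  exact ⟨_, by exact_mod_cast this.symm⟩

theorem degree_bound (hC : CC H) {χ : G → ℂ} (hχ : IsIrrCharacter G χ) :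
    (charDegree χ : ℝ) * (Nat.card H - charDegree χ) < Nat.card H * H.relIndex 𝐍(H) := by
  classical
  have := Fintype.ofFinite G
  have := hC.comm
  have h1 := hC.ti_sum (fun g => ‖χ g‖ ^ 2) (fun _ => by positivity) fun x g => by rw [hχ.isClassFunction.conj_apply]
  have h2 := hχ.sum_norm_sq
  rw [← add_sum_erase _ _ (mem_univ 1), hχ.isCharacter.norm_apply_one, ← filter_ne'] at h2
  have h3 : (charDegree χ : ℝ) ≤ fixDim (χ * fun g => conj (χ g)) H :=
    Nat.cast_le.2 (charDegree_le_fixDim_mul_conj hχ.isCharacter)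
  have h4 : (Nat.card H : ℝ) * fixDim (χ * fun g => conj (χ g)) H = charDegree χ ^ 2 + ∑ h with h ∈ H ∧ h ≠ 1, ‖χ h‖ ^ 2 := by
    have := card_mul_fixDim (A := H) (hχ.isCharacter.mul hχ.isCharacter.conj)
    simp only [Pi.mul_apply, Complex.mul_conj, Complex.normSq_eq_norm_sq] at this
    rw [← sum_subtype (univ.filter (· ∈ H)) (by simp) fun g => ((‖χ g‖ ^ 2 : ℝ) : ℂ),
      ← add_sum_erase _ _ (a := 1) (by simp), hχ.isCharacter.norm_apply_one, ← filter_ne', filter_filter] at this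
    exact_mod_cast this
  have h5 : (Nat.card 𝐍(H) : ℝ) = Nat.card H * H.relIndex 𝐍(H) := by
    rw [← (H.subgroupOf 𝐍(H)).card_mul_index, Nat.card_congr (subgroupOfEquivOfLe le_normalizer).toEquiv]
    push_cast; rfl
  have p1 : (0 : ℝ) < Nat.card G := Nat.cast_pos.2 Nat.card_pos
  have p2 : (0 : ℝ) < Nat.card 𝐍(H) := Nat.cast_pos.2 Nat.card_pos
  have p3 : (0 : ℝ) < Nat.card H := Nat.cast_pos.2 Nat.card_pos
  have p4 : (0 : ℝ) < charDegree χ := Nat.cast_pos.2 hχ.charDegree_pos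
  rw [← h5]
  refine lt_of_mul_lt_mul_left ?_ p1.le
  have := mul_le_mul_of_nonneg_left h3 p3.le
  have := mul_pos p2 (pow_pos p4 2)
  nlinarith

theorem sq_le (hC : CC H) {p q : ℕ} (hp : p.Prime) (hq : q.Prime) (hpq : p ≠ q) (h1 : p ∣ Nat.card H)
    (h2 : q ∣ Nat.card H) : (H.relIndex 𝐍(H) + 1) ^ 2 ≤ Nat.card H := by
  have := Fact.mk hp
  have := hC.comm
  obtain ⟨P⟩ : Nonempty (Sylow p H) := inferInstance
  have hn : (P : Subgroup H).Normal := inferInstance
  have := Sylow.characteristic_of_normal P hn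
  have a1 := hC.dvd_sub_one (map_subtype_le (P : Subgroup H)) (by
    intro g hg
    refine mem_normalizer_fintype ?_
    rintro _ ⟨x, hx, rfl⟩
    exact ⟨normalizerMonoidHom H ⟨g, hg⟩ x, (characteristic_iff_le_comap.1 this _) hx, rfl⟩)
  rw [card_map_of_injective (subtype_injective _)] at a1
  have a2 := hC.dvd_sub_one le_rfl le_rfl
  have e := (P : Subgroup H).card_mul_index
  have b1 : 1 < Nat.card (P : Subgroup H) := (one_lt_card_iff_ne_bot _).2 (P.ne_bot_of_dvd_card h1)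
  have b2 : 1 < (P : Subgroup H).index := by
    by_contra n
    have : (P : Subgroup H).index = 1 := by have := (P : Subgroup H).index_ne_zero_of_finite; omega
    rw [this, mul_one] at e
    obtain ⟨k, hk⟩ := P.2.exists_card_eq
    exact hpq ((Nat.prime_dvd_prime_iff_eq hq hp).1 (hq.dvd_of_dvd_pow (hk ▸ e ▸ h2))).symm
  have a3 : H.relIndex 𝐍(H) ∣ (P : Subgroup H).index - 1 := by
    have := Nat.dvd_sub a2 (a1.mul_right (P : Subgroup H).index)
    rwa [← e, Nat.sub_mul, one_mul, show ∀ a b : ℕ, b ≤ a → 1 ≤ b → a - 1 - (a - b) = b - 1 by omega] at this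
    · exact Nat.le_mul_of_pos_left _ (by omega)
    · omega
  have := Nat.le_of_dvd (by omega) a1
  have := Nat.le_of_dvd (by omega) a3
  rw [← e, sq]
  exact Nat.mul_le_mul (by omega) (by omega)

theorem coprime_degree [IsSimpleGroup G] (hG : ¬ IsMulCommutative G) (hC : CC H) {p q : ℕ} (hp : p.Prime)
    (hq : q.Prime) (hpq : p ≠ q) (h1 : p ∣ Nat.card H) (h2 : q ∣ Nat.card H) {χ : G → ℂ} (hχ : IsIrrCharacter G χ)
    (h0 : fixDim χ H = 0) (hd : charDegree χ < Nat.card H) : (charDegree χ).Coprime (Nat.card H) := by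
  obtain ⟨k, hk⟩ := hC.dvd_degree hχ.isCharacter h0
  obtain ⟨t, ht⟩ := hC.dvd_sub_one le_rfl le_rfl
  have a1 := hC.degree_bound hχ
  have a2 := hC.sq_le hp hq hpq h1 h2
  have a3 := hχ.charDegree_pos
  have a6 : 6 ≤ Nat.card H := by
    have := Nat.le_of_dvd Nat.card_pos (((Nat.coprime_primes hp hq).2 hpq).mul_dvd_of_dvd_of_dvd h1 h2)
    have := hp.two_le
    have := hq.two_le
    rcases Nat.lt_or_gt_of_ne hpq with h | h <;> nlinarith
  generalize H.relIndex 𝐍(H) = m at *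
  obtain ⟨a, ha⟩ : ∃ a, Nat.card H = m * t + 1 := ⟨0, by omega⟩
  rw [ha, hk] at a1 hd ⊢
  rw [ha] at a2 a6
  rw [hk] at a3
  have m0 : 0 < m := Nat.pos_of_mul_pos_right a3
  have k0 : 0 < k := Nat.pos_of_mul_pos_left a3
  have kt : k ≤ t := Nat.le_of_mul_le_mul_left (by omega) m0
  have tm : m + 2 ≤ t := by nlinarith
  have t4 : 4 ≤ t := by
    rcases Nat.lt_or_ge m 2 with h | h
    · obtain rfl : m = 1 := by omega
      omega
    · omega
  have a4 : k * (m * t + 1) < m * t + 1 + k * (m * k) := by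
    have : (m : ℝ) * (k * (m * t + 1)) < m * (m * t + 1 + k * (m * k)) := by push_cast at a1; nlinarith
    exact_mod_cast lt_of_mul_lt_mul_left this (by positivity)
  rcases (by
    by_contra n
    obtain ⟨j, rfl⟩ : ∃ j, k = j + 2 := ⟨k - 2, by omega⟩
    obtain ⟨i, rfl⟩ : ∃ i, t = j + 2 + 1 + i := ⟨t - (j + 3), by omega⟩
    rcases Nat.eq_zero_or_pos i with rfl | hi
    · nlinarith
    · nlinarith [Nat.zero_le (j * m * i), Nat.mul_le_mul_left m hi] : k = 1 ∨ k = t) with rfl | rfl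
  · simp
  · simp

end CC

/-- A class of elements on which `H` acts regularly consists of pairwise noncommuting elements. -/
theorem CC.isolated [IsSimpleGroup G] (hG : ¬ IsMulCommutative G) (hC : CC H) {p q : ℕ} (hp : p.Prime)
    (hq : q.Prime) (hpq : p ≠ q) (h1 : p ∣ Nat.card H) (h2 : q ∣ Nat.card H) {z : G} (hz : z ≠ 1)
    (hi : (𝐂[z]).index = Nat.card H) (hc : (Nat.card 𝐂[z]).Coprime (Nat.card H)) (g : G)
    (hg : Commute z (g * z * g⁻¹)) : g * z * g⁻¹ = z := by
  classical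
  have := Fintype.ofFinite G
  have key : ∀ {φ : G → ℂ}, IsCharacter G φ → fixDim φ H = 0 → charDegree φ < Nat.card H → φ z = 0 := fun hφ => by
    refine hφ.induction_on (P := fun φ => fixDim φ H = 0 → charDegree φ < Nat.card H → φ z = 0) (fun _ _ => rfl)
      fun ψ φ hψ hφ ih e1 e2 => ?_
    rw [fixDim_add hψ.isCharacter hφ] at e1
    rw [charDegree_eq_of_apply_one (n := charDegree ψ + charDegree φ)
      (by rw [Pi.add_apply, hψ.apply_one_eq, hφ.apply_one_eq, Nat.cast_add])] at e2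
    rw [Pi.add_apply, ih (by omega) (by omega), add_zero]
    refine (hψ.eq_zero_or_norm_eq_of_coprime (hi ▸ hC.coprime_degree hG hp hq hpq h1 h2 hψ (by omega) (by omega))).resolve_right
      fun e => hG ?_
    have := hψ.isCharacter.charCenter_le_center (hψ.charKer_eq_bot_of_isSimpleGroup fun k => by
      rw [k, fixDim_one] at e1; omega) (hψ.isCharacter.mem_charCenter_iff.2 e)
    exact center_eq_top_iff.1 ((IsSimpleGroup.eq_bot_or_eq_top_of_normal _ inferInstance).resolve_left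
      fun k => hz (mem_bot.1 (k ▸ this)))
  have hπ := isCharacter_card_fixedBy (G := G) (G ⧸ 𝐂[z])
  set π : G → ℂ := fun g => (Nat.card (MulAction.fixedBy (G ⧸ 𝐂[z]) g) : ℂ)
  have π1 : π 1 = Nat.card H := by simp only [π, ← hi, index, MulAction.fixedBy_one_eq_univ, Nat.card_univ]
  have πH : ∀ h ∈ H, h ≠ 1 → π h = (0 : ℤ) := fun h hh n => by
    simp only [π, Int.cast_zero, Nat.cast_eq_zero, Nat.card_eq_zero]
    refine .inl ⟨fun ⟨x, hx⟩ => n ?_⟩
    obtain ⟨x, rfl⟩ := QuotientGroup.mk_surjective x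
    have := QuotientGroup.eq.1 (MulAction.mem_fixedBy.1 hx).symm
    rw [← orderOf_eq_one_iff]
    refine Nat.eq_one_of_dvd_coprimes hc ?_ (orderOf_dvd_natCard _ hh)
    rw [← Inv.orderOf_conj' x⁻¹ h]
    exact orderOf_dvd_natCard _ (by simpa [mul_assoc] using this)
  have hs : IsCharacter G (π - fun _ => 1) := hπ.sub_irr isIrrCharacter_one (by
    rw [classInner_one_right]
    refine mul_ne_zero (inv_ne_zero (card_ne_zero_complex G)) fun e => ?_
    have : ∑ g : G, Nat.card (MulAction.fixedBy (G ⧸ 𝐂[z]) g) = 0 := Nat.cast_eq_zero.1 ((Nat.cast_sum _ _).trans e)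
    exact Nat.card_pos.ne' (Nat.cast_injective (R := ℂ)
      (π1.symm.trans (congrArg Nat.cast (sum_eq_zero_iff.1 this 1 (mem_univ _))))))
  have f1 := card_mul_fixDim_of_const hπ πH
  have f2 := fixDim_add (A := H) hs isCharacter_one
  rw [sub_add_cancel, fixDim_one] at f2
  have p3 := Nat.card_pos (α := H)
  rw [charDegree_eq_of_apply_one π1, mul_zero, add_zero, f2] at f1
  have f3 := key hs (by
    have : Nat.card H * (fixDim (π - fun _ => 1) H + 1) = Nat.card H := by exact_mod_cast f1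
    nlinarith) (by
    rw [charDegree_eq_of_apply_one (n := Nat.card H - 1) (by rw [Pi.sub_apply, π1, Nat.cast_sub p3, Nat.cast_one])]
    omega)
  have f4 : Nat.card (MulAction.fixedBy (G ⧸ 𝐂[z]) z) = 1 := Nat.cast_eq_one.1 (sub_eq_zero.1 f3 :)
  have f5 := (Nat.card_eq_one_iff_unique.1 f4).1.elim ⟨((1 : G) : G ⧸ 𝐂[z]), QuotientGroup.eq.2 (by simp [mem_cent1])⟩
    ⟨((g : G) : G ⧸ 𝐂[z]), QuotientGroup.eq.2 (mem_cent1.2 (by
      have := hg.inv_left.eq
      calc (z * g)⁻¹ * g * z = g⁻¹ * (z⁻¹ * (g * z * g⁻¹)) * g := by group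
        _ = z * ((z * g)⁻¹ * g) := by rw [this]; group))⟩
  have := mem_cent1.1 (QuotientGroup.eq.1 (congrArg Subtype.val f5))
  rw [inv_one, one_mul] at this
  rw [this, mul_inv_cancel_right]

end Cfsg.Lib.FGS
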