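import Cfsg.Agent.Lib.FGS.Regular
import Cfsg.Agent.Lib.PGroup.Metacyclic
import Cfsg.Agent.Lib.PGroup.Blackburn

/-!
# Huppert's metacyclicity criterion and `p`-groups of rank two, `p` odd
-/

set_option autoImplicit false
set_option linter.unusedSectionVars false

namespace Cfsg.Lib.RkOdd

open Subgroup Cfsg.Lib.PGroup
open scoped commutatorElement

universe u

variable {p : ℕ} [hp : Fact p.Prime]

theorem isMetacyclic_of_hom {G : Type*} [Group G] [Finite G] (hG : IsPGroup p G)
    (h : ∀ x y : G, (x * y) ^ p = x ^ p * y ^ p)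
    (hO : (powerClosure p 1 (⊤ : Subgroup G)).index ≤ p ^ 2)
    (hc : IsCyclic (_root_.commutator G)) : IsMetacyclic G := by
  have h1 := card_powerClosure_mul_card_omegaOne (p := p) (H := ⊤) fun x _ y _ => h x y
  rw [card_top, ← (powerClosure p 1 (⊤ : Subgroup G)).card_mul_index] at h1
  exact isMetacyclic_of_mul_pow hG h (Nat.eq_of_mul_eq_mul_left Nat.card_pos h1 ▸ hO) hc

/-- Huppert: for odd `p`, `[R : ℧₁(R)] ≤ p ^ 2` forces `R` to be metacyclic. -/
theorem isMetacyclic_of_index_le (hp2 : p ≠ 2) (R : Type u) [Group R] [Finite R] :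
    IsPGroup p R → (powerClosure p 1 (⊤ : Subgroup R)).index ≤ p ^ 2 → IsMetacyclic R := by
  refine Core.induction_on_card (P := fun R _ _ => IsPGroup p R →
    (powerClosure p 1 (⊤ : Subgroup R)).index ≤ p ^ 2 → IsMetacyclic R) R ?_
  intro R _ _ ih hR hO
  by_cases h0 : _root_.commutator R = ⊥
  · have hc := (commutator_eq_bot_iff R).mp h0
    exact isMetacyclic_of_hom hR
      (fun x y => (show Commute x y from hc.is_comm.comm x y).mul_pow p) hO (h0 ▸ inferInstance)
  obtain ⟨z, hz1, hz2, hzc, hzp⟩ : ∃ z ∈ _root_.commutator R,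
      (powerClosure p 1 (_root_.commutator R) ≠ ⊥ → z ∈ powerClosure p 1 (_root_.commutator R)) ∧
        z ∈ center R ∧ orderOf z = p := by
    by_cases h1 : powerClosure p 1 (_root_.commutator R) = ⊥
    · obtain ⟨z, h2, h4⟩ := exists_mem_center_orderOf_eq hR _ h0
      exact ⟨z, h2, fun h => (h h1).elim, h4⟩
    · obtain ⟨z, h2, h4⟩ := exists_mem_center_orderOf_eq hR _ h1
      exact ⟨z, powerClosure_le _ _ h2, fun _ => h2, h4⟩
  have hT : (zpowers z).Normal := normal_of_le_center (zpowers_le.mpr hzc)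
  have hT1 : Nat.card (zpowers z) = p := by rw [Nat.card_zpowers, hzp]
  obtain ⟨a, b, h1, h2⟩ := isMetacyclic_iff_exists.mp (ih (R ⧸ zpowers z)
    (Core.card_quotient_lt fun e => by rw [e, card_bot] at hT1; exact hp.out.ne_one hT1.symm)
    (hR.to_quotient _) (by
      refine le_trans ?_ hO
      rw [← index_comap_of_surjective _ (QuotientGroup.mk'_surjective (zpowers z))]
      exact index_antitone (powerClosure_one_le_iff.2 fun x _ => by
        rw [mem_comap, map_pow]; exact pow_mem_powerClosure_one (mem_top _))))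
  obtain ⟨a, rfl⟩ := QuotientGroup.mk'_surjective _ a
  obtain ⟨b, rfl⟩ := QuotientGroup.mk'_surjective _ b
  have hS : (zpowers a ⊔ zpowers z).Normal := by
    rw [← Core.comap_map_mk', MonoidHom.map_zpowers]
    exact (Core.normal_of_top_le_normalizer
      (h2 ▸ sup_le le_normalizer (zpowers_le.mpr h1))).comap _
  rw [← MonoidHom.map_zpowers, ← MonoidHom.map_zpowers, ← Subgroup.map_sup,
    Core.map_mk'_eq_top_iff] at h2
  have hab : zpowers a ⊔ zpowers b = ⊤ := frattini_nongenerating (eq_top_iff.mpr (h2.ge.trans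
    (sup_le_sup_left (zpowers_le.mpr (commutator_le_frattini hR hz1)) _)))
  by_cases hza : z ∈ zpowers a
  · rw [sup_of_le_left (zpowers_le.mpr hza)] at hS
    exact isMetacyclic_iff_exists.mpr ⟨a, b, le_normalizer_of_normal (mem_top b), hab⟩
  have hzn : ∀ H : Subgroup R, z ∈ normalizer (H : Set R) := fun H =>
    centralizer_le_normalizer _ (center_le_centralizer _ hzc)
  have hzp' : z ^ p = 1 := hzp ▸ pow_orderOf_eq_one z
  have hpow : ∀ (i j : ℤ), (a ^ i * z ^ j) ^ p = (a ^ p) ^ i := fun i j => by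
    rw [(show Commute (a ^ i) (z ^ j) from mem_center_iff.mp (zpow_mem hzc j) _).mul_pow,
      ← zpow_natCast (z ^ j), ← zpow_mul, mul_comm j, zpow_mul, zpow_natCast, hzp', one_zpow,
      mul_one, ← zpow_natCast, ← zpow_mul, mul_comm, zpow_mul, zpow_natCast]
  have hU : powerClosure p 1 (zpowers a ⊔ zpowers z) = zpowers (a ^ p) := le_antisymm
    (powerClosure_le_iff.mpr fun x hx => by
      obtain ⟨_, ⟨i, rfl⟩, j, rfl⟩ := (mem_sup_zpowers_iff (hzn _)).mp hx
      rw [pow_one, hpow]
      exact zpow_mem (mem_zpowers _) i)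
    (zpowers_le.mpr (pow_mem_powerClosure_one (mem_sup_left (mem_zpowers a))))
  have hN : (zpowers (a ^ p) ⊔ zpowers z).Normal := by rw [← hU]; infer_instance
  have hcN : ⁅a, b⁆ ∈ zpowers (a ^ p) ⊔ zpowers z := by
    by_cases ha : a ∈ zpowers (a ^ p) ⊔ zpowers z
    · exact commutator_le_left _ ⊤ (commutator_mem_commutator ha (mem_top b))
    have h4 := card_sup_zpowers (le_normalizer_of_normal (mem_top a)) ha
      (mem_sup_left (mem_zpowers _))
    have h5 : zpowers (a ^ p) ⊔ zpowers z ⊔ zpowers a = zpowers a ⊔ zpowers z := by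
      rw [sup_right_comm, sup_of_le_right (zpowers_le.mpr (pow_mem (mem_zpowers a) p))]
    obtain ⟨K, -, h6, h7, h8, h9⟩ := exists_normal_card_eq_mul hR (lt_of_le_of_ne
      (le_sup_left.trans h5.le) fun e => ha (e.ge (mem_sup_left (mem_zpowers a))))
    rw [Core.eq_of_le_of_card_eq h7 (by rw [h8, ← h4, h5])] at h9
    exact h9 (commutator_mem_commutator (mem_sup_left (mem_zpowers a)) (mem_top b))
  have hR' : _root_.commutator R ≤ zpowers (a ^ p) ⊔ zpowers z :=
    commutator_le_of_pair hab le_normalizer_of_normal hcN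
  have hexp : ∀ c ∈ _root_.commutator R, c ^ p = 1 := by
    have : powerClosure p 1 (_root_.commutator R) = ⊥ := by
      by_contra h
      refine hza (zpowers_le.mpr (pow_mem (mem_zpowers a) p) (hU.le (powerClosure_mono
        (hR'.trans (sup_le_sup_right (zpowers_le.mpr (pow_mem (mem_zpowers a) p)) _)) (hz2 h))))
    intro c hc
    exact mem_bot.mp (this ▸ pow_mem_powerClosure_one hc)
  have hca : zpowers (a ^ p) ⊔ zpowers z ≤ centralizer {a} := sup_le
    (zpowers_le.2 (mem_centralizer_singleton_iff.2 ((Commute.refl a).pow_left p)))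
    (zpowers_le.2 (center_le_centralizer _ hzc))
  have hap : a ^ p ∈ center R := by
    have h3 : ⁅b, a⁆ ∈ _root_.commutator R := commutator_mem_commutator (mem_top b) (mem_top a)
    have h4 : b * a ^ p * b⁻¹ = a ^ p := by
      rw [← conj_pow, conj_eq_commutator_mul, (show Commute ⁅b, a⁆ a from
        mem_centralizer_singleton_iff.1 (hca (hR' h3))).mul_pow, hexp _ h3, one_mul]
    refine mem_center_iff.2 fun g => mem_centralizer_singleton_iff.1 ?_
    exact (hab.ge.trans (sup_le (zpowers_le.2 (mem_centralizer_singleton_iff.2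
      ((Commute.refl a).pow_right p))) (zpowers_le.2 (mem_centralizer_singleton_iff.2
        (mul_inv_eq_iff_eq_mul.1 h4))))) (mem_top g)
  have hZ := sup_le (zpowers_le.mpr hap) (zpowers_le.mpr hzc)
  have := normal_of_le_center (zpowers_le.mpr (hZ hcN))
  refine isMetacyclic_of_hom hR (fun x y => mul_pow_of_class_two (hp.out.odd_of_ne_two hp2)
    (commutator_eq_bot_iff_le_centralizer.2 ((hR'.trans hZ).trans (center_le_centralizer _)))
    hexp (mem_top x) (mem_top y)) hO ?_
  rw [_root_.commutator, commutator_eq_zpowers_of_pair hab le_normalizer_of_normal]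
  infer_instance

variable {G : Type*} [Group G] [Finite G] {A V : Subgroup G} {x y a c : G}

/-- In a group whose elements of order `p` are central, equal `p`-th powers are detected by
`Ω₁`. -/
theorem mul_pow_eq_one (hp2 : p ≠ 2) (hG : IsPGroup p G)
    (h : ∀ a ∈ A, a ^ p = 1 → a ∈ centralizer (A : Set G)) (K : Subgroup G) :
    K ≤ A → ∀ x ∈ K, ∀ y ∈ K, x ^ p * y ^ p = 1 → (x * y) ^ p = 1 := by
  induction K using WellFoundedLT.induction with
  | ind K ih =>
    intro hK x hx y hy e
    by_cases hc : Commute x y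
    · rw [hc.mul_pow, e]
    have h1 := RegP.sup_lt hG hc (RegP.left_mem x y)
    have h2 := RegP.pair_le hx hy
    have h3 : ⁅y, x⁆ ∈ ⁅closure ({x, y} : Set G), closure ({x, y} : Set G)⁆ :=
      commutator_mem_commutator (RegP.right_mem x y) (RegP.left_mem x y)
    have h4 := ih _ (h1.trans_le h2) ((h1.le.trans h2).trans hK) (y * x * y⁻¹)
      (conj_eq_commutator_mul y x ▸ mul_mem (mem_sup_right h3) (mem_sup_left (mem_zpowers x)))
      x⁻¹ (mem_sup_left (inv_mem (mem_zpowers x))) (by
        rw [conj_pow, inv_pow, eq_inv_of_mul_eq_one_left e]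
        simp [((Commute.refl y).pow_right p).inv_right.eq])
    have h5 := h _ (hK (mul_mem (mul_mem (mul_mem hy hx) (inv_mem hy)) (inv_mem hx))) h4
    rw [mul_pow_of_odd_of_commute_commutator (hp.out.odd_of_ne_two hp2) (h5 x (hK hx))
      (h5 y (hK hy)) h4, e]

end Cfsg.Lib.RkOdd
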