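import Cfsg.Agent.Lib.FGS.RkOdd

/-!
# `p`-groups of rank two, `p` odd: reduction to a configuration
-/

set_option autoImplicit false
set_option linter.unusedSectionVars false

namespace Cfsg.Lib.RkOdd

open Subgroup Cfsg.Lib.PGroup
open scoped commutatorElement

variable {p : ℕ} [hp : Fact p.Prime] {G : Type*} [Group G] [Finite G] {V : Subgroup G}
  {x y a c w g : G}

/-- A normal elementary abelian subgroup `V` of order `p ^ 2` with `Ω₁(C(V)) = V`. -/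
structure Cfg (p : ℕ) (V : Subgroup G) : Prop where
  hp2 : p ≠ 2
  hG : IsPGroup p G
  nV : V.Normal
  eV : IsElementaryAbelian p V
  cV : Nat.card V = p ^ 2
  hA : ∀ a ∈ centralizer (V : Set G), a ^ p = 1 → a ∈ V

local notation "𝐀" => centralizer (V : Set G)
local notation "𝐙" => ⁅V, (⊤ : Subgroup G)⁆

namespace Cfg

theorem of_rank (hp2 : p ≠ 2) (hG : IsPGroup p G) (hr : PRankLE p 2 G) (hc : ¬ IsCyclic G) :
    ∃ V : Subgroup G, Cfg p V := by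
  obtain ⟨V, -, h1, h2, h3⟩ := exists_normal_elemAb_sq_of_odd hp2 hG ⊤
    fun h => hc (topEquiv.isCyclic.1 h)
  refine ⟨V, hp2, hG, h1, h2, h3, fun a ha e => by_contra fun h => ?_⟩
  have h4 := pRankLE_iff.1 hr _ (elemAb_sup_zpowers h2 ha e)
  rw [card_sup_zpowers (p := p) (le_normalizer_of_normal (mem_top a)) h (e ▸ one_mem _), h3] at h4
  nlinarith [hp.out.one_lt, pow_pos hp.out.pos 2]

variable (h : Cfg p V)
include h

theorem le : V ≤ 𝐀 := elemAb_le_centralizer h.eV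

theorem nA : (𝐀).Normal := have := h.nV; inferInstance

theorem comm (hv : y ∈ V) (ha : a ∈ 𝐀) : Commute y a := ha y hv

theorem semi (ha : a ∈ 𝐀) (hc : c ∈ 𝐀) (e : a ^ p = c ^ p) : a * c⁻¹ ∈ V :=
  h.hA _ (mul_mem ha (inv_mem hc)) (mul_pow_eq_one h.hp2 h.hG
    (fun a ha e _ hb => (h.comm (h.hA a ha e) hb).symm) _ le_rfl a ha _ (inv_mem hc) (by
      rw [inv_pow, e, mul_inv_cancel]))

theorem card_le : Nat.card 𝐀 ≤ p ^ 2 * Nat.card (powerClosure p 1 𝐀) := by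
  have := h.nV
  rw [← card_mul_relIndex h.le, h.cV]
  refine Nat.mul_le_mul_left _ (Nat.card_le_card_of_injective
    (fun q : 𝐀 ⧸ V.subgroupOf 𝐀 => (⟨(q.out : G) ^ p, pow_mem_powerClosure_one q.out.2⟩ :
      powerClosure p 1 𝐀)) fun q r e => ?_)
  rw [← q.out_eq', ← r.out_eq', QuotientGroup.eq, mem_subgroupOf]
  simpa using h.semi (inv_mem q.out.2) (inv_mem r.out.2) (by
    rw [inv_pow, inv_pow, show (q.out : G) ^ p = (r.out : G) ^ p from congrArg Subtype.val e])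

theorem comm_mem (hw : w ∈ 𝐀) (hwp : w ^ p ∈ V) (hg : g ∈ 𝐀) : ⁅g, w⁆ ∈ V :=
  h.semi (mul_mem (mul_mem hg hw) (inv_mem hg)) hw (by
    rw [conj_pow, ← (h.comm hwp hg).eq, mul_inv_cancel_right])

theorem agemo_le (hw : w ∈ 𝐀) (hwp : w ^ p ∈ V) : powerClosure p 1 𝐀 ≤ centralizer {w} :=
  powerClosure_one_le_iff.2 fun g hg => mem_centralizer_singleton_iff.2 <|
    commutatorElement_eq_one_iff_mul_comm.1 <| by
      rw [commutator_pow_left_of_commute (h.comm (h.comm_mem hw hwp hg) hg).symm,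
        h.eV.2 _ (h.comm_mem hw hwp hg)]

theorem metacyclic_of_top (e : 𝐀 = ⊤) : IsMetacyclic G := by
  refine isMetacyclic_of_index_le h.hp2 G h.hG ?_
  have h1 := h.card_le
  rw [e, card_top, ← (powerClosure p 1 (⊤ : Subgroup G)).index_mul_card] at h1
  exact Nat.le_of_mul_le_mul_right h1 Nat.card_pos

variable (hx : x ∉ centralizer (V : Set G))
include hx

theorem idx : (𝐀).index = p := by
  have := h.nV
  rw [← relIndex_top_right]
  exact relIndex_centralizer_eq_of_card_sq (h.hG.to_subgroup ⊤) le_normalizer_of_normal h.cV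
    fun e => hx (e (mem_top x))

theorem pow_memA (g : G) : g ^ p ∈ 𝐀 := have := h.nA; h.idx hx ▸ pow_index_mem _ g

theorem sup_top : 𝐀 ⊔ zpowers x = ⊤ :=
  (isCoatom_of_index_prime (h.idx hx ▸ hp.out)).2 _ (lt_of_le_of_ne le_sup_left
    fun e => hx (e.ge (mem_sup_right (mem_zpowers x))))

theorem card_eq (Z : Subgroup G) (h1 : Z < V) (h2 : Z ≠ ⊥) : Nat.card Z = p := by
  obtain ⟨k, hk, e⟩ := (Nat.dvd_prime_pow hp.out).1 (h.cV ▸ card_dvd_of_le h1.le)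
  have h3 := Core.card_lt_card_of_lt h1
  interval_cases k
  · exact (h2 (card_eq_one.1 e)).elim
  · simpa using e
  · rw [e, h.cV] at h3; omega

theorem Z_lt : 𝐙 < V := by
  have := h.nV
  have := h.hG.isNilpotent
  refine commutator_top_lt V fun e => ?_
  have h1 := h.cV
  rw [e, card_bot] at h1
  exact (Nat.one_lt_pow two_ne_zero hp.out.one_lt).ne h1

theorem Z_ne : 𝐙 ≠ ⊥ := fun e =>
  hx (le_centralizer_iff.1 (commutator_eq_bot_iff_le_centralizer.1 e) (mem_top x))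

theorem cardZ : Nat.card ↥𝐙 = p := h.card_eq hx _ (h.Z_lt hx) (h.Z_ne hx)

theorem Z_le : 𝐙 ≤ center G := have := h.nV; le_center_of_card_eq h.hG _ (h.cardZ hx)

theorem commZ (hy : y ∈ 𝐙) (g : G) : Commute g y := mem_center_iff.1 (h.Z_le hx hy) g

theorem memZ (hy : y ∈ V) (e : Commute x y) : y ∈ 𝐙 := by
  have h1 : 𝐙 ≤ V ⊓ centralizer {x} := le_inf (h.Z_lt hx).le
    ((h.Z_le hx).trans (center_le_centralizer _))
  have h2 : V ⊓ centralizer {x} < V := lt_of_le_of_ne inf_le_left fun e => hx fun v hv =>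
    mem_centralizer_singleton_iff.1 (e.ge hv).2
  rw [Core.eq_of_le_of_card_eq h1 (by
    rw [h.cardZ hx, h.card_eq hx _ h2 fun e => h.Z_ne hx (eq_bot_iff.2 (e ▸ h1))])]
  exact ⟨hy, mem_centralizer_singleton_iff.2 e.symm⟩

omit hx in
theorem comm_memZ (g : G) (hy : y ∈ V) : ⁅g, y⁆ ∈ 𝐙 :=
  commutator_comm V ⊤ ▸ commutator_mem_commutator (mem_top g) hy

theorem Z_eq (hy : y ∈ 𝐙) (h1 : y ≠ 1) : zpowers y = 𝐙 :=
  Core.eq_of_le_of_card_eq (zpowers_le.2 hy) (by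
    rw [h.cardZ hx, Nat.card_zpowers, elemAb_orderOf h.eV ((h.Z_lt hx).le hy) h1])

theorem metacyclic_of_pow (e : x ^ p ∉ powerClosure p 1 𝐀) : IsMetacyclic G := by
  have := h.nA
  refine isMetacyclic_of_index_le h.hp2 G h.hG ?_
  have h1 := h.card_le
  have h2 := card_sup_zpowers (le_normalizer_of_normal (mem_top _)) e
    (pow_mem_powerClosure_one (h.pow_memA hx x))
  have h3 := card_le_of_le (sup_le (powerClosure_mono le_top) (zpowers_le.2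
    (pow_mem_powerClosure_one (mem_top x))) : powerClosure p 1 𝐀 ⊔ zpowers (x ^ p) ≤
      powerClosure p 1 ⊤)
  have h4 := (𝐀).index_mul_card
  rw [h.idx hx, ← (powerClosure p 1 (⊤ : Subgroup G)).index_mul_card] at h4
  refine Nat.le_of_mul_le_mul_right (c := Nat.card (powerClosure p 1 (⊤ : Subgroup G))) ?_
    Nat.card_pos
  rw [← h4]
  calc _ ≤ p * (p ^ 2 * _) := Nat.mul_le_mul_left _ h1
    _ = p ^ 2 * (p * _) := by ring
    _ ≤ _ := Nat.mul_le_mul_left _ (h2 ▸ h3)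

theorem maxClass {n : ℕ} (hn : Nat.card G = p ^ n) (e : ∀ c ∈ 𝐀, Commute x c → c ∈ 𝐙) :
    2 ≤ n ∧ (⊤ : Subgroup G).lowerCentralSeries (n - 2) ≠ ⊥ := by
  have := h.nV
  have := h.nA
  have h1 : 2 ≤ n := (Nat.pow_le_pow_iff_right hp.out.one_lt).1
    (h.cV ▸ hn ▸ card_le_card_group V)
  obtain ⟨m, rfl⟩ := Nat.exists_eq_add_of_le' h1
  refine ⟨h1, maxClass_of_self_centralizing hn (A := 𝐙 ⊔ zpowers x) ?_ (le_antisymm ?_ ?_)⟩
  · rw [card_sup_zpowers (p := p) (le_normalizer_of_normal (mem_top _))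
      (fun e => hx (h.le ((h.Z_lt hx).le e)))
      (e _ (h.pow_memA hx x) ((Commute.refl x).pow_right p)), h.cardZ hx, sq]
  · intro g hg
    obtain ⟨a, ha, k, rfl⟩ := (mem_sup_zpowers_iff (le_normalizer_of_normal (mem_top _))).1
      ((h.sup_top hx).ge (mem_top g))
    refine mul_mem (mem_sup_left (e a ha ?_)) (mem_sup_right (zpow_mem (mem_zpowers x) k))
    have h2 : Commute x (a * x ^ k) := hg x (mem_sup_right (mem_zpowers x))
    simpa using h2.mul_right ((Commute.refl x).zpow_right k).inv_right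
  · have := isMulCommutative_of_le_center (h.Z_le hx)
    have := isMulCommutative_sup_zpowers (A := 𝐙) (x := x) fun y hy => (h.commZ hx hy x).symm
    exact le_centralizer _

theorem exists_c (e : ¬ ∀ c ∈ 𝐀, Commute x c → c ∈ 𝐙) :
    ∃ c ∈ 𝐀, Commute x c ∧ c ∉ V ∧ zpowers (c ^ p) = 𝐙 := by
  push Not at e
  obtain ⟨c, h1, h2, h3⟩ := e
  obtain ⟨k, h4, h5⟩ := exists_pow_not_mem_pow_mem (h.hG c) fun e => h3 (h.memZ hx e h2)
  exact ⟨_, pow_mem h1 _, h2.pow_right _, h4, h.Z_eq hx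
    (h.memZ hx h5 ((h2.pow_right _).pow_right _)) fun e => h4 (h.hA _ (pow_mem h1 _) e)⟩

omit hx in
theorem mem_sup (hc : c ∈ 𝐀) (e : zpowers (c ^ p) = 𝐙) (hw : w ∈ 𝐀) (hwp : w ^ p ∈ 𝐙) :
    ∃ v ∈ V, ∃ k : ℤ, w = v * c ^ k := by
  obtain ⟨k, hk⟩ := mem_zpowers_iff.1 (e.ge hwp)
  exact ⟨_, h.semi hw (zpow_mem hc k) (by
    rw [← hk, ← zpow_natCast, ← zpow_natCast, ← zpow_mul, ← zpow_mul, mul_comm]), k, by simp⟩

theorem key (hc : c ∈ 𝐀) (hxc : Commute x c) (e : zpowers (c ^ p) = 𝐙) (ha : a ∈ 𝐀)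
    (hd : ⁅x, a⁆ ^ p ∈ 𝐙) : ⁅x ^ p, a⁆ = ⁅x, a⁆ ^ p := by
  have := h.nA
  obtain ⟨v, hv, k, e1⟩ := h.mem_sup hc e
    (commutator_le_right ⊤ _ (commutator_mem_commutator (mem_top x) ha)) hd
  have h1 : ⁅x, ⁅x, a⁆⁆ ∈ 𝐙 := by
    rw [e1, commutatorElement_mul_right_eq_mul_conj,
      commutatorElement_eq_one_iff_commute.2 (hxc.zpow_right k)]
    simpa using h.comm_memZ x hv
  obtain ⟨j, hj⟩ := prime_dvd_choose_two hp.out h.hp2
  rw [commutatorElement_def, pow_mul_eq_of_class_three (fun g _ => h.commZ hx h1 g), hj, pow_mul,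
    h.eV.2 _ ((h.Z_lt hx).le h1)]
  group

theorem pow_comm (hw : w ∈ 𝐀) (hwp : w ^ p ∈ V) : ⁅x, w⁆ ^ p = ⁅x, w ^ p⁆ := by
  have := h.nA
  have h1 : x * w * x⁻¹ ∈ 𝐀 := this.conj_mem _ hw x
  have h2 : ⁅w⁻¹, x * w * x⁻¹⁆ ∈ V :=
    h.comm_mem h1 (by rw [conj_pow]; exact h.nV.conj_mem _ hwp x) (inv_mem hw)
  rw [commutatorElement_def, mul_pow_of_odd_of_commute_commutator (hp.out.odd_of_ne_two h.hp2)
    (h.comm h2 h1).symm (h.comm h2 (inv_mem hw)).symm (h.eV.2 _ h2), conj_pow, inv_pow,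
    commutatorElement_def]

theorem metacyclic_caseI (hc : c ∈ 𝐀) (hxc : Commute x c) (e : zpowers (c ^ p) = 𝐙) (hw : w ∈ 𝐀)
    (hwp : w ^ p ∈ V) (hd : ⁅x, w⁆ ∉ V) : IsMetacyclic G := by
  have := h.nA
  refine h.metacyclic_of_pow hx fun e1 => hd (h.hA _
    (commutator_le_right ⊤ _ (commutator_mem_commutator (mem_top x) hw)) ?_)
  rw [← h.key hx hc hxc e hw (h.pow_comm hx hw hwp ▸ h.comm_memZ x hwp)]
  exact commutatorElement_eq_one_iff_mul_comm.2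
    (mem_centralizer_singleton_iff.1 (h.agemo_le hw hwp e1))

omit hx in
theorem cyc (H : Subgroup G) (hc : c ^ p ∈ V)
    (e : ∀ g ∈ H, g ^ p ∈ V → ∃ v ∈ V, ∃ k : ℤ, g = v * c ^ k) :
    ∃ g ∈ H, H ≤ V ⊔ zpowers g := by
  have := h.nV
  have h1 : IsCyclic (H.map (QuotientGroup.mk' V)) := by
    refine isCyclic_of_card_omegaOne_le h.hp2 ((h.hG.to_quotient V).to_subgroup _)
      ((card_le_of_le (omegaOne_le_iff.2 ?_ : _ ≤ zpowers (QuotientGroup.mk' V c))).trans ?_)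
    · rintro _ ⟨g, hg, rfl⟩ e1
      obtain ⟨v, hv, k, rfl⟩ := e g hg ((QuotientGroup.eq_one_iff _).1 e1)
      rw [map_mul, map_zpow, QuotientGroup.mk'_apply V v, (QuotientGroup.eq_one_iff _).2 hv,
        one_mul]
      exact zpow_mem (mem_zpowers _) k
    · rw [Nat.card_zpowers]
      exact orderOf_le_of_pow_eq_one hp.out.pos ((QuotientGroup.eq_one_iff _).2 hc)
  obtain ⟨q, hq⟩ := (Subgroup.isCyclic_iff_exists_zpowers_eq_top _).1 h1
  obtain ⟨g, hg, rfl⟩ : q ∈ H.map (QuotientGroup.mk' V) := hq ▸ mem_zpowers q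
  refine ⟨g, hg, ?_⟩
  rw [sup_comm, ← Core.comap_map_mk', MonoidHom.map_zpowers, hq]
  exact le_comap_map _ _

theorem metacyclic_of_cyc (hc : c ∈ 𝐀) (e : zpowers (c ^ p) = 𝐙) (hg : ⊤ ≤ V ⊔ zpowers g) :
    IsMetacyclic G := by
  have := h.nV
  obtain ⟨v, hv, k, rfl⟩ := (mem_sup_zpowers_iff (le_normalizer_of_normal (mem_top _))).1
    (hg (mem_top c))
  have h1 : 𝐙 ≤ zpowers g := by
    rw [← e, (h.comm hv (by simpa using mul_mem (inv_mem (h.le hv)) hc)).mul_pow, h.eV.2 v hv,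
      one_mul, zpowers_le]
    exact pow_mem (zpow_mem (mem_zpowers g) k) p
  obtain ⟨y, hy, hy'⟩ := SetLike.exists_of_lt (h.Z_lt hx)
  have h2 : 𝐙 ⊔ zpowers y = V := Core.eq_of_le_of_card_eq
    (sup_le (h.Z_lt hx).le (zpowers_le.2 hy)) (by
      rw [card_sup_zpowers (p := p) (le_normalizer_of_normal (mem_top _)) hy'
        (h.eV.2 y hy ▸ one_mem _), h.cardZ hx, h.cV, sq])
  refine isMetacyclic_iff_exists.2 ⟨g, y, mem_normalizer_of_commutator_mem fun m _ =>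
    h1 (commutator_mem_commutator hy (mem_top m)), eq_top_iff.2 (hg.trans (sup_le ?_ le_sup_left))⟩
  exact h2.ge.trans (sup_le_sup_right h1 _)

omit hx in
theorem reduce {n : ℕ} (hn : Nat.card G = p ^ n) : IsMetacyclic G ∨
    (2 ≤ n ∧ (⊤ : Subgroup G).lowerCentralSeries (n - 2) ≠ ⊥) ∨
      ∃ x ∉ 𝐀, x ^ p = 1 ∧ ∀ a ∈ 𝐀, ⁅x, a⁆ ∈ V := by
  have := h.nA
  by_cases h0 : 𝐀 = ⊤
  · exact .inl (h.metacyclic_of_top h0)
  obtain ⟨x, hx⟩ : ∃ x, x ∉ 𝐀 := by simpa [eq_top_iff'] using h0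
  by_cases h1 : ∃ x ∉ 𝐀, ∀ c ∈ 𝐀, Commute x c → c ∈ 𝐙
  · obtain ⟨x, hx, e⟩ := h1
    exact .inr (.inl (h.maxClass hx hn e))
  have hc := fun x hx => h.exists_c (x := x) hx fun e => h1 ⟨x, hx, e⟩
  by_cases h2 : ∃ x ∉ 𝐀, ∃ w ∈ 𝐀, w ^ p ∈ V ∧ ⁅x, w⁆ ∉ V
  · obtain ⟨x, hx, w, hw, hwp, hd⟩ := h2
    obtain ⟨c, h3, h4, -, h5⟩ := hc x hx
    exact .inl (h.metacyclic_caseI hx h3 h4 h5 hw hwp hd)
  push Not at h2
  have hZ : ∀ w ∈ 𝐀, w ^ p ∈ V → w ^ p ∈ 𝐙 := fun w hw hwp => h.memZ hx hwp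
    (commutatorElement_eq_one_iff_commute.1 (by
      rw [← h.pow_comm hx hw hwp, h.eV.2 _ (h2 x hx w hw hwp)]))
  obtain ⟨c, h3, -, -, h5⟩ := hc x hx
  have h6 : c ^ p ∈ V := (h.Z_lt hx).le (h5.le (mem_zpowers _))
  by_cases h7 : ∃ g ∉ 𝐀, g ^ p ∈ V
  swap
  · push Not at h7
    obtain ⟨g, -, hg⟩ := h.cyc ⊤ h6 fun g _ e =>
      have hg : g ∈ 𝐀 := by_contra fun h8 => h7 g h8 e
      h.mem_sup h3 h5 hg (hZ g hg e)
    exact .inl (h.metacyclic_of_cyc hx h3 h5 hg)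
  obtain ⟨b, hb, hb'⟩ := h.cyc 𝐀 h6 fun g hg e => h.mem_sup h3 h5 hg (hZ g hg e)
  have := h.eV.1
  have hab := PGroup.isMulCommutative_iff.1
    (isMulCommutative_of_le hb' (isMulCommutative_sup_zpowers hb))
  obtain ⟨g, hg, hgp⟩ := h7
  obtain ⟨c, h3, h4, -, h5⟩ := hc g hg
  obtain ⟨k, hk⟩ := mem_zpowers_iff.1 (h5.ge (h.memZ hg hgp ((Commute.refl g).pow_right p)))
  have h8 : g * (c ^ k)⁻¹ ∉ 𝐀 := fun e => hg (by simpa using mul_mem e (zpow_mem h3 k))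
  have h9 : (g * (c ^ k)⁻¹) ^ p = 1 := by
    rw [(h4.zpow_right k).inv_right.mul_pow, ← hk, inv_pow, ← zpow_natCast (c ^ k), ← zpow_natCast,
      ← zpow_mul, ← zpow_mul, mul_comm k, mul_inv_cancel]
  have h10 := h4.mul_left ((Commute.refl c).zpow_left k).inv_left
  refine .inr (.inr ⟨_, h8, h9, fun a ha => ?_⟩)
  generalize g * (c ^ k)⁻¹ = x at h8 h9 h10
  obtain ⟨m, hm⟩ := h.hG a
  induction m generalizing a with
  | zero => simp [show a = 1 by simpa using hm]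
  | succ m ih =>
    have hd : ⁅x, a⁆ ∈ 𝐀 := commutator_le_right ⊤ _ (commutator_mem_commutator (mem_top x) ha)
    have h11 := ih (a ^ p) (pow_mem ha p) (by rw [← pow_mul, ← pow_succ', hm])
    rw [commutator_pow_right_of_commute (hab _ ha _ hd)] at h11
    refine h.hA _ hd ?_
    rw [← h.key h8 h3 h10 h5 ha (hZ _ hd h11), h9, commutatorElement_one_left]

theorem exists_z {m : ℕ} (hn : Nat.card G = p ^ (m + 2)) (e : ∀ a ∈ 𝐀, ⁅x, a⁆ ∈ V) :
    ∃ z ∈ 𝐀, orderOf z = p ^ m ∧ 𝐙 ≤ zpowers z ∧ (∀ v ∈ V, v ∈ zpowers z → v ∈ 𝐙) ∧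
      (⁅x, z⁆ ∈ 𝐙 → ⁅x, z⁆ = 1) := by
  let f : 𝐀 →* G := MonoidHom.mk' (fun a => ⁅x, (a : G)⁆) fun a b =>
    commutator_mul_right_of_commute (h.comm (e b b.2) a.2).symm
  have hR : f.range ≤ V := by rintro _ ⟨a, rfl⟩; exact e a a.2
  obtain ⟨y, hy, hy'⟩ := SetLike.exists_of_lt (h.Z_lt hx)
  obtain ⟨W, h1, h2, h3⟩ := elemAb_exists_complement (elemAb_of_le h.eV hR) (B := 𝐙) (by
    rw [← h.Z_eq hx (h.comm_memZ x hy) fun e =>
      hy' (h.memZ hx hy (commutatorElement_eq_one_iff_commute.1 e)), zpowers_le]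
    exact ⟨⟨y, h.le hy⟩, rfl⟩)
  have hi : (W.comap f).index = p := by
    have h4 := card_inf_mul_relIndex W 𝐙
    rw [inf_comm, h2, card_bot, one_mul, h.cardZ hx] at h4
    rw [index_comap, ← h3, sup_comm, relIndex_sup_of_le_normalizer
      ((h.Z_le hx).trans ((center_le_centralizer _).trans (centralizer_le_normalizer _))), h4]
  have hB : ∀ v ∈ V, v ∈ (W.comap f).map (𝐀).subtype → v ∈ 𝐙 := by
    rintro _ hv ⟨a, ha, rfl⟩
    exact h.memZ hx hv (commutatorElement_eq_one_iff_commute.1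
      (mem_bot.1 (h2.le ⟨h.comm_memZ x hv, ha⟩)))
  have hc : IsCyclic ((W.comap f).map (𝐀).subtype) :=
    isCyclic_of_card_omegaOne_le h.hp2 (h.hG.to_subgroup _) ((card_le_of_le (omegaOne_le_iff.2
      fun b hb e => hB b (h.hA b (map_subtype_le _ hb) e) hb)).trans (h.cardZ hx).le)
  obtain ⟨z, hz⟩ := (Subgroup.isCyclic_iff_exists_zpowers_eq_top _).1 hc
  obtain ⟨z, hzW, rfl⟩ : z ∈ (W.comap f).map (𝐀).subtype := hz ▸ mem_zpowers z
  refine ⟨z, z.2, ?_, fun v hv => hz.ge ⟨⟨v, h.le ((h.Z_lt hx).le hv)⟩, ?_, rfl⟩,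
    fun v hv e => hB v hv (hz.le e), fun e => mem_bot.1 (h2.le ⟨e, hzW⟩)⟩
  · have h4 := (𝐀).index_mul_card
    rw [← (W.comap f).index_mul_card, hi, h.idx hx, hn, ← card_subtype, ← hz,
      Nat.card_zpowers, pow_succ', pow_succ'] at h4
    exact Nat.eq_of_mul_eq_mul_left hp.out.pos (Nat.eq_of_mul_eq_mul_left hp.out.pos h4)
  · change ⁅x, v⁆ ∈ W
    rw [commutatorElement_eq_one_iff_commute.2 (h.commZ hx hv x)]
    exact one_mem _

theorem gen {m : ℕ} {z : G} (hn : Nat.card G = p ^ (m + 2)) (hz : z ∈ 𝐀) (ho : orderOf z = p ^ m)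
    (hy : y ∈ V) (hyz : y ∉ zpowers z) : closure ({x, y, z} : Set G) = ⊤ := by
  have h1 : zpowers z ⊔ zpowers y = 𝐀 := Core.eq_of_le_of_card_eq
    (sup_le (zpowers_le.2 hz) (zpowers_le.2 (h.le hy))) (by
      have h4 := (𝐀).index_mul_card
      rw [h.idx hx, hn, pow_succ'] at h4
      rw [card_sup_zpowers (p := p) (centralizer_le_normalizer _ fun b hb =>
        (h.comm hy (zpowers_le.2 hz hb)).symm) hyz (h.eV.2 y hy ▸ one_mem _), Nat.card_zpowers, ho,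
        Nat.eq_of_mul_eq_mul_left hp.out.pos h4, pow_succ'])
  rw [eq_top_iff, ← h.sup_top hx, ← h1]
  simp only [sup_le_iff, zpowers_le]
  refine ⟨⟨?_, ?_⟩, ?_⟩ <;> exact subset_closure (by simp)

theorem types {n : ℕ} (hn : Nat.card G = p ^ n) (hxp : x ^ p = 1) (e : ∀ a ∈ 𝐀, ⁅x, a⁆ ∈ V) :
    (3 ≤ n ∧ ∃ x y z : G, closure ({x, y, z} : Set G) = ⊤ ∧ x ^ p = 1 ∧ y ^ p = 1 ∧
      z ^ p ^ (n - 2) = 1 ∧ x * z = z * x ∧ y * z = z * y ∧ x⁻¹ * y * x = y * z ^ p ^ (n - 3)) ∨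
    (4 ≤ n ∧ ∃ (s : ℕ) (x y z : G), (s = 1 ∨ ¬ IsSquare (s : ZMod p)) ∧
      closure ({x, y, z} : Set G) = ⊤ ∧ x ^ p = 1 ∧ y ^ p = 1 ∧ z ^ p ^ (n - 2) = 1 ∧
      y * z = z * y ∧ x⁻¹ * y * x = y * z ^ (s * p ^ (n - 3)) ∧ x⁻¹ * z * x = y * z) := by
  have := h.nA
  obtain ⟨m, rfl⟩ := Nat.exists_eq_add_of_le' ((Nat.pow_le_pow_iff_right hp.out.one_lt).1
    (h.cV ▸ hn ▸ card_le_card_group V) : 2 ≤ n)
  obtain ⟨z, hz, ho, h1, h2, h3⟩ := h.exists_z hx hn e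
  obtain _ | m := m
  · rw [orderOf_eq_one_iff.1 ho, zpowers_one_eq_bot] at h1
    exact (h.Z_ne hx (eq_bot_iff.2 h1)).elim
  have hz1 : z ^ p ^ (m + 1) = 1 := ho ▸ pow_orderOf_eq_one z
  have hz2 : z ^ p ^ m ≠ 1 := pow_ne_one_of_lt_orderOf (pow_pos hp.out.pos m).ne'
    (ho ▸ Nat.pow_lt_pow_right hp.out.one_lt m.lt_succ_self)
  have hz3 : z ^ p ^ m ∈ 𝐙 := h2 _ (h.hA _ (pow_mem hz _) (by rw [← pow_mul, ← pow_succ, hz1]))
    (pow_mem (mem_zpowers z) _)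
  have hne : ∀ y ∈ V, y ∉ 𝐙 → ⁅x, y⁆ ≠ 1 := fun y hy hy' e =>
    hy' (h.memZ hx hy (commutatorElement_eq_one_iff_commute.1 e))
  by_cases h4 : ⁅x, z⁆ = 1
  · obtain ⟨y, hy, hy'⟩ := SetLike.exists_of_lt (h.Z_lt hx)
    obtain ⟨k, hk⟩ := mem_zpowers_iff.1 ((h.Z_eq hx (h.comm_memZ x hy) (hne y hy hy')).ge hz3)
    rw [← commutator_zpow_right_of_commute (h.commZ hx (h.comm_memZ x hy) y)] at hk
    refine .inl ⟨by omega, x⁻¹, y ^ k, z, h.gen (by simpa using hx) hn hz ho (zpow_mem hy k)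
      fun e => hz2 ?_, by rw [inv_pow, hxp, inv_one], h.eV.2 _ (zpow_mem hy k), hz1,
      (commutatorElement_eq_one_iff_commute.1 h4).inv_left, h.comm (zpow_mem hy k) hz, ?_⟩
    · exact hk ▸ commutatorElement_eq_one_iff_commute.2 (h.commZ hx (h2 _ (zpow_mem hy k) e) x)
    · rw [inv_inv, conj_eq_commutator_mul, hk, ← (h.commZ hx hz3 _).eq]
      rfl
  have hy := e z hz
  have hy' := mt h3 h4
  obtain ⟨k, hk⟩ := (Submonoid.mem_powers_iff _ _).1 (mem_powers_iff_mem_zpowers.2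
    ((h.Z_eq hx hz3 hz2).ge (h.comm_memZ x hy)))
  have hop := elemAb_orderOf h.eV ((h.Z_lt hx).le hz3) hz2
  have hk0 : (k : ZMod p) ≠ 0 := fun e => hne _ hy hy' (by
    rw [← hk, ← orderOf_dvd_iff_pow_eq_one, hop]; exact (ZMod.natCast_eq_zero_iff _ _).1 e)
  obtain ⟨a, s, ha, hs, has⟩ : ∃ a s : ℕ, (a : ZMod p) ≠ 0 ∧ (s = 1 ∨ ¬ IsSquare (s : ZMod p)) ∧
      ((k * a * a : ℕ) : ZMod p) = s := by
    by_cases h5 : IsSquare (k : ZMod p)
    · obtain ⟨r, hr⟩ := h5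
      have : r ≠ 0 := fun e => hk0 (by simp [hr, e])
      exact ⟨r⁻¹.val, 1, by simpa, .inl rfl, by simp [hr]; field_simp⟩
    · exact ⟨1, k, by simp, .inr h5, by simp⟩
  have hc := h.comm_memZ x hy
  have h5 : ⁅x ^ a, z⁆ = ⁅x, ⁅x, z⁆⁆ ^ a.choose 2 * ⁅x, z⁆ ^ a := by
    rw [commutatorElement_def, pow_mul_eq_of_class_three (fun g _ => h.commZ hx hc g)]
    group
  have h6 : ⁅x ^ a, z⁆ ∈ V := h5 ▸ mul_mem (pow_mem ((h.Z_lt hx).le hc) _) (pow_mem hy _)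
  have h7 : ⁅x ^ a, ⁅x ^ a, z⁆⁆ = z ^ (s * p ^ m) := by
    rw [commutator_pow_left_of_commute (h.commZ hx (h.comm_memZ x h6) x), h5,
      commutator_mul_right_of_commute (h.commZ hx (h.comm_memZ x (pow_mem hy _)) _),
      commutatorElement_eq_one_iff_commute.2 (h.commZ hx (pow_mem hc _) x), one_mul,
      commutator_pow_right_of_commute (h.commZ hx hc _), ← hk, mul_comm s, pow_mul z, ← pow_mul,
      ← pow_mul, ← mul_assoc, pow_eq_pow_iff_modEq, hop]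
    exact (ZMod.natCast_eq_natCast_iff _ _ _).1 has
  have h8 : x ^ a ∉ 𝐀 := fun e => ha ((ZMod.natCast_eq_zero_iff _ _).2 (by
    exact_mod_cast (zpow_mem_iff_dvd hx (h.pow_memA hx x) a).1 (by simpa using e)))
  refine .inr ⟨?_, s, (x ^ a)⁻¹, ⁅x ^ a, z⁆, z, hs, h.gen (by simpa using h8) hn hz ho h6
    fun e => ?_, by rw [inv_pow, ← pow_mul, mul_comm, pow_mul, hxp, one_pow, inv_one],
    h.eV.2 _ h6, hz1, h.comm h6 hz, ?_, by rw [inv_inv, conj_eq_commutator_mul]⟩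
  · obtain _ | m := m
    · exact (h4 (commutatorElement_eq_one_iff_commute.2 (h.commZ hx (by simpa using hz3) x))).elim
    · omega
  · rw [commutatorElement_eq_one_iff_commute.2 (h.commZ hx (h2 _ h6 e) _), mul_comm, pow_mul,
      eq_comm, ← orderOf_dvd_iff_pow_eq_one, hop, ← ZMod.natCast_eq_zero_iff, ← has] at h7
    simp [hk0, ha] at h7
  · rw [inv_inv, conj_eq_commutator_mul, h7, (h.comm h6 (pow_mem hz _)).eq]
    rfl

omit hx in
theorem reduce_of_three_lt (h3 : 3 < p) (hr : PRankLE p 2 G) : IsMetacyclic G ∨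
    ∃ x ∉ 𝐀, x ^ p = 1 ∧ ∀ a ∈ 𝐀, ⁅x, a⁆ ∈ V := by
  have := h.nA
  by_cases h1 : omegaOne p ⊤ ≤ V
  · exact .inl (isMetacyclic_of_card_omegaOne_le h3 G h.hG (h.cV ▸ card_le_of_le h1))
  obtain ⟨x, hx, hx'⟩ := SetLike.not_le_iff_exists.1 h1
  have he := fun g => pow_eq_one_of_mem_omegaOne_of_rank_two h3 (h.hG.to_subgroup ⊤)
    (pRankLE_top_iff.2 hr) (g := g)
  exact .inr ⟨x, fun e => hx' (h.hA x e (he x hx)), he x hx, fun a ha => h.hA _
    (commutator_le_right ⊤ _ (commutator_mem_commutator (mem_top x) ha))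
    (he _ (commutator_le_left _ ⊤ (commutator_mem_commutator hx (mem_top a))))⟩

end Cfg

end Cfsg.Lib.RkOdd
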