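import Mathlib

set_option autoImplicit false
set_option synthInstance.maxSize 1024

/-! Small computations in `Z₂ × S₄`. -/

namespace Cfsg.Lib.FGS.ZS4
open Equiv

abbrev X := Multiplicative (ZMod 2) × Perm (Fin 4)
instance decX : DecidableEq X := inferInstance
instance finX : Fintype X := inferInstance
def τ : X := (Multiplicative.ofAdd 1, 1)
def z0 : X := (1, swap 0 2 * swap 1 3)
def a0 : X := (1, swap 0 1 * swap 1 2 * swap 2 3)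
def c0 : X := (1, swap 0 2)
def ρ0 : X := (1, swap 0 1 * swap 1 2)

theorem x1 : ∀ x : X, (∀ y, x * y = y * x) → x = 1 ∨ x = τ := by decide +kernel
theorem x2 : ∀ x : X, x * τ = τ * x := by decide +kernel
theorem x3 : ∀ x : X, x * z0 = z0 * x → ∀ y : X, y * z0 = z0 * y →
    x * y * x⁻¹ * y⁻¹ = 1 ∨ x * y * x⁻¹ * y⁻¹ = z0 := by decide +kernel
theorem x4 : ∀ x : X, x * z0 = z0 * x → x.1 = 1 → x * x = 1 → x = 1 ∨ (∃ g, g * z0 * g⁻¹ = x) ∨ ∃ g, g * c0 * g⁻¹ = x := by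
  decide +kernel
theorem x5 : ∀ x : X, x * z0 = z0 * x → ∃ v, (∃ y w, v = y * w * y⁻¹ * w⁻¹) ∧
    (x = v ∨ x = v * c0 ∨ x = v * τ ∨ x = v * τ * c0) := by decide +kernel
theorem x6 : (Finset.univ.filter fun x : X => x * z0 = z0 * x).card = 16 := by decide +kernel
theorem x7 : a0 ^ 4 = 1 ∧ a0 ^ 2 = z0 ∧ z0 ≠ 1 ∧ c0 * c0 = 1 ∧ c0 * a0 * c0⁻¹ = a0⁻¹ ∧ τ * τ = 1 ∧ τ ≠ 1 ∧ z0 * z0 = 1
    ∧ τ ≠ z0 ∧ ρ0 ^ 3 = 1 ∧ ρ0 ≠ 1 ∧ (ρ0 * z0 * ρ0⁻¹ * z0⁻¹) ^ 2 = 1 ∧ ρ0 * z0 * ρ0⁻¹ * z0⁻¹ ≠ 1 ∧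
    a0 * c0 * a0⁻¹ * c0⁻¹ = z0 ∧ c0 * z0 = z0 * c0 ∧ a0 * z0 = z0 * a0 := by decide +kernel

theorem x8 : ∀ i : Fin 4, c0 ≠ a0 ^ i.1 ∧ τ * c0 ≠ a0 ^ i.1 ∧ c0 ≠ (τ * a0) ^ i.1 ∧ τ * c0 ≠ (τ * a0) ^ i.1 := by
  decide +kernel
theorem x9 : ∀ x : X, x.1 = 1 ∨ (x * τ).1 = 1 := by decide +kernel

end Cfsg.Lib.FGS.ZS4
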